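/-
Project HAY: Hayden's characterisation of `PSp₄(3^m)`, `m > 1` odd, by the centraliser of a `3`-central element
(S3302, S3241).  Definitions and the statements of the parts.
-/
import Cfsg.Agent.Base
import Cfsg.Prelude.Def_Classical
import Cfsg.Prelude.Def_CaseTheorems
import Cfsg.Prelude.Def_TwoFusion
import Cfsg.Statements.S3212

set_option autoImplicit false

open Subgroup Matrix
open scoped MatrixGroups commutatorElement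

namespace CL.Hay

universe u v

/-- `|F| = 3 ^ m` with `m > 1` odd. -/
def Fq (F : Type v) [Fintype F] : Prop := ∃ m, Odd m ∧ 1 < m ∧ Fintype.card F = 3 ^ m

/-- the centraliser `C = q^{1+2} : SL₂(q)` in coordinates; `C = C(z)` for all `1 ≠ z ∈ Z(C)`. -/
structure Loc (G : Type u) [Group G] (F : Type v) [Field F] where
  zz : F → G
  qq : (Fin 2 → F) → G
  ll : SL(2, F) →* G
  zz_add : ∀ a b, zz (a + b) = zz a * zz b
  qq_mul : ∀ v w, qq v * qq w = qq (v + w) * zz (v 0 * w 1 - v 1 * w 0)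
  ll_qq : ∀ g v, ll g * qq v * (ll g)⁻¹ = qq (g.1 *ᵥ v)
  zz_qq : ∀ a v, Commute (zz a) (qq v)
  zz_ll : ∀ a g, Commute (zz a) (ll g)
  inj : ∀ a v g, zz a * qq v * ll g = 1 → a = 0 ∧ v = 0 ∧ g = 1
  cen : ∀ a, a ≠ 0 → ∀ x, Commute x (zz a) → ∃ b v g, x = zz b * qq v * ll g

section Mat

variable {F : Type v} [Field F]

/-- upper unitriangular matrices -/
def uu (d : F) : SL(2, F) := ⟨!![1, d; 0, 1], by simp [det_fin_two]⟩
/-- an element of order `4` -/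
def ii (F : Type v) [Field F] : SL(2, F) := ⟨!![0, 1; -1, 0], by simp [det_fin_two]⟩
/-- in characteristic `3`, `ii` and `jj` generate a quaternion group normalised by `uu 1`. -/
def jj (F : Type v) [Field F] : SL(2, F) := uu 1 * ii F * (uu 1)⁻¹

end Mat

namespace Loc

variable {G : Type u} [Group G] {F : Type v} [Field F] (X : Loc G F)

/-- `Z = Z(C)` -/
def Z : Subgroup G := closure (Set.range X.zz)
/-- `Q = O₃(C)` -/
def Q : Subgroup G := closure (Set.range X.qq) ⊔ X.Z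
/-- `L = SL₂(q)` -/
def L : Subgroup G := X.ll.range
/-- `C` -/
def C : Subgroup G := centralizer {X.zz 1}
/-- `H = N(Z)` -/
def H : Subgroup G := normalizer (X.Z : Set G)
/-- the involution of `L` -/
def t : G := X.ll (-1)
/-- `C(t)` -/
def X₀ : Subgroup G := centralizer {X.t}
/-- the elementary abelian subgroup of order `q³` -/
def M : Set G := {x | ∃ a b d, x = X.zz a * X.qq ![b, 0] * X.ll (uu d)}
/-- a quaternion Sylow `2`-subgroup of `L` -/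
def R : Subgroup G := closure {X.ll (ii F), X.ll (jj F)}
/-- `C(R)` -/
def Y : Subgroup G := centralizer (X.R : Set G)
/-- an element of order `3` normalising `R` -/
def ρ : G := X.ll (uu 1)

/-- `N(Z)` controls the fusion in `M` (the `3`-closed case). -/
def SC : Prop := ∀ x ∈ X.M, ∀ y ∈ X.M, IsConj x y → ∃ h ∈ X.H, h * x * h⁻¹ = y

/-- the other case: `Z` and `U` are interchanged in `C(t)`, and no element of `Z` is real. -/
def OP : Prop :=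
  (∃ w, Commute w X.t ∧ (∀ a, ∃ d, w * X.zz a * w⁻¹ = X.ll (uu d)) ∧ ∀ d, ∃ a, w * X.ll (uu d) * w⁻¹ = X.zz a) ∧
    ∀ h a, a ≠ 0 → h * X.zz a * h⁻¹ ≠ X.zz (-a)

/-- the conjugates of `t` in `N(Z) ∩ C(t)` lie in `C`. -/
def Out : Prop := ∀ s ∈ X.H, Commute s X.t → IsConj s X.t → s ∈ X.C

/-- `C(R) / ⟨t⟩` looks like `L₂(q)`. -/
structure YF : Prop where
  card : Nat.card X.Y = Nat.card F * (Nat.card F ^ 2 - 1)
  perf : X.Y ≤ ⁅X.Y, X.Y⁆ ⊔ zpowers X.t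
  rho : ∀ y ∈ X.Y, Commute X.ρ y
  card_syl : ∀ P : Sylow 2 X.Y, Nat.card P = 8
  sq : ∀ y ∈ X.Y, IsPGroup 2 (zpowers y) → y * y = 1 ∨ y * y = X.t
  three : ∀ P : Sylow 2 X.Y, ∃ k ∈ X.Y, ∃ a, a ≠ 0 ∧
    k * X.zz a * k⁻¹ ∈ normalizer (((P : Subgroup X.Y).map X.Y.subtype : Subgroup G) : Set G) ∧
    ∀ x ∈ (P : Subgroup X.Y).map X.Y.subtype, ⁅k * X.zz a * k⁻¹, x⁆ ∈ zpowers X.t → x ∈ zpowers X.t
  inv : ∀ P : Sylow 2 X.Y, ∀ τ ∈ normalizer (X.Y : Set G), Commute τ X.t → (∀ a, τ * X.zz a * τ⁻¹ = X.zz (-a)) →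
    ∃ x ∈ (P : Subgroup X.Y).map X.Y.subtype, ⁅τ, x⁆ ∉ zpowers X.t

end Loc

/-- a simple group of order `q (q² - 1) / 2` with the Sylow `3`-subgroup `B`. -/
structure CCL {Γ : Type u} [Group Γ] (B : Subgroup Γ) : Prop where
  simple : IsSimpleGroup Γ
  card : 2 * Nat.card Γ = Nat.card B * (Nat.card B ^ 2 - 1)
  nor : ∃ h ∈ normalizer (B : Set Γ), h ∉ B
  aut : ∀ α : MulAut Γ, (∀ b ∈ B, α b = b) → ∃ b ∈ B, ∀ x, α x = b * x * b⁻¹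
  card_syl : ∀ V : Sylow 2 Γ, Nat.card V = 4
  sq : ∀ x : Γ, IsPGroup 2 (zpowers x) → x * x = 1
  three : ∀ V : Sylow 2 Γ, ∃ k, ∃ b ∈ B, b ≠ 1 ∧ k * b * k⁻¹ ∈ normalizer ((V : Subgroup Γ) : Set Γ) ∧
    ∀ x ∈ (V : Subgroup Γ), Commute (k * b * k⁻¹) x → x = 1
  inv : ∀ (V : Sylow 2 Γ) (α : MulAut Γ), (∀ b ∈ B, α b = b⁻¹) → ∃ x ∈ (V : Subgroup Γ), α x ≠ x

/-- (HAY-CC) an elementary abelian `3`-subgroup which is the centraliser of each of its nonidentity elements, none of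
which is real. -/
def CCThm : Prop := ∀ (Γ : Type u) [Group Γ] [Finite Γ] (B : Subgroup Γ), 3 < Nat.card B → (∀ b ∈ B, b ^ 3 = 1) →
  (∀ b ∈ B, b ≠ 1 → centralizer {b} = B) → (∀ b ∈ B, b ≠ 1 → ∀ g, g * b * g⁻¹ ≠ b⁻¹) → B.Normal ∨ CCL B

/-- (HAY-WR) a Sylow `2`-subgroup `2² ≀ 2`. -/
def WRThm : Prop := ∀ (Γ : Type u) [Group Γ] [Finite Γ] (V₁ V₂ : Subgroup Γ) (w ρ : Γ), Nat.card V₁ = 4 →
  (∀ v ∈ V₁, v * v = 1) → w * w = 1 → (∀ v, v ∈ V₂ ↔ w * v * w⁻¹ ∈ V₁) → (∀ a ∈ V₁, ∀ b ∈ V₂, Commute a b) →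
  V₁ ⊓ V₂ = ⊥ → ρ ∈ normalizer (V₁ : Set Γ) → (∀ v ∈ V₁, Commute ρ v → v = 1) → (∀ v ∈ V₂, Commute ρ v) →
  (∀ g ∈ normalizer ((V₁ ⊔ V₂ : Subgroup Γ) : Set Γ), g ∈ normalizer (V₁ : Set Γ) ∨ w * g ∈ normalizer (V₁ : Set Γ)) →
  (∀ g ∈ normalizer (V₁ : Set Γ), g ∈ normalizer (V₂ : Set Γ) → IsPGroup 2 (zpowers g) → g ∈ V₁ ⊔ V₂) →
  (∀ v ∈ V₁, ∀ a ∈ V₁, ∀ b ∈ V₂, a ≠ 1 → b ≠ 1 → ¬ IsConj v (a * b)) →
  ∃ Γ₀ : Subgroup Γ, Γ₀.index = 2 ∧ w ∉ Γ₀ ∧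
    ∀ g ∈ Γ₀, ∀ a ∈ V₁, ∀ b ∈ V₂, ⁅g * a * g⁻¹, b⁆ ∈ Cfsg.oddCore Γ

/-- quantification over the local data. -/
def All (P : ∀ (G : Type u) [Group G] (F : Type v) [Field F] [Fintype F], Loc G F → Prop) : Prop :=
  ∀ (G : Type u) [Group G] [Finite G] (F : Type v) [Field F] [Fintype F] (X : Loc G F), Fq F → P G F X

/-- (HAY-Y) the structure of `C(R)`. -/
def YThm : Prop := All.{u, v} fun _ _ _ _ _ X => X.Y ≤ X.H ∨ X.YF

/-- (HAY-I) the case `C(R) ≤ N(Z)`. -/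
def Iso1 : Prop := All.{u, v} fun _ _ _ _ _ X => X.Y ≤ X.H → X.Out → Cfsg.IsIsolatedInvolution X.t

/-- (HAY-I) the case `O(G) ≠ 1`. -/
def OddQ : Prop := All.{u, v} fun G _ _ _ _ X =>
  (Cfsg.IsIsolatedInvolution X.t ∨ X.X₀ ⊔ Cfsg.oddCore G = ⊤) → ∃ a, a ≠ 0 ∧ ∀ g, g * X.zz a * g⁻¹ ∈ X.Q

/-- (HAY-I) -/
def OutThm : Prop := All.{u, v} fun _ _ _ _ _ X => X.SC → X.Out

/-- (HAY-1) the `3`-closed case with `C(R) / ⟨t⟩ ≅ L₂(q)`. -/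
def Iso2 : Prop := All.{u, v} fun _ _ _ _ _ X => X.SC → X.Out → X.YF → Cfsg.IsIsolatedInvolution X.t

/-- the `3`-closed case. -/
def ClosedThm : Prop := All.{u, v} fun _ _ _ _ _ X => X.SC → X.C.Normal

/-- (HAY-2) the other case. -/
def OpenThm : Prop := All.{u, v} fun G _ F _ _ X => X.OP → Nonempty (G ≃* Cfsg.PSp 2 F)

/-- the Fong–Wong–Harris theorem. -/
def FW : Prop := type_of% @Cfsg.CfsgFrozen.S3212.{u, v, v}

end CL.Hay
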