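/-
Project HAY: basic consequences of the local data.
-/
import Cfsg.Agent.Hay.Defs
import Cfsg.Agent.Cls.SLnCard
import Cfsg.Agent.Grp.SylowIn

set_option autoImplicit false
set_option linter.unusedSectionVars false

open Subgroup Matrix CL.Grp
open scoped MatrixGroups commutatorElement

namespace CL.Hay

variable {G : Type*} [Group G] {F : Type*} [Field F]

/-! ### the field and matrices -/

theorem uu_val (d : F) : (uu d).1 = !![1, d; 0, 1] := rfl
theorem ii_val : (ii F).1 = !![0, 1; -1, 0] := rfl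
theorem val_mul (g h : SL(2, F)) : (g * h).1 = g.1 * h.1 := rfl
theorem val_mul_inv (g : SL(2, F)) : g.1 * (g⁻¹).1 = 1 := congrArg Subtype.val (mul_inv_cancel g)

theorem uu_mul (a b : F) : uu a * uu b = uu (a + b) := by
  ext i j; fin_cases i <;> fin_cases j <;> simp [uu_val, Matrix.mul_apply, Fin.sum_univ_two, add_comm]

theorem uu_zero : uu (0 : F) = 1 := by ext i j; fin_cases i <;> fin_cases j <;> simp [uu_val]

theorem uu_inv (a : F) : (uu a)⁻¹ = uu (-a) := inv_eq_of_mul_eq_one_right (by rw [uu_mul, add_neg_cancel, uu_zero])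

namespace Fq

variable [Fintype F] (hF : Fq F)
include hF

theorem three : (3 : F) = 0 := by
  obtain ⟨m, -, -, h⟩ := hF
  have := FiniteField.cast_card_eq_zero F
  rw [h] at this
  exact pow_eq_zero_iff (n := m) (by rintro rfl; simp at this) |>.1 (by exact_mod_cast this)

theorem two : (2 : F) = -1 := by linear_combination hF.three
theorem two_ne : (2 : F) ≠ 0 := by rw [hF.two]; simp
theorem one_ne_neg : (1 : F) ≠ -1 := fun h => hF.two_ne (by linear_combination h)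
theorem eq_zero_of_eq_neg {a : F} (h : a = -a) : a = 0 :=
  (mul_eq_zero.1 (show 2 * a = 0 by linear_combination h)).resolve_left hF.two_ne

theorem card_mod : Fintype.card F % 8 = 3 := by
  obtain ⟨m, ⟨k, rfl⟩, -, h⟩ := hF
  rw [h, pow_succ, pow_mul, Nat.mul_mod, Nat.pow_mod]; simp

theorem card_ge : 27 ≤ Fintype.card F := by
  obtain ⟨m, ⟨k, rfl⟩, h1, h⟩ := hF
  rw [h]; exact Nat.pow_le_pow_right (n := 3) (by decide) (show 3 ≤ 2 * k + 1 by omega)

theorem card_pow : ∃ m, Fintype.card F = 3 ^ m := let ⟨m, _, _, h⟩ := hF; ⟨m, h⟩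

theorem neg_one : ¬ IsSquare (-1 : F) := by
  rw [FiniteField.isSquare_neg_one_iff, not_not]; have := hF.card_mod; omega

theorem exists_sq_ne : ∃ a : F, a ≠ 0 ∧ a ^ 2 ≠ 1 :=
  CL.SLn.exists_sq_ne_one_of_four_le (by rw [Nat.card_eq_fintype_card]; have := hF.card_ge; omega)

theorem perfect : commutator SL(2, F) = ⊤ := let ⟨_, h1, h2⟩ := hF.exists_sq_ne; SL2.commutator_eq_top h1 h2

/-- every nonzero element is `± λ² d`. -/
theorem exists_sq_mul {d d' : F} (hd : d ≠ 0) (hd' : d' ≠ 0) : ∃ l : F, l ≠ 0 ∧ (d' = l * l * d ∨ d' = -(l * l * d)) := by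
  classical
  have h2 : ringChar F ≠ 2 := fun h => hF.two_ne (by exact_mod_cast h ▸ ringChar.Nat.cast_ringChar (R := F))
  have h0 : d' / d ≠ 0 := div_ne_zero hd' hd
  by_cases h : IsSquare (d' / d)
  · obtain ⟨l, e⟩ := h
    exact ⟨l, by rintro rfl; exact h0 (by simpa using e), Or.inl (by rw [← e]; field_simp)⟩
  · have : IsSquare (-(d' / d)) := by
      rw [← quadraticChar_one_iff_isSquare (neg_ne_zero.2 h0), neg_eq_neg_one_mul, map_mul,
        quadraticChar_neg_one_iff_not_isSquare.2 h, quadraticChar_neg_one_iff_not_isSquare.2 hF.neg_one]; simp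
    obtain ⟨l, e⟩ := this
    exact ⟨l, by rintro rfl; exact h0 (by simpa using e), Or.inr (by rw [← e]; field_simp)⟩

theorem card_SL : Nat.card SL(2, F) = Nat.card F * (Nat.card F ^ 2 - 1) := by
  rw [Nat.card_eq_fintype_card (α := F)]; exact CL.SLn.card_SL_two

theorem not_sixteen : ¬ 16 ∣ Nat.card F ^ 2 - 1 := by
  have h := hF.card_mod
  rw [Nat.card_eq_fintype_card]
  obtain ⟨k, e⟩ : ∃ k, Fintype.card F = 8 * k + 3 := ⟨_, (Nat.div_add_mod _ 8).symm.trans (by rw [h])⟩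
  rw [e, show (8 * k + 3) ^ 2 = 16 * (4 * k * k + 3 * k) + 9 by ring]; omega

theorem card_odd : Odd (Nat.card F) := by
  rw [Nat.card_eq_fintype_card, Nat.odd_iff]; have := hF.card_mod; omega

theorem jj_val : (jj F).1 = !![-1, -1; -1, 1] := by
  rw [jj, uu_inv]
  ext i j; fin_cases i <;> fin_cases j <;> simp [uu_val, ii_val, Matrix.mul_apply, Fin.sum_univ_two]
  linear_combination hF.three

theorem jj_ii : jj F * ii F = -1 * (ii F * jj F) := by
  ext i j; fin_cases i <;> fin_cases j <;> simp [hF.jj_val, ii_val, Matrix.mul_apply, Fin.sum_univ_two]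

theorem uu_jj : uu 1 * jj F * (uu 1)⁻¹ = jj F * ii F := by
  rw [mul_inv_eq_iff_eq_mul]
  ext i j; fin_cases i <;> fin_cases j <;> simp [hF.jj_val, ii_val, uu_val, Matrix.mul_apply, Fin.sum_univ_two] <;>
    first | linear_combination hF.three | linear_combination -hF.three

theorem eq_of_comm {g : SL(2, F)} (h1 : Commute g (ii F)) (h2 : Commute g (jj F)) : g = 1 ∨ g = -1 := by
  have a := congrArg (fun x : SL(2, F) => x.1 0 0) h1.eq
  have b := congrArg (fun x : SL(2, F) => x.1 0 1) h1.eq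
  have c := congrArg (fun x : SL(2, F) => x.1 0 1) h2.eq
  have d := g.det_coe
  simp [hF.jj_val, ii_val, Matrix.mul_apply, Fin.sum_univ_two] at a b c
  rw [det_fin_two] at d
  have e : g.1 0 1 = 0 := hF.eq_zero_of_eq_neg (by linear_combination c + b)
  have f : g.1 1 0 = 0 := by linear_combination -a - e
  have : (g.1 0 0 - 1) * (g.1 0 0 + 1) = 0 := by linear_combination d + g.1 0 0 * b + g.1 1 0 * e
  rcases mul_eq_zero.1 this with h | h
  · left; ext i j; fin_cases i <;> fin_cases j <;> simp [e, f] 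
    · linear_combination h
    · linear_combination h - b
  · right; ext i j; fin_cases i <;> fin_cases j <;> simp [e, f] 
    · linear_combination h
    · linear_combination h - b

theorem neg_ne : (-1 : SL(2, F)) ≠ 1 := fun h =>
  hF.one_ne_neg (by simpa using (congrArg (fun x : SL(2, F) => x.1 0 0) h).symm)

theorem eq_of_sq {g : SL(2, F)} (h : g * g = 1) : g = 1 ∨ g = -1 := by
  have h' : g.1 = adjugate g.1 := congrArg Subtype.val (eq_inv_of_mul_eq_one_left h : g = g⁻¹)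
  rw [adjugate_fin_two] at h'
  have a : g.1 0 0 = g.1 1 1 := by simpa using congrFun (congrFun h' 0) 0
  have b : g.1 0 1 = 0 := hF.eq_zero_of_eq_neg (by simpa using congrFun (congrFun h' 0) 1)
  have c : g.1 1 0 = 0 := hF.eq_zero_of_eq_neg (by simpa using congrFun (congrFun h' 1) 0)
  refine hF.eq_of_comm ?_ ?_ <;> ext i j <;> fin_cases i <;> fin_cases j <;>
    simp [hF.jj_val, ii_val, Matrix.mul_apply, Fin.sum_univ_two, a, b, c]

theorem uu_pow (d : F) : uu d ^ 3 = 1 := by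
  rw [pow_three, uu_mul, uu_mul, ← uu_zero]; congr 1; linear_combination d * hF.three

end Fq

theorem uu_inj {a b : F} (h : uu a = uu b) : a = b := by simpa [uu_val] using congrArg (fun x : SL(2, F) => x.1 0 1) h

theorem ii_sq : ii F * ii F = -1 := by
  ext i j; fin_cases i <;> fin_cases j <;> simp [ii_val, Matrix.mul_apply, Fin.sum_univ_two]

theorem neg_comm (g : SL(2, F)) : Commute (-1) g := by simp [Commute, SemiconjBy]

theorem jj_sq : jj F * jj F = -1 := by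
  calc _ = uu 1 * (ii F * ii F) * (uu 1)⁻¹ := by rw [jj]; group
    _ = _ := by rw [ii_sq, ← (neg_comm _).eq, mul_inv_cancel_right]

/-- the centraliser of a nontrivial unitriangular matrix. -/
theorem comm_uu {g : SL(2, F)} {d : F} (hd : d ≠ 0) (h : Commute g (uu d)) : ∃ c, g = uu c ∨ g = -1 * uu c := by
  have a := congrArg (fun x : SL(2, F) => x.1 0 0) h.eq
  have b := congrArg (fun x : SL(2, F) => x.1 0 1) h.eq
  have e := g.det_coe
  simp [uu_val, Matrix.mul_apply, Fin.sum_univ_two, hd] at a b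
  rw [det_fin_two, a] at e
  have b' : g.1 0 0 = g.1 1 1 := mul_right_cancel₀ hd (by linear_combination b)
  have : (g.1 0 0 - 1) * (g.1 0 0 + 1) = 0 := by linear_combination e + g.1 0 0 * b'
  rcases mul_eq_zero.1 this with h | h
  · refine ⟨g.1 0 1, Or.inl ?_⟩
    ext i j; fin_cases i <;> fin_cases j <;> simp [uu_val, a, ← b'] <;> linear_combination h
  · refine ⟨-g.1 0 1, Or.inr ?_⟩
    ext i j; fin_cases i <;> fin_cases j <;> simp [uu_val, a, ← b'] <;> linear_combination h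

/-- `SL₂` is transitive on the nonzero vectors. -/
theorem exists_mulVec {v : Fin 2 → F} (hv : v ≠ 0) : ∃ g : SL(2, F), g.1 *ᵥ v = ![1, 0] := by
  by_cases h : v 0 = 0
  · have h1 : v 1 ≠ 0 := fun h1 => hv (by ext i; fin_cases i <;> simp [h, h1])
    refine ⟨⟨!![0, (v 1)⁻¹; -v 1, 0], by simp [det_fin_two, h1]⟩, ?_⟩
    ext i; fin_cases i <;> simp [Matrix.mulVec, dotProduct, Fin.sum_univ_two, h, h1]
  · refine ⟨⟨!![(v 0)⁻¹, 0; -v 1, v 0], by simp [det_fin_two, h]⟩, ?_⟩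
    ext i; fin_cases i <;> simp [Matrix.mulVec, dotProduct, Fin.sum_univ_two, h, mul_comm]

/-- diagonal matrices -/
def dd (l : F) (hl : l ≠ 0) : SL(2, F) := ⟨!![l, 0; 0, l⁻¹], by simp [det_fin_two, hl]⟩

theorem dd_val (l : F) (hl : l ≠ 0) : (dd l hl).1 = !![l, 0; 0, l⁻¹] := rfl

theorem dd_uu (l : F) (hl : l ≠ 0) (d : F) : dd l hl * uu d * (dd l hl)⁻¹ = uu (l * l * d) := by
  rw [mul_inv_eq_iff_eq_mul]
  ext i j; fin_cases i <;> fin_cases j <;> simp [dd_val, uu_val, Matrix.mul_apply, Fin.sum_univ_two]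
  field_simp

theorem mem_normalizer_of_pow {K : Subgroup G} {g : G} (h : g ^ 3 = 1) (hK : ∀ x ∈ K, g * x * g⁻¹ ∈ K) :
    g ∈ normalizer (K : Set G) := mem_normalizer_iff.2 fun x => ⟨hK x, fun hx => by
  have := hK _ (hK _ hx)
  rwa [show g * (g * (g * x * g⁻¹) * g⁻¹) * g⁻¹ = g ^ 3 * x * (g ^ 3)⁻¹ by simp [pow_three, mul_assoc], h, one_mul, inv_one,
    mul_one] at this⟩

namespace Loc

variable (X : Loc G F)

/-! ### coordinates -/

theorem zz_zero : X.zz 0 = 1 := by have := X.zz_add 0 0; rwa [add_zero, left_eq_mul] at this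
theorem zz_neg (a : F) : X.zz (-a) = (X.zz a)⁻¹ :=
  eq_inv_of_mul_eq_one_left (by rw [← X.zz_add, neg_add_cancel, zz_zero])
theorem qq_zero : X.qq 0 = 1 := by have := X.qq_mul 0 0; simpa [zz_zero] using this
theorem qq_neg (v : Fin 2 → F) : X.qq (-v) = (X.qq v)⁻¹ :=
  eq_inv_of_mul_eq_one_left (by rw [X.qq_mul]; simp [mul_comm, zz_zero, qq_zero])
theorem zz_comm (a b : F) : Commute (X.zz a) (X.zz b) := by rw [Commute, SemiconjBy, ← X.zz_add, ← X.zz_add, add_comm]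

theorem mul_coord (a b : F) (v w : Fin 2 → F) (g h : SL(2, F)) :
    X.zz a * X.qq v * X.ll g * (X.zz b * X.qq w * X.ll h) =
      X.zz (a + b + (v 0 * (g.1 *ᵥ w) 1 - v 1 * (g.1 *ᵥ w) 0)) * X.qq (v + g.1 *ᵥ w) * X.ll (g * h) := by
  calc _ = X.zz a * (X.qq v * X.ll g * X.zz b) * X.qq w * X.ll h := by group
    _ = X.zz a * X.zz b * (X.qq v * (X.ll g * X.qq w * (X.ll g)⁻¹)) * (X.ll g * X.ll h) := by
        rw [← ((X.zz_qq b v).mul_right (X.zz_ll b g)).eq]; group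
    _ = _ := by rw [X.ll_qq, X.qq_mul, ← (X.zz_qq _ _).eq, X.zz_add, X.zz_add, map_mul]; group

theorem inv_coord (a : F) (v : Fin 2 → F) (g : SL(2, F)) :
    (X.zz a * X.qq v * X.ll g)⁻¹ = X.zz (-a) * X.qq (-((g⁻¹).1 *ᵥ v)) * X.ll g⁻¹ := by
  refine inv_eq_of_mul_eq_one_right ?_
  have : g.1 *ᵥ (-((g⁻¹).1 *ᵥ v)) = -v := by
    rw [mulVec_neg, mulVec_mulVec, val_mul_inv]; simp
  rw [mul_coord, this]; simp [mul_comm, zz_zero, qq_zero]

theorem coord_inj {a b : F} {v w : Fin 2 → F} {g h : SL(2, F)}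
    (e : X.zz a * X.qq v * X.ll g = X.zz b * X.qq w * X.ll h) : a = b ∧ v = w ∧ g = h := by
  have := mul_inv_eq_one.2 e
  rw [inv_coord, mul_coord] at this
  obtain ⟨h1, h2, h3⟩ := X.inj _ _ _ this
  obtain rfl : g = h := mul_inv_eq_one.1 h3
  rw [mulVec_neg, mulVec_mulVec, val_mul_inv] at h1 h2
  obtain rfl : v = w := by simpa [add_neg_eq_zero] using h2
  exact ⟨by simpa [mul_comm, add_neg_eq_zero] using h1, rfl, rfl⟩

theorem zz_eq (a : F) : X.zz a = X.zz a * X.qq 0 * X.ll 1 := by simp [qq_zero]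
theorem qq_eq (v : Fin 2 → F) : X.qq v = X.zz 0 * X.qq v * X.ll 1 := by simp [zz_zero]
theorem ll_eq (g : SL(2, F)) : X.ll g = X.zz 0 * X.qq 0 * X.ll g := by simp [zz_zero, qq_zero]
theorem zl_eq (a : F) (g : SL(2, F)) : X.zz a * X.ll g = X.zz a * X.qq 0 * X.ll g := by simp [qq_zero]
theorem zq_eq (a : F) (v : Fin 2 → F) : X.zz a * X.qq v = X.zz a * X.qq v * X.ll 1 := by simp

theorem zz_inj {a b : F} (h : X.zz a = X.zz b) : a = b := (X.coord_inj (by rwa [← zz_eq, ← zz_eq])).1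
theorem qq_inj {a b : Fin 2 → F} (h : X.qq a = X.qq b) : a = b := (X.coord_inj (by rwa [← qq_eq, ← qq_eq])).2.1
theorem ll_inj : Function.Injective X.ll := fun _ _ h => (X.coord_inj (by rwa [← ll_eq, ← ll_eq])).2.2
theorem zl_inj {a b : F} {g h : SL(2, F)} (e : X.zz a * X.ll g = X.zz b * X.ll h) : a = b ∧ g = h :=
  (X.coord_inj ((X.zl_eq a g).symm.trans (e.trans (X.zl_eq b h)))).imp_right And.right
theorem zz_ne_one {a : F} (ha : a ≠ 0) : X.zz a ≠ 1 := fun h => ha (X.zz_inj (h.trans X.zz_zero.symm))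

theorem comm_qq (v w : Fin 2 → F) : ⁅X.qq v, X.qq w⁆ = X.zz (2 * (v 0 * w 1 - v 1 * w 0)) := by
  rw [commutatorElement_def, mul_assoc, ← _root_.mul_inv_rev, X.qq_mul, X.qq_mul, add_comm w, _root_.mul_inv_rev, ← mul_assoc,
    mul_assoc (X.qq _), ← zz_neg, ← X.zz_add, ← (X.zz_qq _ _).eq, mul_inv_cancel_right]
  congr 1; ring

theorem mem_Z {x : G} : x ∈ X.Z ↔ ∃ a, x = X.zz a := by
  refine ⟨fun h => ?_, by rintro ⟨a, rfl⟩; exact subset_closure ⟨a, rfl⟩⟩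
  induction h using closure_induction with
  | mem x hx => obtain ⟨a, rfl⟩ := hx; exact ⟨a, rfl⟩
  | one => exact ⟨0, X.zz_zero.symm⟩
  | mul x y _ _ hx hy => obtain ⟨a, rfl⟩ := hx; obtain ⟨b, rfl⟩ := hy; exact ⟨_, (X.zz_add a b).symm⟩
  | inv x _ hx => obtain ⟨a, rfl⟩ := hx; exact ⟨_, (X.zz_neg a).symm⟩

theorem zz_mem (a : F) : X.zz a ∈ X.Z := X.mem_Z.2 ⟨a, rfl⟩

theorem card_Z : Nat.card X.Z = Nat.card F :=
  (Nat.card_eq_of_bijective (fun a => (⟨X.zz a, X.zz_mem a⟩ : X.Z)) ⟨fun _ _ h => X.zz_inj (congrArg Subtype.val h),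
    fun ⟨_, hx⟩ => let ⟨a, e⟩ := X.mem_Z.1 hx; ⟨a, Subtype.ext e.symm⟩⟩).symm

theorem mem_L {x : G} : x ∈ X.L ↔ ∃ g, X.ll g = x := Iff.rfl
theorem ll_mem (g : SL(2, F)) : X.ll g ∈ X.L := ⟨g, rfl⟩

/-- `SL₂(q) ≃ L` -/
noncomputable def eL : SL(2, F) ≃* X.L := MonoidHom.ofInjective X.ll_inj

theorem comm_zz (a b : F) (v : Fin 2 → F) (g : SL(2, F)) : Commute (X.zz b * X.qq v * X.ll g) (X.zz a) :=
  (((X.zz_comm a b).mul_right (X.zz_qq a v)).mul_right (X.zz_ll a g)).symm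

theorem mem_C {x : G} : x ∈ X.C ↔ ∃ a v g, x = X.zz a * X.qq v * X.ll g :=
  ⟨fun h => X.cen 1 one_ne_zero x (mem_centralizer_singleton_iff.1 h), by
    rintro ⟨a, v, g, rfl⟩; exact mem_centralizer_singleton_iff.2 (X.comm_zz 1 a v g)⟩

theorem mem_C_iff {a : F} (ha : a ≠ 0) {x : G} : x ∈ X.C ↔ Commute x (X.zz a) :=
  ⟨fun h => by obtain ⟨b, v, g, rfl⟩ := X.mem_C.1 h; exact X.comm_zz a b v g, fun h => X.mem_C.2 (X.cen a ha x h)⟩

theorem C_comm {x : G} (h : x ∈ X.C) (a : F) : Commute x (X.zz a) := by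
  obtain ⟨b, v, g, rfl⟩ := X.mem_C.1 h; exact X.comm_zz a b v g

theorem C_eq {a : F} (ha : a ≠ 0) : centralizer {X.zz a} = X.C := by
  ext x; rw [mem_centralizer_singleton_iff, X.mem_C_iff ha]; rfl

theorem zz_C (a : F) : X.zz a ∈ X.C := X.mem_C.2 ⟨_, _, _, X.zz_eq a⟩
theorem qq_C (v : Fin 2 → F) : X.qq v ∈ X.C := X.mem_C.2 ⟨_, _, _, X.qq_eq v⟩
theorem ll_C (g : SL(2, F)) : X.ll g ∈ X.C := X.mem_C.2 ⟨_, _, _, X.ll_eq g⟩
theorem Z_le_C : X.Z ≤ X.C := fun _ h => by obtain ⟨a, rfl⟩ := X.mem_Z.1 h; exact X.zz_C a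
theorem L_le_C : X.L ≤ X.C := by rintro _ ⟨g, rfl⟩; exact X.ll_C g

theorem mem_Q {x : G} : x ∈ X.Q ↔ ∃ a v, x = X.zz a * X.qq v := by
  let K : Subgroup G :=
    { carrier := {x | ∃ a v, x = X.zz a * X.qq v}
      one_mem' := ⟨0, 0, by simp [zz_zero, qq_zero]⟩
      mul_mem' := by
        rintro _ _ ⟨a, v, rfl⟩ ⟨b, w, rfl⟩
        exact ⟨_, _, (congrArg₂ (· * ·) (X.zq_eq a v) (X.zq_eq b w)).trans ((X.mul_coord ..).trans (by
          rw [mul_one, map_one, mul_one]))⟩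
      inv_mem' := by
        rintro _ ⟨a, v, rfl⟩
        exact ⟨_, _, (congrArg (·⁻¹) (X.zq_eq a v)).trans ((X.inv_coord ..).trans (by
          rw [map_inv, map_one]; exact (congrArg (_ * ·) _root_.inv_one).trans (mul_one _)))⟩ }
  refine ⟨fun h => (show X.Q ≤ K from sup_le ((closure_le _).2 ?_) fun x hx => ?_) h, ?_⟩
  · rintro _ ⟨v, rfl⟩; exact ⟨0, v, by simp [zz_zero]⟩
  · obtain ⟨a, rfl⟩ := X.mem_Z.1 hx; exact ⟨a, 0, by simp [qq_zero]⟩
  · rintro ⟨a, v, rfl⟩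
    exact mul_mem (mem_sup_right (X.zz_mem a)) (mem_sup_left (subset_closure ⟨v, rfl⟩))

theorem zz_Q (a : F) : X.zz a ∈ X.Q := mem_sup_right (X.zz_mem a)
theorem qq_Q (v : Fin 2 → F) : X.qq v ∈ X.Q := mem_sup_left (subset_closure ⟨v, rfl⟩)
theorem Q_le_C : X.Q ≤ X.C := fun _ h => by
  obtain ⟨a, v, rfl⟩ := X.mem_Q.1 h; exact mul_mem (X.zz_C a) (X.qq_C v)

/-- the projection `C → SL₂(q)` with kernel `Q`. -/
noncomputable def pr : X.C →* SL(2, F) := MonoidHom.mk' (fun x => (X.mem_C.1 x.2).choose_spec.choose_spec.choose)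
  fun x y => by
    have hx := (X.mem_C.1 x.2).choose_spec.choose_spec.choose_spec
    have hy := (X.mem_C.1 y.2).choose_spec.choose_spec.choose_spec
    have hxy := (X.mem_C.1 (x * y).2).choose_spec.choose_spec.choose_spec
    exact (X.coord_inj (hxy.symm.trans ((congrArg₂ (· * ·) hx hy).trans (X.mul_coord ..)))).2.2

theorem pr_eq {x : X.C} {a : F} {v : Fin 2 → F} {g : SL(2, F)} (h : x.1 = X.zz a * X.qq v * X.ll g) : X.pr x = g :=
  (X.coord_inj ((X.mem_C.1 x.2).choose_spec.choose_spec.choose_spec.symm.trans h)).2.2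

theorem pr_ll (g : SL(2, F)) : X.pr ⟨X.ll g, X.ll_C g⟩ = g := X.pr_eq (X.ll_eq g)

theorem pr_eq_one {x : X.C} : X.pr x = 1 ↔ x.1 ∈ X.Q := by
  refine ⟨fun h => ?_, fun h => ?_⟩
  · obtain ⟨a, v, g, e⟩ := X.mem_C.1 x.2
    rw [X.pr_eq e] at h
    exact X.mem_Q.2 ⟨a, v, by rw [e, h, map_one, mul_one]⟩
  · obtain ⟨a, v, e⟩ := X.mem_Q.1 h
    exact X.pr_eq (e.trans (X.zq_eq a v))

theorem C_conj_Q {c x : G} (hc : c ∈ X.C) (hx : x ∈ X.Q) : c * x * c⁻¹ ∈ X.Q :=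
  (X.pr_eq_one (x := ⟨c, hc⟩ * ⟨x, X.Q_le_C hx⟩ * ⟨c, hc⟩⁻¹)).1 (by
    rw [map_mul, map_mul, (X.pr_eq_one (x := ⟨x, X.Q_le_C hx⟩)).2 hx, map_inv, mul_one, mul_inv_cancel])

/-! ### the involution `t` -/

theorem t_sq : X.t * X.t = 1 := by rw [t, ← map_mul]; simp
theorem t_inv : X.t⁻¹ = X.t := inv_eq_of_mul_eq_one_right X.t_sq
theorem t_qq (v : Fin 2 → F) : X.t * X.qq v * X.t⁻¹ = X.qq (-v) := by rw [t, X.ll_qq]; simp [neg_mulVec]
theorem ll_t (g : SL(2, F)) : Commute (X.ll g) X.t := (neg_comm g).symm.map X.ll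
theorem zz_t (a : F) : Commute (X.zz a) X.t := X.zz_ll a _
theorem t_L : X.t ∈ X.L := X.ll_mem _
theorem mem_X {x : G} : x ∈ X.X₀ ↔ Commute x X.t := mem_centralizer_singleton_iff
theorem mem_zpowers_t {x : G} : x ∈ zpowers X.t ↔ x = 1 ∨ x = X.t := by
  refine ⟨fun ⟨n, h⟩ => ?_, by rintro (rfl | rfl); exacts [one_mem _, mem_zpowers _]⟩
  rcases Int.even_or_odd' n with ⟨k, rfl | rfl⟩
  · left; rw [← h]; simp only []; rw [_root_.zpow_mul, zpow_two, t_sq, _root_.one_zpow]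
  · right; rw [← h]; simp only []; rw [_root_.zpow_add, _root_.zpow_mul, zpow_two, t_sq, _root_.one_zpow, one_mul, zpow_one]

/-! ### the quaternion group -/

/-- generators of `R` -/
def I : G := X.ll (ii F)
/-- generators of `R` -/
def J : G := X.ll (jj F)

theorem I_R : X.I ∈ X.R := subset_closure (by simp [I])
theorem J_R : X.J ∈ X.R := subset_closure (by simp [J])
theorem I_sq : X.I * X.I = X.t := by rw [I, ← map_mul, ii_sq, t]
theorem J_sq : X.J * X.J = X.t := by rw [J, ← map_mul, jj_sq, t]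
theorem t_R : X.t ∈ X.R := X.I_sq ▸ mul_mem X.I_R X.I_R
theorem R_le_L : X.R ≤ X.L := (closure_le _).2 (by rintro _ (rfl | rfl) <;> exact X.ll_mem _)
theorem L_le_X : X.L ≤ X.X₀ := by rintro _ ⟨g, rfl⟩; exact X.mem_X.2 (X.ll_t g)
theorem Z_le_X : X.Z ≤ X.X₀ := fun _ h => by obtain ⟨a, rfl⟩ := X.mem_Z.1 h; exact X.mem_X.2 (X.zz_t a)
theorem mem_Y {y : G} : y ∈ X.Y ↔ Commute y X.I ∧ Commute y X.J := by
  rw [Y, R, centralizer_closure, mem_centralizer_iff]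
  simp only [Set.mem_insert_iff, Set.mem_singleton_iff, forall_eq_or_imp, forall_eq]
  exact and_congr ⟨fun h => h.symm, fun h => h.eq.symm⟩ ⟨fun h => h.symm, fun h => h.eq.symm⟩
theorem Y_comm {y r : G} (hy : y ∈ X.Y) (hr : r ∈ X.R) : Commute y r := (hy r hr).symm
theorem Y_le_X : X.Y ≤ X.X₀ := fun _ h => X.mem_X.2 (X.Y_comm h X.t_R)
theorem Z_le_Y : X.Z ≤ X.Y := fun _ h => by
  obtain ⟨a, rfl⟩ := X.mem_Z.1 h; exact X.mem_Y.2 ⟨X.zz_ll _ _, X.zz_ll _ _⟩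
theorem t_Y : X.t ∈ X.Y := X.mem_Y.2 ⟨(X.ll_t _).symm, (X.ll_t _).symm⟩
theorem ρ_I : X.ρ * X.I * X.ρ⁻¹ = X.J := by rw [J, jj, map_mul, map_mul, map_inv]; rfl


theorem C_le_H : X.C ≤ X.H := fun c hc => mem_normalizer_iff.2 fun z => ⟨fun hz => by
    obtain ⟨a, rfl⟩ := X.mem_Z.1 hz; rw [(X.C_comm hc a).eq, mul_inv_cancel_right]; exact hz, fun hz => by
    obtain ⟨a, e⟩ := X.mem_Z.1 hz
    rw [mul_inv_eq_iff_eq_mul, ← (X.C_comm hc a).eq] at e
    exact mul_left_cancel e ▸ X.zz_mem a⟩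

theorem H_zz {h : G} (hh : h ∈ X.H) (a : F) : ∃ b, h * X.zz a * h⁻¹ = X.zz b :=
  X.mem_Z.1 ((mem_normalizer_iff.1 hh _).1 (X.zz_mem a))

theorem conj_ne_zero {g : G} {a b : F} (e : g * X.zz a * g⁻¹ = X.zz b) (ha : a ≠ 0) : b ≠ 0 := by
  rintro rfl
  rw [zz_zero, mul_inv_eq_one, mul_eq_left] at e
  exact X.zz_ne_one ha e

theorem conj_C {g : G} {a b : F} (e : g * X.zz a * g⁻¹ = X.zz b) (ha : a ≠ 0) {x : G} :
    g * x * g⁻¹ ∈ X.C ↔ x ∈ X.C := by
  rw [X.mem_C_iff (X.conj_ne_zero e ha), X.mem_C_iff ha, ← e]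
  exact ⟨fun h => by simpa [mul_assoc] using h.map (MulAut.conj g⁻¹), fun h => h.map (MulAut.conj g)⟩

theorem H_conj_C {h x : G} (hh : h ∈ X.H) (hx : x ∈ X.C) : h * x * h⁻¹ ∈ X.C :=
  let ⟨_, e⟩ := X.H_zz hh 1; (X.conj_C e one_ne_zero).2 hx

/-- an element of `H \ C` whose square lies in `C` inverts `Z`. -/
theorem invert {h : G} (hh : h ∈ X.H) (hC : h ∉ X.C) (h2 : h * h ∈ X.C) (a : F) : h * X.zz a * h⁻¹ = X.zz (-a) := by
  obtain ⟨b, e⟩ := X.H_zz hh a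
  have e2 : h * X.zz b * h⁻¹ = X.zz a := by
    rw [← e]
    calc _ = h * h * X.zz a * (h * h)⁻¹ := by group
      _ = _ := by rw [(X.C_comm h2 a).eq, mul_inv_cancel_right]
  by_cases hab : a + b = 0
  · rw [e, eq_neg_of_add_eq_zero_right hab]
  refine absurd ((X.mem_C_iff hab).2 (mul_inv_eq_iff_eq_mul.1 ?_)) hC
  calc _ = h * X.zz a * h⁻¹ * (h * X.zz b * h⁻¹) := by rw [X.zz_add]; group
    _ = _ := by rw [e, e2, ← X.zz_add, add_comm]

variable [Fintype F] (hF : Fq F)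
include hF

theorem zz_pow (a : F) : X.zz a ^ 3 = 1 := by
  rw [pow_three, ← X.zz_add, ← X.zz_add, ← X.zz_zero]; congr 1; linear_combination a * hF.three

theorem Q_pow {x : G} (hx : x ∈ X.Q) : x ^ 3 = 1 := by
  obtain ⟨a, v, rfl⟩ := X.mem_Q.1 hx
  have : v + v + v = 0 := by ext i; simp; linear_combination v i * hF.three
  rw [(X.zz_qq a v).mul_pow, X.zz_pow hF, one_mul, pow_three', X.qq_mul, mul_comm (v 1), sub_self, zz_zero, mul_one,
    X.qq_mul, this, qq_zero, one_mul, ← X.zz_zero]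
  congr 1; simp; ring

theorem ρ_pow : X.ρ ^ 3 = 1 := by rw [ρ, ← map_pow, hF.uu_pow, map_one]

theorem isPGroup_Q : IsPGroup 3 X.Q := fun x => ⟨1, Subtype.ext (X.Q_pow hF x.2)⟩
theorem isPGroup_Z : IsPGroup 3 X.Z := (X.isPGroup_Q hF).to_le le_sup_right

theorem t_ne : X.t ≠ 1 := fun h => hF.neg_ne (X.ll_inj (h.trans (map_one _).symm))
theorem orderOf_t : orderOf X.t = 2 := orderOf_eq_prime (by rw [pow_two, t_sq]) (X.t_ne hF)

/-- `C ∩ C(t) = Z L`. -/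
theorem mem_CX {x : G} (hx : x ∈ X.C) (ht : Commute x X.t) : ∃ a g, x = X.zz a * X.ll g := by
  obtain ⟨a, v, g, rfl⟩ := X.mem_C.1 hx
  have : X.zz a * X.qq (-v) * X.ll g = X.zz a * X.qq v * X.ll g := by
    rw [← t_qq]
    calc _ = X.t * (X.t⁻¹ * X.zz a * X.t * X.qq v * (X.t⁻¹ * X.ll g * X.t)) * X.t⁻¹ := by group
      _ = _ := by rw [mul_assoc _ (X.zz a), (X.zz_t a).eq, mul_assoc _ (X.ll g), (X.ll_t g).eq, inv_mul_cancel_left,
        inv_mul_cancel_left, ← ht.eq, mul_inv_cancel_right]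
  have h0 : v = 0 := funext fun i => hF.eq_zero_of_eq_neg (congrFun (X.coord_inj this).2.1 i).symm
  exact ⟨a, g, by rw [h0, qq_zero, mul_one]⟩

theorem mem_Z_of_comm {x : G} (hx : x ∈ X.C) (h : ∀ v, Commute x (X.qq v)) : x ∈ X.Z := by
  obtain ⟨a, w, g, rfl⟩ := X.mem_C.1 hx
  have key : ∀ v, w 0 * (g.1 *ᵥ v) 1 - w 1 * (g.1 *ᵥ v) 0 = v 0 * w 1 - v 1 * w 0 ∧ g.1 *ᵥ v = v := fun v => by
    have := (h v).eq
    rw [X.qq_eq v, mul_coord, mul_coord] at this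
    obtain ⟨h1, h2, -⟩ := X.coord_inj this
    rw [show (1 : SL(2, F)).1 *ᵥ w = w from one_mulVec w] at h1 h2
    simp only [add_zero, zero_add] at h1 h2
    exact ⟨add_left_cancel h1, add_left_cancel (h2.trans (add_comm _ _))⟩
  obtain rfl : g = 1 := Subtype.ext (ext_iff_mulVec.2 fun v => by rw [(key v).2]; simp)
  have a0 := (key ![1, 0]).1
  have a1 := (key ![0, 1]).1
  simp at a0 a1
  obtain rfl : w = 0 := by
    ext i; fin_cases i
    exacts [hF.eq_zero_of_eq_neg a1, hF.eq_zero_of_eq_neg a0.symm]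
  simp [qq_zero, X.zz_mem]

theorem mem_Z_iff {x : G} : x ∈ X.Z ↔ ∀ c ∈ X.C, Commute x c :=
  ⟨fun h c hc => by obtain ⟨a, rfl⟩ := X.mem_Z.1 h; exact (X.C_comm hc a).symm, fun h =>
    X.mem_Z_of_comm hF ((X.mem_C_iff one_ne_zero).2 (h _ (X.zz_C 1))) fun v => h _ (X.qq_C v)⟩

/-- `Z` is a TI subgroup. -/
theorem mem_H_of {g : G} {a b : F} (e : g * X.zz a * g⁻¹ = X.zz b) (ha : a ≠ 0) : g ∈ X.H :=
  mem_normalizer_iff.2 fun z => by
    rw [X.mem_Z_iff hF, X.mem_Z_iff hF]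
    refine ⟨fun h c hc => ?_, fun h c hc => ?_⟩
    · have := h (g⁻¹ * c * g) ((X.conj_C e ha).1 (by simpa [mul_assoc] using hc))
      simpa [mul_assoc] using this.map (MulAut.conj g)
    · simpa [mul_assoc] using (h _ ((X.conj_C e ha).2 hc)).map (MulAut.conj g⁻¹)

/-- a `3`-group normalising `Z` lies in `C`. -/
theorem three_le_C [Finite G] {P : Subgroup G} (hP : IsPGroup 3 P) (hH : P ≤ X.H) : P ≤ X.C := by
  have : Fact (Nat.Prime 3) := ⟨by norm_num⟩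
  let φ : P →* MulAut X.Z := (normalizerMonoidHom X.Z).comp (inclusion hH)
  let : MulAction P X.Z := MulAction.compHom _ φ
  obtain ⟨m, hm⟩ := hF.card_pow
  obtain ⟨b, hb, h1⟩ := hP.exists_fixed_point_of_prime_dvd_card_of_fixed_point X.Z (by
    rw [card_Z, Nat.card_eq_fintype_card, hm]
    exact dvd_pow_self 3 (by rintro rfl; have := hF.card_ge; omega)) (a := 1) fun g => map_one (φ g)
  obtain ⟨a, e⟩ := X.mem_Z.1 b.2
  have ha : a ≠ 0 := by rintro rfl; exact h1 (Subtype.ext (e.trans X.zz_zero)).symm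
  intro x hx
  exact (X.mem_C_iff ha).2 (mul_inv_eq_iff_eq_mul.1 (e ▸ congrArg Subtype.val (hb ⟨x, hx⟩)))

/-- normal `3`-subgroups of `C` lie in `Q`. -/
theorem le_Q [Finite G] {N : Subgroup G} (hN : IsPGroup 3 N) (hC : N ≤ X.C) (hn : ∀ g, ∀ x ∈ N, X.ll g * x * (X.ll g)⁻¹ ∈ N) :
    N ≤ X.Q := by
  have : Fact (Nat.Prime 3) := ⟨by norm_num⟩
  let φ : N →* SL(2, F) := X.pr.comp (inclusion hC)
  let : MulAction N (Fin 2 → F) := MulAction.compHom _ (SpecialLinearGroup.toLin'.comp φ)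
  obtain ⟨m, hm⟩ := hF.card_pow
  obtain ⟨v, hv, h1⟩ := hN.exists_fixed_point_of_prime_dvd_card_of_fixed_point (Fin 2 → F) (by
    rw [Nat.card_fun, Nat.card_eq_fintype_card, hm, ← pow_mul]
    exact dvd_pow_self 3 (by rintro h; simp at h; subst h; have := hF.card_ge; omega)) (a := 0) fun g => mulVec_zero (φ g).1
  intro x hx
  refine (X.pr_eq_one (x := ⟨x, hC hx⟩)).1 (Subtype.ext (ext_iff_mulVec.2 fun w => ?_))
  by_cases hw : w = 0
  · simp [hw]
  obtain ⟨g, e1⟩ := exists_mulVec hw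
  obtain ⟨g', e2⟩ := exists_mulVec h1.symm
  have e3 : (g'⁻¹ * g).1 *ᵥ w = v := by
    have := val_mul_inv g'⁻¹
    rw [inv_inv] at this
    rw [val_mul, ← mulVec_mulVec, e1, ← e2, mulVec_mulVec, this, one_mulVec]
  generalize g'⁻¹ * g = k at e3
  have e4 : (φ ⟨_, hn k x hx⟩).1 *ᵥ v = v := hv ⟨_, hn k x hx⟩
  have e5 : φ ⟨_, hn k x hx⟩ = k * X.pr ⟨x, hC hx⟩ * k⁻¹ := by
    conv_rhs => rw [← X.pr_ll k, ← map_inv, ← map_mul, ← map_mul]
    rfl
  have e6 := val_mul_inv k⁻¹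
  rw [inv_inv] at e6
  rw [e5, ← e3, mulVec_mulVec, val_mul, mul_assoc, e6, mul_one, val_mul] at e4
  have := congrArg ((k⁻¹).1 *ᵥ ·) e4
  simp only [mulVec_mulVec, ← mul_assoc, e6, one_mul] at this
  exact this

theorem H_conj_Q [Finite G] {h x : G} (hh : h ∈ X.H) (hx : x ∈ X.Q) : h * x * h⁻¹ ∈ X.Q :=
  X.le_Q hF (IsPGroup.conj_smul (X.isPGroup_Q hF) h) ((conj_smul_le_iff ..).2 fun _ hy => X.H_conj_C hh (X.Q_le_C hy))
    (fun g y hy => (mem_conj_smul_iff ..).2 (by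
      have := X.C_conj_Q (X.H_conj_C (inv_mem hh) (X.ll_C g)) ((mem_conj_smul_iff ..).1 hy)
      simpa [mul_assoc] using this)) (conj_mem_conj_smul h hx)

theorem HX_conj_L {h : G} (hh : h ∈ X.H) (ht : Commute h X.t) (g : SL(2, F)) : ∃ g', h * X.ll g * h⁻¹ = X.ll g' := by
  have key : ∀ g, ∃ a g', h * X.ll g * h⁻¹ = X.zz a * X.ll g' := fun g => X.mem_CX hF (X.H_conj_C hh (X.ll_C g))
    ((ht.mul_left (X.ll_t g)).mul_left ht.inv_left)
  have hg : g ∈ commutator SL(2, F) := hF.perfect ▸ mem_top g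
  rw [commutator_eq_closure] at hg
  induction hg using closure_induction with
  | mem x hx =>
    obtain ⟨a, b, rfl⟩ := hx
    obtain ⟨c, a', e1⟩ := key a
    obtain ⟨d, b', e2⟩ := key b
    refine ⟨⁅a', b'⁆, ?_⟩
    rw [map_commutatorElement, conjugate_commutatorElement, e1, e2, map_commutatorElement]
    have c1 := (X.zz_comm c d).mul_right (X.zz_ll c b')
    calc _ = X.zz c * X.ll a' * (X.zz d * X.ll b') * (X.ll a')⁻¹ * (X.zz c)⁻¹ * (X.zz d * X.ll b')⁻¹ := by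
          rw [commutatorElement_def]; group
      _ = X.zz c * (X.ll a' * (X.zz d * X.ll b') * (X.ll a')⁻¹) * (X.zz c)⁻¹ * (X.zz d * X.ll b')⁻¹ := by group
      _ = X.ll a' * X.zz d * X.ll b' * (X.ll a')⁻¹ * (X.ll b')⁻¹ * (X.zz d)⁻¹ := by
          rw [(((X.zz_ll c a').mul_right c1).mul_right (X.zz_ll c a').inv_right).eq]; group
      _ = X.zz d * ⁅X.ll a', X.ll b'⁆ * (X.zz d)⁻¹ := by rw [← (X.zz_ll d a').eq, commutatorElement_def]; group
      _ = _ := by rw [← map_commutatorElement, (X.zz_ll d _).eq, mul_inv_cancel_right]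
  | one => exact ⟨1, by simp⟩
  | mul x y _ _ hx hy =>
    obtain ⟨a, e1⟩ := hx
    obtain ⟨b, e2⟩ := hy
    exact ⟨a * b, by rw [map_mul, map_mul, ← e1, ← e2]; group⟩
  | inv x _ hx =>
    obtain ⟨a, e1⟩ := hx
    exact ⟨a⁻¹, by rw [map_inv, map_inv, ← e1]; group⟩

theorem invol_CX {x : G} (hx : x ∈ X.C) (ht : Commute x X.t) (h2 : x * x = 1) : x = 1 ∨ x = X.t := by
  obtain ⟨a, g, rfl⟩ := X.mem_CX hF hx ht
  rw [(X.zz_ll a g).symm.mul_mul_mul_comm, ← X.zz_add, ← map_mul, zl_eq] at h2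
  obtain ⟨h1, -, h3⟩ := X.inj _ _ _ h2
  rw [hF.eq_zero_of_eq_neg (eq_neg_of_add_eq_zero_left h1), zz_zero, one_mul]
  exact (hF.eq_of_sq h3).imp (fun e => by rw [e, map_one]) fun e => by rw [e, t]

/-- the action of `H ∩ C(t)` on `{qq v}`. -/
theorem exists_f [Finite G] {h : G} (hh : h ∈ X.H) (ht : Commute h X.t) : ∃ f : (Fin 2 → F) →+ (Fin 2 → F),
    (∀ v, h * X.qq v * h⁻¹ = X.qq (f v)) ∧
      ∀ v w, h * X.zz (v 0 * w 1 - v 1 * w 0) * h⁻¹ = X.zz (f v 0 * f w 1 - f v 1 * f w 0) := by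
  have key : ∀ v, ∃ w, h * X.qq v * h⁻¹ = X.qq w := fun v => by
    obtain ⟨a, w, e⟩ := X.mem_Q.1 (X.H_conj_Q hF hh (X.qq_Q v))
    have : X.zz a * X.qq (-w) = X.zz (-a) * X.qq (-w) := by
      calc _ = X.t * (h * X.qq v * h⁻¹) * X.t⁻¹ := by rw [e, ← t_qq, ← mul_assoc, ← mul_assoc, (X.zz_t a).eq]; group
        _ = h * (X.t * X.qq v * X.t⁻¹) * h⁻¹ := by
          rw [← mul_assoc, ← mul_assoc, ← ht.eq, mul_assoc _ h⁻¹, ht.inv_inv.eq]; group
        _ = (h * X.qq v * h⁻¹)⁻¹ := by rw [t_qq, qq_neg]; group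
        _ = _ := by rw [e, zz_neg, qq_neg, _root_.mul_inv_rev, (X.zz_qq a w).inv_inv.eq]
    rw [hF.eq_zero_of_eq_neg (X.zz_inj (mul_right_cancel this)), zz_zero, one_mul] at e
    exact ⟨w, e⟩
  choose f hf using key
  have key : ∀ v w, f (v + w) = f v + f w ∧
      h * X.zz (v 0 * w 1 - v 1 * w 0) * h⁻¹ = X.zz (f v 0 * f w 1 - f v 1 * f w 0) := fun v w => by
    obtain ⟨b, e⟩ := X.H_zz hh (v 0 * w 1 - v 1 * w 0)
    have : X.zz b * X.qq (f (v + w)) * X.ll 1 = X.zz (f v 0 * f w 1 - f v 1 * f w 0) * X.qq (f v + f w) * X.ll 1 := by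
      rw [(X.zz_qq _ _).eq, (X.zz_qq _ _).eq, ← X.qq_mul, ← hf, ← hf, ← hf, ← e]
      calc _ = h * (X.qq (v + w) * X.zz (v 0 * w 1 - v 1 * w 0)) * h⁻¹ * X.ll 1 := by group
        _ = _ := by rw [← X.qq_mul]; group
    obtain ⟨h1, h2, -⟩ := X.coord_inj this
    exact ⟨h2, h1 ▸ e⟩
  exact ⟨AddMonoidHom.mk' f fun v w => (key v w).1, hf, fun v w => (key v w).2⟩

/-- no element of `C(R)` inverts an element of `Z`. -/
theorem noInv [Finite G] {y : G} (hy : y ∈ X.Y) {a : F} (ha : a ≠ 0) : y * X.zz a * y⁻¹ ≠ X.zz (-a) := fun e => by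
  have hH := X.mem_H_of hF e ha
  have hi := X.invert hH (fun hC => ha (hF.eq_zero_of_eq_neg (X.zz_inj (by
    rw [← e, (X.C_comm hC a).eq, mul_inv_cancel_right])))) ((X.mem_C_iff ha).2 (mul_inv_eq_iff_eq_mul.1 (by
      calc _ = y * (y * X.zz a * y⁻¹) * y⁻¹ := by group
        _ = (y * X.zz a * y⁻¹)⁻¹ := by nth_rw 1 [e]; rw [zz_neg]; group
        _ = _ := by rw [e, zz_neg, inv_inv])))
  obtain ⟨f, h1, h2⟩ := X.exists_f hF hH (X.mem_X.1 (X.Y_le_X hy))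
  have c : ∀ g, Commute y (X.ll g) → ∀ v, f (g.1 *ᵥ v) = g.1 *ᵥ f v := fun g hg v => X.qq_inj (by
    rw [← h1, ← X.ll_qq, ← X.ll_qq, ← h1]
    calc _ = (y * X.ll g) * X.qq v * (y * X.ll g)⁻¹ := by group
      _ = _ := by rw [hg.eq]; group)
  have ci := c _ (X.mem_Y.1 hy).1
  have cj := c _ (X.mem_Y.1 hy).2
  have a1 := ci ![1, 0]
  have a2 := cj ![1, 0]
  have e1 : (ii F).1 *ᵥ ![1, 0] = -![0, 1] := by ext i; fin_cases i <;> simp [ii_val]
  have e2 : (jj F).1 *ᵥ ![1, 0] = -![1, 0] + -![0, 1] := by ext i; fin_cases i <;> simp [hF.jj_val]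
  rw [e2, map_add, ← e1, a1, map_neg] at a2
  rw [e1, map_neg] at a1
  have b0 := congrFun a1 0
  have b1 := congrFun a1 1
  have b2 := congrFun a2 0
  have := X.zz_inj ((h2 ![1, 0] ![0, 1]).symm.trans (hi _))
  simp [ii_val, hF.jj_val, Matrix.mulVec, dotProduct, Fin.sum_univ_two] at b0 b1 b2 this
  have b3 := hF.eq_zero_of_eq_neg b2
  exact hF.neg_one ⟨f ![1, 0] 0, by rw [← this, b1, b3]; ring⟩

theorem mem_YC {y : G} (hy : y ∈ X.Y) (hC : y ∈ X.C) : ∃ a, y = X.zz a ∨ y = X.zz a * X.t := by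
  obtain ⟨a, g, rfl⟩ := X.mem_CX hF hC (X.mem_X.1 (X.Y_le_X hy))
  have hg := X.mem_Y.1 (mul_mem (inv_mem (X.Z_le_Y (X.zz_mem a))) hy)
  rw [inv_mul_cancel_left] at hg
  exact ⟨a, (hF.eq_of_comm (X.ll_inj (by simpa [I] using hg.1.eq)) (X.ll_inj (by simpa [J] using hg.2.eq))).imp
    (fun e => by rw [e, map_one, mul_one]) fun e => by rw [e, t]⟩

theorem J_I : X.J * X.I = X.t * (X.I * X.J) := by rw [I, J, t, ← map_mul, hF.jj_ii, map_mul, map_mul]
theorem ρ_J : X.ρ * X.J * X.ρ⁻¹ = X.J * X.I := by rw [I, J, ρ, ← map_inv, ← map_mul, ← map_mul, hF.uu_jj, map_mul]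

theorem mem_R {r : G} : r ∈ X.R ↔ ∃ s, (s = 1 ∨ s = X.t) ∧ (r = s ∨ r = s * X.I ∨ r = s * X.J ∨ r = s * (X.I * X.J)) := by
  have m : ∀ s, s = 1 ∨ s = X.t → s ∈ X.R := by rintro _ (rfl | rfl); exacts [one_mem _, X.t_R]
  refine ⟨fun h => ?_, ?_⟩
  · have tI' : X.I * X.t = X.t * X.I := (X.ll_t _).eq
    have tJ' : X.J * X.t = X.t * X.J := (X.ll_t _).eq
    have tI : ∀ x, X.I * (X.t * x) = X.t * (X.I * x) := fun x => by rw [← mul_assoc, tI', mul_assoc]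
    have tJ : ∀ x, X.J * (X.t * x) = X.t * (X.J * x) := fun x => by rw [← mul_assoc, tJ', mul_assoc]
    have II : ∀ x, X.I * (X.I * x) = X.t * x := fun x => by rw [← mul_assoc, I_sq]
    have JI : ∀ x, X.J * (X.I * x) = X.t * (X.I * (X.J * x)) := fun x => by rw [← mul_assoc, X.J_I hF]; group
    have tt : ∀ x, X.t * (X.t * x) = x := fun x => by rw [← mul_assoc, t_sq, one_mul]
    have iI : X.I⁻¹ = X.t * X.I := inv_eq_of_mul_eq_one_right (by rw [tI, I_sq, t_sq])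
    have iJ : X.J⁻¹ = X.t * X.J := inv_eq_of_mul_eq_one_right (by rw [tJ, J_sq, t_sq])
    induction h using closure_induction_left with
    | one => exact ⟨1, Or.inl rfl, Or.inl rfl⟩
    | mul_left x hx y _ hy =>
      change x = X.I ∨ x = X.J at hx
      obtain ⟨s, rfl | rfl, rfl | rfl | rfl | rfl⟩ := hy <;> rcases hx with rfl | rfl <;>
        simp [tI, tJ, tI', tJ', II, JI, tt, I_sq, J_sq, t_sq, X.J_I hF]
    | inv_mul_cancel x hx y _ hy =>
      change x = X.I ∨ x = X.J at hx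
      obtain ⟨s, rfl | rfl, rfl | rfl | rfl | rfl⟩ := hy <;> rcases hx with rfl | rfl <;>
        simp [iI, iJ, mul_assoc, tI, tJ, tI', tJ', II, JI, tt, I_sq, J_sq, t_sq, X.J_I hF]
  · rintro ⟨s, hs, rfl | rfl | rfl | rfl⟩
    exacts [m _ hs, mul_mem (m _ hs) X.I_R, mul_mem (m _ hs) X.J_R, mul_mem (m _ hs) (mul_mem X.I_R X.J_R)]

theorem IJ_sq : X.I * X.J * (X.I * X.J) = X.t := by
  calc _ = X.I * (X.J * X.I) * X.J := by group
    _ = X.I * X.t * X.I * (X.J * X.J) := by rw [X.J_I hF]; group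
    _ = X.t * (X.I * X.I) * (X.J * X.J) := by rw [show X.I * X.t = X.t * X.I from (X.ll_t _).eq]; group
    _ = _ := by rw [I_sq, J_sq, t_sq, one_mul]

theorem R_comm_t {r : G} (hr : r ∈ X.R) : Commute r X.t := X.mem_X.1 (X.L_le_X (X.R_le_L hr))

theorem R_sq {r : G} (hr : r ∈ X.R) : r ∈ zpowers X.t ∨ r * r = X.t := by
  have key : ∀ s x, (s = 1 ∨ s = X.t) → x ∈ X.R → x * x = X.t → s * x * (s * x) = X.t := by
    rintro _ x (rfl | rfl) hx e
    · simpa using e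
    · rw [(X.R_comm_t hF hx).mul_mul_mul_comm, t_sq, one_mul, e]
  obtain ⟨s, hs, rfl | rfl | rfl | rfl⟩ := (X.mem_R hF).1 hr
  exacts [Or.inl (X.mem_zpowers_t.2 hs), Or.inr (key _ _ hs X.I_R X.I_sq), Or.inr (key _ _ hs X.J_R X.J_sq),
    Or.inr (key _ _ hs (mul_mem X.I_R X.J_R) (X.IJ_sq hF))]

theorem R_inv {r : G} (hr : r ∈ X.R) (h : r * r = 1) : r ∈ zpowers X.t :=
  (X.R_sq hF hr).resolve_right fun e => X.t_ne hF (e.symm.trans h)

theorem sq_zpowers {r : G} (hr : r ∈ zpowers X.t) : r * r = 1 := by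
  rcases X.mem_zpowers_t.1 hr with rfl | rfl
  exacts [one_mul _, X.t_sq]

theorem R_sq' {r : G} (hr : r ∈ X.R) : r * r ∈ zpowers X.t :=
  X.mem_zpowers_t.2 ((X.R_sq hF hr).imp_left (X.sq_zpowers hF))

theorem isPGroup_R : IsPGroup 2 X.R := fun r => ⟨2, Subtype.ext (by
  rw [show 2 ^ 2 = 2 * 2 from rfl, pow_mul, pow_two, pow_two]; exact X.sq_zpowers hF (X.R_sq' hF r.2))⟩

/-- `R / ⟨t⟩` is abelian. -/
theorem R_comm {r s : G} (hr : r ∈ X.R) (hs : s ∈ X.R) : ⁅r, s⁆ ∈ zpowers X.t := by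
  have h1 := X.R_sq' hF (mul_mem hr hs)
  have h2 := inv_mem (X.R_sq' hF hr)
  have h3 := inv_mem (X.R_sq' hF hs)
  have := mul_mem (mul_mem h1 h3) h2
  have c3 : Commute (r * r)⁻¹ s := by
    rcases X.mem_zpowers_t.1 h2 with e | e <;> rw [e]
    exacts [Commute.one_left _, (X.R_comm_t hF hs).symm]
  convert this using 1
  calc _ = r * s * r * ((r * r)⁻¹ * s⁻¹) := by rw [commutatorElement_def]; group
    _ = r * s * (r * s) * (s * s)⁻¹ * (r * r)⁻¹ := by rw [c3.inv_right.eq]; group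

theorem not_comm_IJ : ¬ Commute X.I X.J := fun h => X.t_ne hF (by have := X.J_I hF; rwa [← h.eq, right_eq_mul] at this)

theorem ρ_mem : X.ρ ∈ normalizer (X.R : Set G) := by
  refine mem_normalizer_of_pow (X.ρ_pow hF) fun x hx => ?_
  have : X.R ≤ X.R.comap (MulAut.conj X.ρ).toMonoidHom := (closure_le _).2 (by
    rintro _ (rfl | rfl)
    exacts [show X.ρ * X.I * X.ρ⁻¹ ∈ X.R from X.ρ_I ▸ X.J_R,
      show X.ρ * X.J * X.ρ⁻¹ ∈ X.R from X.ρ_J hF ▸ mul_mem X.J_R X.I_R])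
  exact this hx

/-- `ρ` has no fixed point on `R / ⟨t⟩`. -/
theorem ρ_fpf {r : G} (hr : r ∈ X.R) (h : ⁅X.ρ, r⁆ ∈ zpowers X.t) : r ∈ zpowers X.t := by
  obtain ⟨g, rfl⟩ := X.R_le_L hr
  have h3 : X.ll g * X.ρ⁻¹ * (X.ll g)⁻¹ = X.ρ⁻¹ := by
    rcases X.mem_zpowers_t.1 h with e | e
    · rw [(commutatorElement_eq_one_iff_commute.1 e).symm.inv_right.eq, mul_inv_cancel_right]
    · have e1 : X.ll g * X.ρ⁻¹ * (X.ll g)⁻¹ = X.ρ⁻¹ * X.t := by rw [← e, commutatorElement_def]; group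
      have := congrArg (· ^ 3) e1
      simp only [conj_pow, inv_pow, X.ρ_pow hF] at this
      rw [(show Commute X.ρ⁻¹ X.t from (X.ll_t (uu 1)).inv_left).mul_pow, inv_pow, X.ρ_pow hF, pow_three, t_sq] at this
      exact absurd (by simpa using this.symm) (X.t_ne hF)
  obtain ⟨c, e⟩ := comm_uu (g := g) (d := -1) (neg_ne_zero.2 one_ne_zero) (X.ll_inj (by
    rw [map_mul, map_mul, ← uu_inv, map_inv]; exact mul_inv_eq_iff_eq_mul.1 h3))
  have h4 : g * g * (g * g) = 1 := X.ll_inj (by simpa using X.sq_zpowers hF (X.R_sq' hF hr))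
  have : uu (c + c + (c + c)) = uu 0 := by
    rw [← uu_mul, ← uu_mul, uu_zero, ← h4]
    rcases e with rfl | rfl <;> simp
  have c0 : c = 0 := by linear_combination uu_inj this - c * hF.three
  rw [c0, uu_zero] at e
  exact X.mem_zpowers_t.2 (e.imp (fun e => by rw [e, map_one]) fun e => by rw [e, mul_one, t])

/-- an element acting trivially on `R / ⟨t⟩` lies in `R C(R)`. -/
theorem exists_RY {x : G} (h1 : ⁅x, X.I⁆ ∈ zpowers X.t) (h2 : ⁅x, X.J⁆ ∈ zpowers X.t) : ∃ r ∈ X.R, r⁻¹ * x ∈ X.Y := by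
  have tI : X.I * X.t = X.t * X.I := (X.ll_t _).eq
  have tJ : X.J * X.t = X.t * X.J := (X.ll_t _).eq
  have f : ∀ {r a : G}, ⁅x, a⁆ = ⁅r, a⁆ → Commute (r⁻¹ * x) a := fun {r a} e => by
    have : x * a * x⁻¹ = r * a * r⁻¹ := mul_right_cancel (b := a⁻¹) e
    refine mul_inv_eq_iff_eq_mul.1 ?_
    calc _ = r⁻¹ * (x * a * x⁻¹) * r := by group
      _ = _ := by rw [this]; group
  have JI : ⁅X.J, X.I⁆ = X.t := by rw [commutatorElement_def, X.J_I hF]; group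
  have IJ : ⁅X.I, X.J⁆ = X.t := by rw [← commutatorElement_inv, JI, t_inv]
  rcases X.mem_zpowers_t.1 h1 with e1 | e1 <;> rcases X.mem_zpowers_t.1 h2 with e2 | e2
  · exact ⟨1, one_mem _, X.mem_Y.2 ⟨f (by simp [e1]), f (by simp [e2])⟩⟩
  · exact ⟨_, X.I_R, X.mem_Y.2 ⟨f (by simp [e1]), f (by rw [e2, IJ])⟩⟩
  · exact ⟨_, X.J_R, X.mem_Y.2 ⟨f (by rw [e1, JI]), f (by simp [e2])⟩⟩
  · refine ⟨_, mul_mem X.I_R X.J_R, X.mem_Y.2 ⟨f ?_, f ?_⟩⟩
    · calc _ = X.I * X.t * X.I⁻¹ := by rw [e1, tI, mul_inv_cancel_right]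
        _ = _ := by rw [← JI, commutatorElement_def, commutatorElement_def]; group
    · rw [e2, ← IJ, commutatorElement_def, commutatorElement_def]; group

variable [Finite G]

/-- `2`-subgroups of `C` have order at most `8`. -/
theorem card_two_dvd {P : Subgroup G} (hP : IsPGroup 2 P) (hC : P ≤ X.C) : Nat.card P ∣ 8 := by
  obtain ⟨n, hn⟩ := hP.exists_card_eq
  have inj : Function.Injective (X.pr.comp (inclusion hC)) := (injective_iff_map_eq_one _).2 fun x hx => by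
    obtain ⟨k, hk⟩ := hP x
    have h3 : x ^ 3 = 1 := Subtype.ext (X.Q_pow hF (X.pr_eq_one.1 hx))
    exact orderOf_eq_one_iff.1 (Nat.eq_one_of_dvd_coprimes ((by decide : Nat.Coprime 2 3).pow_left k)
      (orderOf_dvd_of_pow_eq_one hk) (orderOf_dvd_of_pow_eq_one h3))
  have := card_dvd_of_injective _ inj
  rw [hF.card_SL, hn] at this
  replace this := ((Nat.coprime_two_left.2 hF.card_odd).pow_left n).dvd_of_dvd_mul_left this
  rw [hn]
  refine pow_dvd_pow 2 (show n ≤ 3 from not_lt.1 fun h => hF.not_sixteen ((pow_dvd_pow 2 (show 4 ≤ n from h)).trans this))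

theorem card_R : Nat.card X.R = 8 := by
  have h8 := X.card_two_dvd hF (X.isPGroup_R hF) (X.R_le_L.trans X.L_le_C)
  have h4 : Nat.card (zpowers X.I) = 4 := by
    rw [Nat.card_zpowers]
    exact orderOf_eq_prime_pow (p := 2) (n := 1) (by rw [pow_one, pow_two, I_sq]; exact X.t_ne hF)
      (by rw [show 2 ^ (1 + 1) = 2 * 2 from rfl, pow_mul, pow_two, pow_two, I_sq, t_sq])
  have hle : zpowers X.I ≤ X.R := zpowers_le.2 X.I_R
  have hd := card_dvd_of_le hle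
  have hne : Nat.card X.R ≠ 4 := fun e => by
    obtain ⟨n, hn⟩ := (eq_of_le_of_card_ge hle (by omega)).symm ▸ X.J_R
    exact X.not_comm_IJ hF (hn ▸ (Commute.refl _).zpow_right n)
  rw [h4] at hd
  have := Nat.le_of_dvd (by decide) h8
  have := Nat.card_pos (α := X.R)
  omega

theorem eq_R {P : Subgroup G} (hP : IsPGroup 2 P) (hC : P ≤ X.C) (hR : X.R ≤ P) : P = X.R :=
  (eq_of_le_of_card_ge hR (X.card_R hF ▸ Nat.le_of_dvd (by decide) (X.card_two_dvd hF hP hC))).symm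

/-- a criterion for Sylow subgroups. -/
theorem _root_.CL.Hay.isSylowIn_of_normalizer {p : ℕ} [Fact p.Prime] {S W : Subgroup G} (hle : S ≤ W) (hS : IsPGroup p S)
    (h : ∀ U : Subgroup G, IsPGroup p U → S ≤ U → U ≤ W → U ≤ normalizer (S : Set G) → U ≤ S) : IsSylowIn p S W :=
  isSylowIn_of_maximal hle hS fun U hU h1 h2 => by
    by_contra hne
    exact (lt_inf_normalizer_of_isPGroup hU (lt_of_le_of_ne h1 (Ne.symm hne))).not_ge
      (h _ (hU.to_le inf_le_left) (le_inf h1 le_normalizer) (inf_le_left.trans h2) inf_le_right)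

theorem eq_zz_of_three {y : G} (hy : y ∈ X.Y) (hC : y ∈ X.C) (h3 : IsPGroup 3 (zpowers y)) : y ∈ X.Z := by
  obtain ⟨a, rfl | rfl⟩ := X.mem_YC hF hy hC
  · exact X.zz_mem a
  obtain ⟨k, hk⟩ := h3 ⟨_, mem_zpowers _⟩
  have := congrArg (fun x : zpowers (X.zz a * X.t) => (x ^ 3 : G)) hk
  simp only [SubmonoidClass.mk_pow, OneMemClass.coe_one, one_pow] at this
  rw [← pow_mul, mul_comm, pow_mul, (X.zz_t a).mul_pow, X.zz_pow hF, one_mul, pow_three, t_sq, mul_one] at this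
  have := orderOf_dvd_of_pow_eq_one this
  rw [X.orderOf_t hF] at this
  exact absurd (Nat.prime_two.dvd_of_dvd_pow this) (by decide)

theorem sylow_Z : IsSylowIn 3 X.Z X.Y :=
  have : Fact (Nat.Prime 3) := ⟨by norm_num⟩
  isSylowIn_of_normalizer hF X.Z_le_Y (X.isPGroup_Z hF) fun _ hU _ h2 h3 x hx =>
    X.eq_zz_of_three hF (h2 hx) (X.three_le_C hF hU h3 hx) (hU.to_le (zpowers_le.2 hx))

theorem frattini_Y {x : G} (hx : x ∈ normalizer (X.Y : Set G)) : ∃ y ∈ X.Y, y * x ∈ X.H :=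
  have : Fact (Nat.Prime 3) := ⟨by norm_num⟩
  (X.sylow_Z hF).frattini le_rfl hx

theorem norm_R_le : normalizer (X.R : Set G) ≤ normalizer (X.Y : Set G) := fun g hg => by
  have key : ∀ g ∈ normalizer (X.R : Set G), ∀ y ∈ X.Y, g * y * g⁻¹ ∈ X.Y := fun g hg y hy r hr => by
    have := hy _ ((mem_normalizer_iff.1 (inv_mem hg) r).1 hr)
    calc _ = g * (g⁻¹ * r * g⁻¹⁻¹ * y) * g⁻¹ := by group
      _ = _ := by rw [this]; group
  exact mem_normalizer_fintype (key g hg)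

theorem norm_R_le_X : normalizer (X.R : Set G) ≤ X.X₀ := fun g hg => by
  have h := X.R_inv hF ((mem_normalizer_iff.1 hg _).1 X.t_R) (by
    calc _ = g * (X.t * X.t) * g⁻¹ := by group
      _ = 1 := by rw [t_sq]; group)
  rcases X.mem_zpowers_t.1 h with e | e
  · exact absurd (by simpa using e) (X.t_ne hF)
  · exact X.mem_X.2 (mul_inv_eq_iff_eq_mul.1 e)

end Loc

end CL.Hay
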