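/-
Project HAY: the statements of the remaining parts.
-/
import Cfsg.Agent.Hay.Basic

set_option autoImplicit false

open Subgroup Matrix CL.Grp
open scoped MatrixGroups commutatorElement

namespace CL.Hay

universe u v

namespace Loc

variable {G : Type u} [Group G] {F : Type v} [Field F] (X : Loc G F)

/-- the `3'`-elements of `C(t) ∩ C(z u)`. -/
def T3 : Prop := ∀ a d, a ≠ 0 → d ≠ 0 → ∀ x ∈ X.X₀, Commute x (X.zz a * X.ll (uu d)) → ¬ 3 ∣ orderOf x → x ∈ zpowers X.t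

/-- a Sylow `2`-subgroup `S` of `N(R)`, with `R' = S ∩ C(R)`. -/
structure Two (S R' : Subgroup G) (b : G) : Prop where
  syl : IsSylowIn 2 S (normalizer (X.R : Set G))
  mem : ∀ x, x ∈ R' ↔ x ∈ S ∧ x ∈ X.Y
  card : Nat.card R' = 8
  sq : ∀ y ∈ R', y * y ∈ zpowers X.t
  rho : ∀ y ∈ X.Y, Commute X.ρ y
  conj : ∃ k ∈ X.Y, ∃ a, a ≠ 0 ∧ b = k * X.zz a * k⁻¹
  nor : b ∈ normalizer (R' : Set G)
  fpf : ∀ x ∈ R', ⁅b, x⁆ ∈ zpowers X.t → x ∈ zpowers X.t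
  out : S = X.R ⊔ R' ∨ ∃ τ ∈ S, τ ∈ X.H ∧ τ ∉ X.C ∧ τ * τ ∈ X.R ∧ (∀ s ∈ S, s ∈ X.R ⊔ R' ∨ τ⁻¹ * s ∈ X.R ⊔ R') ∧
    (∃ r ∈ X.R, ⁅τ, r⁆ ∉ zpowers X.t) ∧ ∃ x ∈ R', ⁅τ, x⁆ ∉ zpowers X.t

/-- `C(R) = L ^ w` centralises `L`. -/
structure Ops (w : G) : Prop where
  wt : Commute w X.t
  w2 : w * w ∈ zpowers X.t
  mem : ∀ y, y ∈ X.Y ↔ w * y * w⁻¹ ∈ X.L
  comm : ∀ l ∈ X.L, ∀ y ∈ X.Y, Commute l y
  nor : ∀ n ∈ normalizer (X.Y : Set G), Commute n X.t → n ∈ X.L ⊔ X.Y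
  odd : Cfsg.oddCore X.X₀ = ⊥
  top : X.X₀ ⊔ Cfsg.oddCore G ≠ ⊤

end Loc

/-- (HAY-I1) -/
def T3Thm : Prop := All.{u, v} fun _ _ _ _ _ X => X.SC → X.T3

/-- (HAY-1S) -/
def TwoThm : Prop := All.{u, v} fun _ _ _ _ _ X => X.YF → ∃ S R' b, X.Two S R' b

/-- (HAY-1A) -/
def SylThm : Prop := All.{u, v} fun _ _ _ _ _ X => X.SC → X.T3 → ∀ S R' b, X.Two S R' b → IsSylowIn 2 S X.X₀

/-- (HAY-1B) -/
def FusThm : Prop := All.{u, v} fun _ _ _ _ _ X => X.Out → ∀ S R' b, X.Two S R' b → IsSylowIn 2 S X.X₀ →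
  Cfsg.IsIsolatedInvolution X.t

/-- (HAY-2A) -/
def OpA : Prop := All.{u, v} fun _ _ _ _ _ X => X.OP → ∃ w, X.Ops w

/-- (HAY-2B) -/
def OpB : Prop := All.{u, v} fun G _ F _ _ X => ∀ w, X.Ops w → Nonempty (G ≃* Cfsg.PSp 2 F)

theorem iso2_of (h1 : T3Thm.{u, v}) (h2 : TwoThm.{u, v}) (h3 : SylThm.{u, v}) (h4 : FusThm.{u, v}) : Iso2.{u, v} :=
  fun G _ _ F _ _ X hF hS hO hY =>
    let ⟨S, R', b, h⟩ := h2 G F X hF hY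
    h4 G F X hF hO S R' b h (h3 G F X hF hS (h1 G F X hF hS) S R' b h)

theorem openThm_of (h1 : OpA.{u, v}) (h2 : OpB.{u, v}) : OpenThm.{u, v} :=
  fun G _ _ F _ _ X hF hO => let ⟨w, h⟩ := h1 G F X hF hO; h2 G F X hF w h

theorem closedThm_of (h1 : YThm.{u, v}) (h2 : Iso1.{u, v}) (h3 : Iso2.{u, v}) (h4 : OutThm.{u, v}) (h5 : OddQ.{u, v}) :
    ClosedThm.{u, v} := fun G _ _ F _ _ X hF hS => by
  have hO := h4 G F X hF hS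
  obtain ⟨a, ha, h⟩ := h5 G F X hF (Or.inl ((h1 G F X hF).elim (fun h => h2 G F X hF h hO) (h3 G F X hF hS hO)))
  refine ⟨fun c hc g => X.H_conj_C ?_ hc⟩
  obtain ⟨b, v, e⟩ := X.mem_Q.1 (h g)
  by_cases hv : v = 0
  · exact X.mem_H_of hF (e.trans (by rw [hv, X.qq_zero, mul_one])) ha
  obtain ⟨k, hk⟩ := exists_mulVec hv
  have e2 : X.ll k * g * X.zz a * (X.ll k * g)⁻¹ = X.zz b * X.qq ![1, 0] * X.ll (uu 0) := by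
    calc _ = X.ll k * (g * X.zz a * g⁻¹) * (X.ll k)⁻¹ := by group
      _ = _ := by rw [e, ← hk, ← X.ll_qq, uu_zero, map_one, ← mul_assoc, ← (X.zz_ll b k).eq]; group
  obtain ⟨n, hn, e3⟩ := hS (X.zz a) ⟨a, 0, 0, by simp [uu_zero, show (![0, 0] : Fin 2 → F) = 0 by simp, X.qq_zero]⟩ _
    ⟨_, _, _, rfl⟩ (isConj_iff.2 ⟨_, e2⟩)
  obtain ⟨c, e4⟩ := X.H_zz hn a
  have := (X.coord_inj (e3.symm.trans (e4.trans (X.zz_eq c)))).2.1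
  simp at this

end CL.Hay
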