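/-
Groups of additive automorphisms of the space of binary quadratic forms whose point stabilisers on the line of the
forms `a X²` are those of `GL₂(q)`, `q ≡ 3 (mod 4)`.
-/
import Cfsg.Agent.Cls.QuadClass

set_option autoImplicit false

open Subgroup

namespace CL.Hay

variable {F : Type*} [Field F]

/-- additive automorphisms of `F³` -/
abbrev E (F : Type*) [Field F] := (F × F × F) ≃ₗ[ℤ] (F × F × F)

/-- the action `S ↦ h S hᵀ` on symmetric matrices -/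
def R₀ : Matrix (Fin 2) (Fin 2) F →* Module.End ℤ (F × F × F) where
  toFun h := AddMonoidHom.toIntLinearMap ⟨⟨fun x => (h 0 0 ^ 2 * x.1 + 2 * h 0 0 * h 0 1 * x.2.1 + h 0 1 ^ 2 * x.2.2,
    h 0 0 * h 1 0 * x.1 + (h 0 0 * h 1 1 + h 0 1 * h 1 0) * x.2.1 + h 0 1 * h 1 1 * x.2.2,
    h 1 0 ^ 2 * x.1 + 2 * h 1 0 * h 1 1 * x.2.1 + h 1 1 ^ 2 * x.2.2), by simp⟩,
    fun x y => by simp only [Prod.mk_add_mk, Prod.fst_add, Prod.snd_add, Prod.mk.injEq]; refine ⟨?_, ?_, ?_⟩ <;> ring⟩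
  map_one' := LinearMap.ext fun x => by simp
  map_mul' g h := LinearMap.ext fun x => by
    simp [Matrix.mul_apply, Fin.sum_univ_two]; refine ⟨?_, ?_, ?_⟩ <;> ring

/-- the action of `GL₂` -/
def R : GL (Fin 2) F →* E F := (LinearMap.GeneralLinearGroup.generalLinearEquiv ℤ _).toMonoidHom.comp (Units.map R₀)

theorem R_apply (h : GL (Fin 2) F) (a b c : F) : R h (a, b, c) =
    (h 0 0 ^ 2 * a + 2 * h 0 0 * h 0 1 * b + h 0 1 ^ 2 * c,
      h 0 0 * h 1 0 * a + (h 0 0 * h 1 1 + h 0 1 * h 1 0) * b + h 0 1 * h 1 1 * c,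
      h 1 0 ^ 2 * a + 2 * h 1 0 * h 1 1 * b + h 1 1 ^ 2 * c) := rfl

theorem exists_R {p q r s : F} (h : p * s - q * r ≠ 0) : ∃ g : GL (Fin 2) F, ∀ a b c, R g (a, b, c) =
    (p ^ 2 * a + 2 * p * q * b + q ^ 2 * c, p * r * a + (p * s + q * r) * b + q * s * c,
      r ^ 2 * a + 2 * r * s * b + s ^ 2 * c) :=
  ⟨.mkOfDetNeZero !![p, q; r, s] (by simpa using h), fun _ _ _ => rfl⟩

theorem E.ext {g h : E F} (e : ∀ a b c, g (a, b, c) = h (a, b, c)) : g = h := LinearEquiv.ext fun x => e _ _ _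

theorem E.inv_app {g h : E F} {x y : F × F × F} : (g⁻¹ * h) x = y ↔ h x = g y := g.symm_apply_eq

theorem E.map0 (g : E F) : g (0, 0, 0) = (0, 0, 0) := map_zero g

theorem E.eq0 {g : E F} {a b c : F} (h : g (a, b, c) = (0, 0, 0)) : a = 0 ∧ b = 0 ∧ c = 0 := by
  simpa using g.injective (h.trans g.map0.symm)

/-- commuting with the involution `(a, b, c) ↦ (a, -b, c)` -/
def Com (g : E F) : Prop := ∀ a b c, g (a, -b, c) = ((g (a, b, c)).1, -(g (a, b, c)).2.1, (g (a, b, c)).2.2)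

/-- the hypotheses -/
structure LA (Γ : Subgroup (E F)) : Prop where
  two : (2 : F) ≠ 0
  neg : ¬ IsSquare (-1 : F)
  exU : ∀ l, ∃ g ∈ Γ, ∀ a b c, g (a, b, c) = (a + 2 * l * b + l ^ 2 * c, b + l * c, c)
  exT : ∀ k ≠ 0, ∃ g ∈ Γ, ∀ a b c, g (a, b, c) = (a, k * b, k ^ 2 * c)
  stab : ∀ g ∈ Γ, ∀ a ≠ 0, g (a, 0, 0) = (a, 0, 0) → ∃ l k, ∀ a b c,
    g (a, b, c) = (a + 2 * l * (k * b) + l ^ 2 * (k ^ 2 * c), k * b + l * (k ^ 2 * c), k ^ 2 * c)
  nt : ¬ ∀ a ≠ 0, ∀ a' ≠ 0, ∃ g ∈ Γ, g (a, 0, 0) = (a', 0, 0)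

namespace LA

variable {Γ : Subgroup (E F)} (h : LA Γ) {g g' : E F}
include h

theorem eq_zero {x : F} (e : x = -x) : x = 0 := (mul_eq_zero.1 (by linear_combination e)).resolve_left h.two

theorem Com.mid (hc : Com g) (b : F) : g (0, b, 0) = (0, (g (0, b, 0)).2.1, 0) := by
  have := hc 0 b 0
  rw [show ((0, -b, 0) : F × F × F) = -(0, b, 0) by simp, map_neg] at this
  exact Prod.ext (h.eq_zero (congrArg (·.1) this).symm) (Prod.ext rfl (h.eq_zero (congrArg (·.2.2) this).symm))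

theorem Com.out (hc : Com g) (a c : F) : (g (a, 0, c)).2.1 = 0 :=
  h.eq_zero (by simpa using congrArg (·.2.1) (hc a 0 c))

theorem cfix (hg : g ∈ Γ) (hg' : g' ∈ Γ) {a : F} (ha : a ≠ 0) (e : g' (g (a, 0, 0)) = g (a, 0, 0)) (b : F) :
    g' (g (b, 0, 0)) = g (b, 0, 0) := by
  obtain ⟨l, k, e⟩ := h.stab _ (mul_mem (inv_mem hg) (mul_mem hg' hg)) a ha (E.inv_app.2 e)
  exact E.inv_app.1 (by simpa using e b 0 0)

theorem ti (hg : g ∈ Γ) {a a' : F} (ha : a ≠ 0) (e : g (a, 0, 0) = (a', 0, 0)) (b : F) :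
    ∃ b', g (b, 0, 0) = (b', 0, 0) := by
  obtain ⟨u, hu, e'⟩ := h.exU 1
  have := h.cfix hg hu ha (by simp [e, e']) b
  obtain ⟨x, y, z, e1⟩ : ∃ x y z, g (b, 0, 0) = (x, y, z) := ⟨_, _, _, rfl⟩
  simp only [e1, e', Prod.mk.injEq] at this
  obtain rfl : z = 0 := by linear_combination this.2.1
  exact ⟨x, by rw [e1, h.eq_zero (x := y) (by linear_combination this.1)]⟩

theorem noM (hg : g ∈ Γ) {a₀ a b : F} (hb : b ≠ 0) : g (a₀, 0, 0) ≠ (a, b, 0) := fun e => by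
  have h2 := h.two
  obtain ⟨u, hu, e'⟩ := h.exU (-a / (2 * b))
  obtain ⟨t, ht, et⟩ := h.exT (-1) (by simp)
  have hg := mul_mem hu hg
  have e : (u * g) (a₀, 0, 0) = (0, b, 0) := by simp [e, e']; field_simp; ring
  generalize u * g = g at hg e
  have h0 : a₀ ≠ 0 := fun h0 => hb (by simpa [h0, E.map0, eq_comm] using e)
  have e1 : (g⁻¹ * (t * g)) (a₀, 0, 0) = (-a₀, 0, 0) := E.inv_app.2 (by
    rw [show ((-a₀, 0, 0) : F × F × F) = -(a₀, 0, 0) by simp, map_neg]; simp [e, et])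
  have key : ∀ a, g (a, 0, 0) = (0, (g (a, 0, 0)).2.1, 0) := fun a => by
    obtain ⟨a', e2⟩ := h.ti (mul_mem (inv_mem hg) (mul_mem ht hg)) h0 e1 a
    have e2 : t (g (a, 0, 0)) = g (a', 0, 0) := E.inv_app.1 e2
    have e3 : g (a + a', 0, 0) = g (a, 0, 0) + g (a', 0, 0) := by simp [← map_add]
    obtain ⟨x, y, z, e4⟩ : ∃ x y z, g (a, 0, 0) = (x, y, z) := ⟨_, _, _, rfl⟩
    by_cases h1 : a + a' = 0
    · rw [h1, E.map0, ← e2, e4, et] at e3
      simp only [Prod.mk.injEq, Prod.mk_add_mk] at e3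
      rw [e4, h.eq_zero (x := x) (by linear_combination -e3.1), h.eq_zero (x := z) (by linear_combination -e3.2.2)]
    · have := h.cfix hg ht h1 (by rw [e3, ← e2, e4]; simp [et]) a₀
      exact absurd (h.eq_zero (by simpa [e, et, eq_comm] using this)) hb
  refine h.nt fun a ha a' ha' => ?_
  have h0 : ∀ a ≠ 0, (g (a, 0, 0)).2.1 ≠ 0 := fun a ha e => ha (E.eq0 (e ▸ key a)).1
  obtain ⟨s, hs, es⟩ := h.exT _ (div_ne_zero (h0 a' ha') (h0 a ha))
  refine ⟨_, mul_mem (inv_mem hg) (mul_mem hs hg), E.inv_app.2 ?_⟩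
  rw [LinearEquiv.mul_apply, key a, es, key a', div_mul_cancel₀ _ (h0 a ha), mul_zero]

theorem cases (hg : g ∈ Γ) : (∀ a, ∃ a', g (a, 0, 0) = (a', 0, 0)) ∨ ∀ a ≠ 0, (g (a, 0, 0)).2.2 ≠ 0 := by
  refine or_iff_not_imp_right.2 fun hn => ?_
  push Not at hn
  obtain ⟨a, ha, e⟩ := hn
  exact h.ti hg ha (Prod.ext rfl (Prod.ext (by_contra fun hb => h.noM hg hb (Prod.ext rfl (Prod.ext rfl e))) e))

theorem std (hg : g ∈ Γ) (hn : ∀ a ≠ 0, (g (a, 0, 0)).2.2 ≠ 0) : ∃ l, ∃ g' ∈ Γ, Com g' ∧ ∀ a, g (a, 0, 0) =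
    ((g' (a, 0, 0)).1 + l ^ 2 * (g' (a, 0, 0)).2.2, l * (g' (a, 0, 0)).2.2, (g' (a, 0, 0)).2.2) := by
  have h2 := h.two
  obtain ⟨x, y, z, e⟩ : ∃ x y z, g (1, 0, 0) = (x, y, z) := ⟨_, _, _, rfl⟩
  have hz : z ≠ 0 := by simpa [e] using hn 1 one_ne_zero
  obtain ⟨u, hu, eu⟩ := h.exU (-(y / z))
  obtain ⟨t, ht, et⟩ := h.exT (-1) (by simp)
  have ht' : ∀ x, t x = (x.1, -x.2.1, x.2.2) := fun x => (et _ _ _).trans (by simp)
  obtain ⟨l, k, es⟩ := h.stab _ (mul_mem (inv_mem (mul_mem hu hg)) (mul_mem ht (mul_mem hu hg))) 1 one_ne_zero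
    (E.inv_app.2 (by simp [e, eu, et, hz]))
  have es := fun a b c => E.inv_app.1 (es a b c)
  simp only [LinearEquiv.mul_apply] at es
  have e1 : t (t (u (g (0, 1, 0)))) = u (g (0, 1, 0)) := by simp [ht']
  rw [es, es] at e1
  have e2 := g.injective (u.injective e1)
  simp only [Prod.mk.injEq] at e2
  obtain rfl : k = -1 := (mul_self_eq_one_iff.1 (by linear_combination e2.2.1)).resolve_left fun hk => by
    have hl : l = 0 := h.eq_zero (h.eq_zero (x := l + l) (by rw [hk] at e2; linear_combination e2.1) |> fun h => by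
      linear_combination h)
    obtain ⟨⟨a, b, c⟩, e3⟩ := (u * g).surjective (0, 1, 0)
    have := es a b c
    simp only [hk, hl, one_pow, one_mul, mul_zero, zero_mul, add_zero, zero_pow two_ne_zero] at this
    rw [show u (g (a, b, c)) = _ from e3, ht'] at this
    exact one_ne_zero (h.eq_zero (by simpa [eq_comm] using this))
  obtain ⟨v, hv, ev⟩ := h.exU (l / 2)
  have hc : Com (u * g * v) := fun a b c => by
    simp only [LinearEquiv.mul_apply, ev, ← ht', es]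
    congr 3 <;> [skip; congr 1] <;> field_simp <;> ring
  refine ⟨y / z, _, mul_mem (mul_mem hu hg) hv, hc, fun a => ?_⟩
  have := Com.out h hc a 0
  obtain ⟨x', y', z', e'⟩ : ∃ x y z, g (a, 0, 0) = (x, y, z) := ⟨_, _, _, rfl⟩
  simp only [LinearEquiv.mul_apply, ev, mul_zero, add_zero, e', eu, Prod.mk.injEq, and_true] at this ⊢
  exact ⟨by linear_combination 2 * (y / z) * this, by linear_combination this⟩

variable [Finite F]

theorem uniq (hg : g ∈ Γ) (hc : Com g) (hg' : g' ∈ Γ) (hc' : Com g') {a a' x x' c : F} (h0 : c ≠ 0)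
    (e : g (a, 0, 0) = (x, 0, c)) (e' : g' (a', 0, 0) = (x', 0, c)) : x = x' := by
  have key : ∀ {g g' a a' x x'}, g ∈ Γ → Com g → g' ∈ Γ → g (a, 0, 0) = (x, 0, c) → g' (a', 0, 0) = (x', 0, c) →
      IsSquare ((x - x') * c) → x = x' := fun {g g' a a' x x'} hg hc hg' e e' ⟨b, hb⟩ => by
    by_contra hx
    have hb0 : b ≠ 0 := fun h => by simp [h, h0, sub_eq_zero, hx] at hb
    have hs : Function.Surjective fun b => (g (0, b, 0)).2.1 := Finite.surjective_of_injective fun b b' e => by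
      simpa using g.injective ((Com.mid h hc b).trans ((congrArg (0, ·, 0) e).trans (Com.mid h hc b').symm))
    obtain ⟨b', e1 : (g (0, b', 0)).2.1 = b⟩ := hs b
    obtain ⟨u, hu, eu⟩ := h.exU (b / c)
    refine h.noM (mul_mem (inv_mem hg) (mul_mem hu hg')) (a₀ := a') (a := a) (b := b')
      (fun e => hb0 (by simpa [e, E.map0] using e1.symm)) (E.inv_app.2 ?_)
    rw [show ((a, b', 0) : F × F × F) = (a, 0, 0) + (0, b', 0) by simp, map_add, e, Com.mid h hc, e1]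
    simp [e', eu, h0]
    field_simp
    linear_combination -hb
  by_cases hs : IsSquare ((x - x') * c)
  · exact key hg hc hg' e e' hs
  · exact (key hg' hc' hg e' e (by
      rw [← neg_sub, neg_mul, ← neg_one_mul]; exact Cls.isSquare_mul_of_not_isSquare h.neg hs)).symm

theorem surj3 (hn : ∀ a ≠ 0, (g (a, 0, 0)).2.2 ≠ 0) : Function.Bijective fun a => (g (a, 0, 0)).2.2 :=
  Finite.injective_iff_bijective.1 fun a a' e => by_contra fun h0 => hn _ (sub_ne_zero.2 h0) (by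
    rw [show ((a - a', 0, 0) : F × F × F) = (a, 0, 0) - (a', 0, 0) by simp, map_sub]; exact sub_eq_zero.2 e)

section Main

variable {w : E F} (hw : w ∈ Γ) (hc : Com w) (h1 : ∀ a, (w (a, 0, 0)).1 = 0)
include hw hc h1

omit [Finite F] hw in
theorem w_eq (a : F) : w (a, 0, 0) = (0, 0, (w (a, 0, 0)).2.2) := Prod.ext (h1 a) (Prod.ext (Com.out h hc a 0) rfl)

omit [Finite F] hw in
theorem w_ne (a : F) (ha : a ≠ 0) : (w (a, 0, 0)).2.2 ≠ 0 := fun e => ha (E.eq0 (e ▸ h.w_eq hc h1 a)).1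

theorem memb (hg : g ∈ Γ) :
    (∀ a, ∃ a', g (a, 0, 0) = (a', 0, 0)) ∨ ∃ l, ∀ a, ∃ c, g (a, 0, 0) = (l ^ 2 * c, l * c, c) := by
  refine (h.cases hg).imp id fun hn => ?_
  obtain ⟨l, g', hg', hc', e⟩ := h.std hg hn
  refine ⟨l, fun a => ⟨(g' (a, 0, 0)).2.2, ?_⟩⟩
  rcases eq_or_ne a 0 with rfl | ha
  · simp [E.map0]
  obtain ⟨a', e1 : (w (a', 0, 0)).2.2 = _⟩ := (h.surj3 (h.w_ne hc h1)).2 (g' (a, 0, 0)).2.2
  rw [e, h.uniq hg' hc' hw hc (a := a) (x := (g' (a, 0, 0)).1) (by simpa [e] using hn a ha)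
    (Prod.ext rfl (Prod.ext (Com.out h hc' a 0) rfl)) (e1 ▸ h.w_eq hc h1 a'), zero_add]

theorem semi : ∃ (B : F →+ F) (μ : F), Function.Surjective B ∧ μ ≠ 0 ∧ B 1 ≠ 0 ∧ (∀ l c, B (l * c) * B 1 = B l * B c) ∧
    ∀ a b c, w (a, b, c) = (μ * B c, B b, μ⁻¹ * B a) := by
  have hs := (h.surj3 (h.w_ne hc h1)).2
  have hA : ∀ c, w (0, 0, c) = ((w (0, 0, c)).1, 0, 0) := fun c => by
    obtain ⟨a, rfl⟩ := hs c
    rw [← h.w_eq hc h1]
    rcases h.memb hw hc h1 (mul_mem hw hw) with e | ⟨l, e⟩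
    · obtain ⟨a', e⟩ := e a
      rw [show w (w _) = _ from e]
    obtain ⟨c, e1⟩ := e 1
    obtain ⟨a', rfl⟩ := hs c
    have hl : l ≠ 0 := fun hl => h.w_ne hc h1 1 one_ne_zero (congrArg (·.2.2)
      (w.injective (e1.trans (by simpa [hl] using (h.w_eq hc h1 a').symm))))
    obtain ⟨c, e2⟩ := e a
    have := Com.out h hc 0 (w (a, 0, 0)).2.2
    rw [← h.w_eq hc h1, show w (w _) = _ from e2] at this
    rw [show w (w _) = _ from e2, (mul_eq_zero.1 this).resolve_left hl, mul_zero, mul_zero]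
  let B : F →+ F := .mk' (fun b => (w (0, b, 0)).2.1) fun x y => by
    rw [show ((0, x + y, 0) : F × F × F) = (0, x, 0) + (0, y, 0) by simp, map_add]; rfl
  have e : ∀ a b c, w (a, b, c) = ((w (0, 0, c)).1, B b, (w (a, 0, 0)).2.2) := fun a b c => by
    rw [show ((a, b, c) : F × F × F) = (a, 0, 0) + (0, b, 0) + (0, 0, c) by simp, map_add, map_add, h.w_eq hc h1,
      Com.mid h hc, hA]
    simp [B]
  have hB : ∀ b, B b = 0 → b = 0 := fun b (e : (w (0, b, 0)).2.1 = 0) => (E.eq0 (e ▸ Com.mid h hc b)).2.1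
  have key : ∀ l ≠ 0, ∃ μ ≠ 0, ∀ c, B (l * c) = μ * (w (l ^ 2 * c, 0, 0)).2.2 ∧ (w (0, 0, c)).1 = μ * B (l * c) :=
    fun l hl => by
    obtain ⟨u, hu, eu⟩ := h.exU l
    have e1 : ∀ a, (w * (u * w)) (a, 0, 0) = ((w (0, 0, (w (a, 0, 0)).2.2)).1, B (l * (w (a, 0, 0)).2.2),
        (w (l ^ 2 * (w (a, 0, 0)).2.2, 0, 0)).2.2) := fun a => by
      rw [LinearEquiv.mul_apply, LinearEquiv.mul_apply, h.w_eq hc h1, eu, e]; simp
    have h0 : B (l * (w (1, 0, 0)).2.2) ≠ 0 := fun e => mul_ne_zero hl (h.w_ne hc h1 1 one_ne_zero) (hB _ e)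
    rcases h.memb hw hc h1 (mul_mem hw (mul_mem hu hw)) with e2 | ⟨μ, e2⟩
    · obtain ⟨a', e2⟩ := e2 1
      exact absurd (congrArg (·.2.1) ((e1 1).symm.trans e2)) h0
    refine ⟨μ, fun hμ => ?_, fun c => ?_⟩
    · obtain ⟨a', e2⟩ := e2 1
      exact h0 (by simpa [hμ] using congrArg (·.2.1) ((e1 1).symm.trans e2))
    · obtain ⟨a, rfl⟩ := hs c
      obtain ⟨c, e2⟩ := e2 a
      simp only [e1, Prod.mk.injEq] at e2 ⊢
      exact ⟨by rw [e2.2.1, e2.2.2], by rw [e2.1, e2.2.1]; ring⟩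
  obtain ⟨μ, hμ, e1⟩ := key 1 one_ne_zero
  simp only [one_mul, one_pow] at e1
  refine ⟨B, μ, Finite.surjective_of_injective ((injective_iff_map_eq_zero _).2 hB), hμ,
    fun e => one_ne_zero (hB _ e), fun l c => ?_, fun a b c => by rw [e, (e1 c).2, (e1 a).1, inv_mul_cancel_left₀ hμ]⟩
  rcases eq_or_ne l 0 with rfl | hl
  · simp
  obtain ⟨ν, hν, e2⟩ := key l hl
  have e3 := (e2 1).2
  rw [mul_one] at e3
  exact mul_left_cancel₀ hν (by linear_combination B 1 * (e1 c).2 - B 1 * (e2 c).2 - B c * (e1 1).2 + B c * e3)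

theorem R_mem (x : GL (Fin 2) F) : R x ∈ Γ := by
  obtain ⟨B, μ, hs, hμ, h0, hB, e⟩ := h.semi hw hc h1
  have hB' : ∀ l c, B (l * c) = B l / B 1 * B c := fun l c => by rw [div_mul_eq_mul_div, eq_div_iff h0, hB]
  have hm : ∀ {x : GL (Fin 2) F} {g}, g ∈ Γ → (∀ a b c, w (g (a, b, c)) = R x (w (a, b, c))) → R x ∈ Γ :=
    fun {x g} hg e => by
      rw [show R x = w * g * w⁻¹ from eq_mul_inv_of_mul_eq (E.ext fun a b c => (e a b c).symm)]
      exact mul_mem (mul_mem hw hg) (inv_mem hw)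
  suffices H : ∀ (M : Matrix (Fin 2) (Fin 2) F) (hM : M.det ≠ 0), ∀ x : GL (Fin 2) F, x.1 = M → R x ∈ Γ from
    H _ x.det_ne_zero x rfl
  refine fun M hM => Matrix.diagonal_transvection_induction_of_det_ne_zero
    (fun M => ∀ x : GL (Fin 2) F, x.1 = M → R x ∈ Γ) M hM (fun D hD x ex => ?_)
    (fun ⟨i, j, hij, l⟩ x ex => ?_) fun A B hA hB h1 h2 x ex => ?_
  · rw [Matrix.det_diagonal, Fin.prod_univ_two, mul_ne_zero_iff] at hD
    obtain ⟨k, ek⟩ := hs (D 0 * B 1)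
    obtain ⟨t, ht, et⟩ := h.exT k fun e => by simp [e, h0, hD.1] at ek
    obtain ⟨s, hs, es⟩ := h.exT _ hD.2
    obtain ⟨y, ey⟩ := exists_R (p := D 0) (q := 0) (r := 0) (s := 1) (by simp [hD.1])
    rw [show R x = s * R y from E.ext fun a b c => by simp [R_apply, ex, ey, es]; ring]
    refine mul_mem hs (hm ht fun a b c => ?_)
    simp [et, e, ey, hB', ek, h0, sq, mul_assoc]; ring
  · obtain ⟨rfl, rfl⟩ | ⟨rfl, rfl⟩ : i = 0 ∧ j = 1 ∨ i = 1 ∧ j = 0 := by omega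
    · obtain ⟨u, hu, eu⟩ := h.exU l
      rwa [show R x = u from E.ext fun a b c => by simp [R_apply, ex, eu, Matrix.transvection]]
    · obtain ⟨k, ek⟩ := hs (l * μ * B 1)
      obtain ⟨u, hu, eu⟩ := h.exU k
      refine hm hu fun a b c => ?_
      simp only [eu, e, two_mul k, add_mul, map_add, sq, mul_assoc, hB', ek]
      simp [R_apply, ex, Matrix.transvection]
      constructor <;> field_simp <;> ring
  · rw [show x = .mkOfDetNeZero A hA * .mkOfDetNeZero B hB from Units.ext ex, map_mul]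
    exact mul_mem (h1 _ rfl) (h2 _ rfl)

theorem eq_range : Γ = R.range := by
  refine le_antisymm (fun g hg => ?_) (by rintro _ ⟨x, rfl⟩; exact h.R_mem hw hc h1 x)
  have hT : ∀ k ≠ 0, ∃ x : GL (Fin 2) F, ∀ a, R x (a, 0, 0) = (k * k * a, 0, 0) := fun k hk =>
    (exists_R (p := k) (q := 0) (r := 0) (s := 1) (by simpa using hk)).imp fun x e a => by simp [e, sq]
  have key : ∀ g ∈ Γ, (∀ a, ∃ a', g (a, 0, 0) = (a', 0, 0)) → g ∈ R.range := fun g hg e => by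
    obtain ⟨a', e⟩ := e 1
    have h0 : a' ≠ 0 := fun h0 => one_ne_zero (E.eq0 (h0 ▸ e)).1
    by_cases hs : IsSquare a'
    · obtain ⟨k, rfl⟩ := hs
      obtain ⟨x, ex⟩ := hT k (mul_self_ne_zero.1 h0)
      obtain ⟨l, k', e1⟩ := h.stab _ (mul_mem (inv_mem (h.R_mem hw hc h1 x)) hg) 1 one_ne_zero
        (E.inv_app.2 (by simp [e, ex]))
      obtain ⟨y, ey⟩ := exists_R (p := 1) (q := l * k') (r := 0) (s := k') fun hk =>
        one_ne_zero (E.eq0 ((e1 0 1 0).trans (by simp [show k' = 0 by simpa using hk]))).2.1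
      refine ⟨x * y, ?_⟩
      rw [map_mul, show R y = (R x)⁻¹ * g from E.ext fun a b c => by rw [ey, e1]; simp; constructor <;> ring,
        mul_inv_cancel_left]
    have h2 : ∀ a ≠ 0, ∃ g ∈ Γ, g (1, 0, 0) = (a, 0, 0) := fun a ha => by
      by_cases hs' : IsSquare a
      · obtain ⟨k, rfl⟩ := hs'
        obtain ⟨x, ex⟩ := hT k (mul_self_ne_zero.1 ha)
        exact ⟨_, h.R_mem hw hc h1 x, by simp [ex]⟩
      · obtain ⟨k, ek⟩ := (Cls.isSquare_mul_of_not_isSquare hs' hs).div (IsSquare.mul_self a')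
        obtain ⟨x, ex⟩ := hT k fun e => by simp [e, ha, h0] at ek
        exact ⟨_, mul_mem (h.R_mem hw hc h1 x) hg, by simp [e, ex, ← ek]; field_simp⟩
    refine absurd (fun a ha b hb => ?_) h.nt
    obtain ⟨x, hx, ex⟩ := h2 a ha
    obtain ⟨y, hy, ey⟩ := h2 b hb
    exact ⟨_, mul_mem hy (inv_mem hx), by rw [← ex, ← LinearEquiv.mul_apply, inv_mul_cancel_right, ey]⟩
  rcases h.memb hw hc h1 hg with e | ⟨l, e⟩
  · exact key g hg e
  obtain ⟨x, ex⟩ := exists_R (p := l) (q := -1) (r := 1) (s := 0) (by simp)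
  refine (mul_mem_cancel_left (inv_mem (MonoidHom.mem_range.2 ⟨x, rfl⟩))).1 (key _ (mul_mem (inv_mem (h.R_mem hw hc h1 x)) hg) fun a => ?_)
  obtain ⟨c, e⟩ := e a
  exact ⟨c, E.inv_app.2 (by simp [e, ex])⟩

end Main

theorem nonempty_equiv (hg : g ∈ Γ) (hn : ¬ ∀ a, ∃ a', g (a, 0, 0) = (a', 0, 0)) :
    Nonempty (Γ ≃* (R : GL (Fin 2) F →* E F).range) := by
  have hn := (h.cases hg).resolve_left hn
  obtain ⟨l, w, hw, hc, e⟩ := h.std hg hn
  have hb := h.surj3 (g := w) fun a ha => by simpa [e] using hn a ha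
  let σ : F ≃+ F := .ofBijective (((AddMonoidHom.snd _ _).comp (.snd _ _)).comp
    (w.toAddEquiv.toAddMonoidHom.comp (.inl _ _))) hb
  let φ : F →+ F := ((AddMonoidHom.fst _ _).comp (w.toAddEquiv.toAddMonoidHom.comp (.inl _ _))).comp σ.symm
  have e1 : ∀ c, w (σ.symm c, 0, 0) = (φ c, 0, c) := fun c =>
    Prod.ext rfl (Prod.ext (Com.out h hc _ 0) (σ.apply_symm_apply c))
  have e2 : ∀ k ≠ 0, ∀ c, φ (k ^ 2 * c) = φ c := fun k hk c => by
    obtain ⟨t, ht, et⟩ := h.exT k hk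
    rcases eq_or_ne c 0 with rfl | h0
    · rw [mul_zero]
    refine h.uniq hw hc (mul_mem ht hw) (fun a b c => ?_) (mul_ne_zero (pow_ne_zero 2 hk) h0) (e1 _)
      (a' := σ.symm c) (by simp [e1, et])
    rw [LinearEquiv.mul_apply, LinearEquiv.mul_apply, hc, et, et, mul_neg]
  let ψ : E F := AddEquiv.toIntLinearEquiv ⟨⟨fun x => (x.1 + φ x.2.2, x.2), fun x => (x.1 - φ x.2.2, x.2),
    fun x => by simp, fun x => by simp⟩, fun x y => by simp [add_add_add_comm]⟩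
  have p1 : ∀ a b c, ψ (a, b, c) = (a + φ c, b, c) := fun _ _ _ => rfl
  have p2 : ∀ x, ψ⁻¹ x = (x.1 - φ x.2.2, x.2) := fun _ => rfl
  have hm : ∀ {g}, g ∈ Γ.comap (MulAut.conj ψ).toMonoidHom ↔ ψ * g * ψ⁻¹ ∈ Γ := Iff.rfl
  have hm' : ∀ {g}, g ∈ Γ → ψ⁻¹ * g * ψ ∈ Γ.comap (MulAut.conj ψ).toMonoidHom := fun hg => hm.2 (by simpa [mul_assoc])
  have H : LA (Γ.comap (MulAut.conj ψ).toMonoidHom) := by
    refine ⟨h.two, h.neg, fun l => ?_, fun k hk => ?_, fun g hg a ha e => ?_, fun H => h.nt fun a ha b hb => ?_⟩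
    · obtain ⟨u, hu, eu⟩ := h.exU l
      exact ⟨_, hm' hu, fun a b c => by simp [p1, p2, eu]; ring⟩
    · obtain ⟨u, hu, eu⟩ := h.exT k hk
      exact ⟨_, hm' hu, fun a b c => by simp [p1, p2, eu, e2 k hk]⟩
    · obtain ⟨l, k, e⟩ := h.stab _ (hm.1 hg) a ha (by simp [p1, p2, e])
      have hk : k ≠ 0 := fun hk => one_ne_zero (E.eq0 ((e 0 1 0).trans (by simp [hk]))).2.1
      refine ⟨l, k, fun a b c => ψ.injective ?_⟩
      have := e (a + φ c) b c
      simp only [LinearEquiv.mul_apply, p2, add_sub_cancel_right] at this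
      rw [this, p1, e2 k hk]; simp; ring
    · obtain ⟨g, hg, e⟩ := H a ha b hb
      exact ⟨_, hm.1 hg, by simp [p1, p2, e]⟩
  rw [← H.eq_range (hm' hw) (fun a b c => by simp [p1, p2, hc (a + φ c) b c]) fun a => by
    obtain ⟨c, rfl⟩ := σ.symm.surjective a
    simp [p1, p2, e1]]
  exact ⟨((MulAut.conj ψ).symm.subgroupMap Γ).trans (.subgroupCongr (map_equiv_eq_comap_symm' _ _))⟩

end LA

end CL.Hay
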