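/-
The normaliser of the elementary abelian subgroup of order `q³` in a group with the centraliser of a transvection of
`PSp₄(q)`.
-/
import Cfsg.Agent.Hay.Lin
import Cfsg.Agent.Even.Amb2
import Cfsg.Agent.S0051

set_option autoImplicit false

open Cfsg Subgroup Multiplicative

namespace CL.Hay

open CL.Even CL.Grp

variable {F : Type*} [Field F] {G G' : Type*} [Group G] [Group G']

theorem nonempty_range_R [Finite F] (hn : ¬ IsSquare (-1 : F)) (h2 : (2 : F) ≠ 0) : Nonempty ((R : GL (Fin 2) F →* E F).range ≃*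
    Matrix.ProjGenLinGroup (Fin 2) F × Multiplicative (ZMod ((Nat.card F - 1) / 2))) := by
  let Φ : GL (Fin 2) F →* Matrix.ProjGenLinGroup (Fin 2) F × (powMonoidHom 2 : Fˣ →* Fˣ).range :=
    Matrix.ProjGenLinGroup.mk.prod ((powMonoidHom 2 : Fˣ →* Fˣ).rangeRestrict.comp Matrix.GeneralLinearGroup.det)
  have hs : Function.Surjective Φ := by
    rintro ⟨x, _, r, rfl⟩
    obtain ⟨g, rfl⟩ := Matrix.ProjGenLinGroup.mk_surjective x
    obtain ⟨s, hs⟩ : ∃ s : F, (s * s) ^ 2 = (r / g.det : Fˣ) ^ 2 := by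
      by_cases h : IsSquare ((r / g.det : Fˣ) : F)
      · exact h.imp fun s e => by rw [e]
      · exact (Cls.isSquare_mul_of_not_isSquare hn h).imp fun s e => by rw [← e]; ring
    have h0 : s ≠ 0 := fun e => pow_ne_zero 2 (Units.ne_zero _) (hs.symm.trans (by simp [e]))
    refine ⟨g * .scalar _ (.mk0 s h0), Prod.ext (by simp [Φ]) (Subtype.ext (Units.ext ?_))⟩
    simp [Φ, mul_pow, ← sq] at hs ⊢
    have := g.det_ne_zero
    rw [hs]; field_simp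
  have hk : (R : GL (Fin 2) F →* E F).ker = Φ.ker := by
    ext g
    simp only [MonoidHom.mem_ker, Φ, MonoidHom.prod_apply, Prod.mk_eq_one, Matrix.ProjGenLinGroup.mk_eq_one,
      Matrix.GeneralLinearGroup.center_eq_range_scalar]
    constructor
    · intro h
      have h1 := R_apply g 1 0 0
      have h3 := R_apply g 0 0 1
      have h4 := R_apply g 0 1 0
      simp [h] at h1 h3 h4
      have h5 : g 0 0 ≠ 0 := fun e => by simp [e] at h1
      have h6 : g 1 0 = 0 := by simpa using h1.2.2.symm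
      have h7 : g 0 1 = 0 := by simpa using h3.1.symm
      have h8 : g 1 1 = g 0 0 := by grind
      refine ⟨⟨.mk0 _ h5, Units.ext (Matrix.ext fun i j => ?_)⟩, Subtype.ext (Units.ext ?_)⟩
      · fin_cases i <;> fin_cases j <;> simp [h6, h7, h8]
      · simp [Matrix.det_fin_two, h6, h7, h8, ← sq, ← h1.1]
    · rintro ⟨⟨c, rfl⟩, h⟩
      have h : ((c : F) ^ 2) ^ 2 = 1 := by simpa using congrArg (fun x => ((x.1 : Fˣ) : F)) h
      have : (c : F) ^ 2 = 1 := (mul_self_eq_one_iff.1 (by linear_combination h)).resolve_right fun e =>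
        hn ⟨c, by linear_combination -e⟩
      exact E.ext fun a b d => by simp [R_apply, this, ← sq]
  have hc : Nat.card (powMonoidHom 2 : Fˣ →* Fˣ).range = (Nat.card F - 1) / 2 := by
    have := Fintype.ofFinite F
    rw [IsCyclic.card_powMonoidHom_range, Nat.card_units, Nat.gcd_eq_right]
    have := FiniteField.odd_card_of_char_ne_two (F := F) fun e => h2 (by
      have := ringChar.Nat.cast_ringChar (R := F); rwa [e] at this)
    rw [Nat.card_eq_fintype_card]; omega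
  exact ⟨(QuotientGroup.quotientKerEquivRange _).symm.trans ((QuotientGroup.quotientMulEquivOfEq hk).trans
    ((QuotientGroup.quotientKerEquivOfSurjective Φ hs).trans
      ((MulEquiv.refl _).prodCongr (hc ▸ (zmodCyclicMulEquiv inferInstance).symm))))⟩

/-- coordinates -/
structure Mod (F G : Type*) [Field F] [Group G] where
  m : Multiplicative (F × F × F) →* G
  u : Multiplicative F →* G
  τ : F → G
  C : Subgroup G
  inj : Function.Injective m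
  hu : ∀ l a b c, u (ofAdd l) * m (ofAdd (a, b, c)) * (u (ofAdd l))⁻¹ =
    m (ofAdd (a + 2 * l * b + l ^ 2 * c, b + l * c, c))
  hτ : ∀ k ≠ 0, ∀ a b c, τ k * m (ofAdd (a, b, c)) * (τ k)⁻¹ = m (ofAdd (a, k * b, k ^ 2 * c))
  τ1 : τ 1 = 1
  τC : ∀ k, τ k ∈ C
  cent : ∀ a ≠ 0, ∀ g, g * m (ofAdd (a, 0, 0)) = m (ofAdd (a, 0, 0)) * g ↔ g ∈ C
  norm : ∀ g ∈ C, g ∈ 𝒩(m.range) → ∃ x l k, k ≠ 0 ∧ g = m x * u (ofAdd l) * τ k

namespace Mod

variable (h : Mod F G)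

theorem mC (x) : h.m x ∈ h.C := (h.cent 1 one_ne_zero _).1 (by rw [← map_mul, mul_comm, map_mul])

theorem uC (l) : h.u l ∈ h.C := (h.cent 1 one_ne_zero _).1 (by
  simpa [mul_inv_eq_iff_eq_mul] using h.hu l.toAdd 1 0 0)

/-- transport -/
def map (ι : h.C →* G') (hι : Function.Injective ι) (hc : ∀ a ≠ 0, ∀ g,
    g * ι ⟨_, h.mC (ofAdd (a, 0, 0))⟩ = ι ⟨_, h.mC (ofAdd (a, 0, 0))⟩ * g → g ∈ ι.range) : Mod F G' where
  m := ι.comp (h.m.codRestrict _ h.mC)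
  u := ι.comp (h.u.codRestrict _ h.uC)
  τ k := ι ⟨_, h.τC k⟩
  C := ι.range
  inj := hι.comp fun _ _ e => h.inj (congrArg Subtype.val e)
  hu l a b c := by
    simp only [MonoidHom.comp_apply, ← map_inv ι, ← map_mul ι]
    exact congrArg ι (Subtype.ext (h.hu l a b c))
  hτ k hk a b c := by
    simp only [MonoidHom.comp_apply, ← map_inv ι, ← map_mul ι]
    exact congrArg ι (Subtype.ext (h.hτ k hk a b c))
  τ1 := (congrArg ι (Subtype.ext h.τ1)).trans (map_one ι)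
  τC _ := ⟨_, rfl⟩
  cent a ha g := ⟨hc a ha g, by
    rintro ⟨g, rfl⟩
    simp only [MonoidHom.comp_apply, ← map_mul ι]
    exact congrArg ι (Subtype.ext ((h.cent a ha g).2 g.2))⟩
  norm := by
    rintro _ ⟨g, rfl⟩ hg
    have e : ∀ {y : h.C}, ι y ∈ (ι.comp (h.m.codRestrict _ h.mC)).range ↔ y.1 ∈ h.m.range :=
      ⟨fun ⟨x, e⟩ => ⟨x, congrArg Subtype.val (hι e)⟩, fun ⟨x, e⟩ => ⟨x, congrArg ι (Subtype.ext e)⟩⟩
    obtain ⟨x, l, k, hk, e⟩ := h.norm g g.2 (mem_normalizer_iff.2 fun y => ⟨fun ⟨x, hx⟩ => by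
      have := conj_mem hg ((e (y := ⟨_, h.mC x⟩)).2 ⟨x, rfl⟩)
      rw [← map_inv, ← map_mul, ← map_mul, e] at this
      exact hx ▸ this, fun ⟨x, hx⟩ => by
      have := conj_mem' hg ((e (y := ⟨_, h.mC x⟩)).2 ⟨x, rfl⟩)
      rw [← map_inv, ← map_mul, ← map_mul, e] at this
      simpa [hx, mul_assoc] using this⟩)
    exact ⟨x, l, k, hk, by simp only [MonoidHom.comp_apply, ← map_mul ι]; exact congrArg ι (Subtype.ext e)⟩

/-- the Sylow subgroup -/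
def P : Subgroup G := h.m.range ⊔ h.u.range

/-- conjugation -/
def conj (y : G) : Mod F G := h.map ((MulAut.conj y).toMonoidHom.comp h.C.subtype)
  ((MulAut.conj y).injective.comp h.C.subtype_injective) fun a ha g e =>
    ⟨⟨y⁻¹ * g * y, (h.cent a ha _).1 (by
      have := congrArg (y⁻¹ * · * y) e
      simpa [mul_assoc] using this)⟩, by simp [mul_assoc]⟩

theorem conj_P (y : G) : (h.conj y).P = cj y h.P := by
  rw [P, P, cj_sup]
  congr 1 <;> exact MonoidHom.range_comp (MulAut.conj y).toMonoidHom _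

theorem conj_C (y : G) : (h.conj y).C = cj y h.C :=
  (MonoidHom.range_comp _ _).trans (by rw [range_subtype])

theorem u_norm : h.u.range ≤ 𝒩(h.m.range) := le_normalizer_iff.2 (by
  rintro _ ⟨l, rfl⟩ _ ⟨x, rfl⟩
  exact ⟨_, (h.hu l.toAdd x.toAdd.1 x.toAdd.2.1 x.toAdd.2.2).symm⟩)

theorem τ_norm [Finite G] {k : F} (hk : k ≠ 0) : h.τ k ∈ 𝒩(h.m.range) := mem_norm_of_cj_le (by
  rintro _ ⟨_, ⟨x, rfl⟩, rfl⟩
  exact ⟨_, (h.hτ k hk x.toAdd.1 x.toAdd.2.1 x.toAdd.2.2).symm⟩)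

theorem P_norm : h.P ≤ 𝒩(h.m.range) := sup_le le_normalizer h.u_norm

theorem mem_P {g : G} : g ∈ h.P ↔ ∃ x l, g = h.m x * h.u (ofAdd l) := by
  rw [P, mem_sup_nl h.u_norm]
  exact ⟨fun ⟨_, ⟨x, e⟩, _, ⟨l, e'⟩, e1⟩ => ⟨x, l.toAdd, by rw [← e1, ← e, ← e']; rfl⟩,
    fun ⟨x, l, e⟩ => ⟨_, ⟨x, rfl⟩, _, ⟨_, rfl⟩, e.symm⟩⟩

theorem act (x l) {k : F} (hk : k ≠ 0) (a b c : F) : h.m x * h.u (ofAdd l) * h.τ k * h.m (ofAdd (a, b, c)) *
    (h.m x * h.u (ofAdd l) * h.τ k)⁻¹ =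
    h.m (ofAdd (a + 2 * l * (k * b) + l ^ 2 * (k ^ 2 * c), k * b + l * (k ^ 2 * c), k ^ 2 * c)) := by
  rw [← mul_inv_cancel_right (h.m (ofAdd (_, _, _ * c))) (h.m x), ← map_mul h.m _ x, mul_comm _ x, map_mul, ← h.hu,
    ← h.hτ k hk]
  group

theorem mem_M (h2 : (2 : F) ≠ 0) {g : G} (hg : ∀ x, g * h.m x = h.m x * g) : g ∈ h.m.range := by
  obtain ⟨x, l, k, hk, rfl⟩ := h.norm g ((h.cent 1 one_ne_zero g).1 (hg _))
    (cent_le_norm _ (mem_centralizer_iff.2 (by rintro _ ⟨x, rfl⟩; exact (hg x).symm)))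
  have := h.act x l hk 0 1 0
  rw [hg, mul_inv_cancel_right] at this
  obtain ⟨rfl, rfl⟩ : l = 0 ∧ k = 1 := by simpa [h2, hk, eq_comm] using h.inj this
  exact ⟨x, by simp [h.τ1]⟩

theorem fix (h2 : (2 : F) ≠ 0) {l : F} (hl : l ≠ 0) {x} (e : h.u (ofAdd l) * h.m x = h.m x * h.u (ofAdd l)) :
    ∃ a, x = ofAdd (a, 0, 0) := by
  have := h.hu l x.toAdd.1 x.toAdd.2.1 x.toAdd.2.2
  rw [show ofAdd (x.toAdd.1, x.toAdd.2.1, x.toAdd.2.2) = x from rfl, e, mul_inv_cancel_right] at this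
  have := congrArg toAdd (h.inj this)
  simp only [toAdd_ofAdd, Prod.ext_iff] at this
  have h3 : x.toAdd.2.2 = 0 := by simpa [hl] using this.2.1
  have h4 : x.toAdd.2.1 = 0 := by simpa [hl, h2, h3] using this.1
  exact ⟨x.toAdd.1, toAdd.injective (Prod.ext rfl (Prod.ext h4 h3))⟩

theorem mem_Z (h2 : (2 : F) ≠ 0) {g : G} (hg : g ∈ 𝒞(h.P)) : ∃ a, g = h.m (ofAdd (a, 0, 0)) := by
  obtain ⟨x, rfl⟩ := h.mem_M h2 fun x => (comm_of_mem hg (mem_sup_left ⟨x, rfl⟩)).symm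
  obtain ⟨a, rfl⟩ := h.fix h2 one_ne_zero (comm_of_mem hg (mem_sup_right ⟨_, rfl⟩))
  exact ⟨a, rfl⟩

theorem ne_zero {g x : G} {a : F} (hx : x ≠ 1) (e : g * x * g⁻¹ = h.m (ofAdd (a, 0, 0))) : a ≠ 0 := fun ha =>
  hx (conj_eq_one_iff.1 (e.trans (by subst ha; exact map_one h.m)))

theorem card_M : Nat.card h.m.range = Nat.card F ^ 3 := by
  rw [← Nat.card_congr (MonoidHom.ofInjective h.inj).toEquiv, Nat.card_congr toAdd, Nat.card_prod, Nat.card_prod]; ring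

theorem eq_M [Finite F] (h2 : (2 : F) ≠ 0) {A : Subgroup G} (hA : A ≤ h.P) (hc : A ≤ 𝒞(A))
    (hn : Nat.card A = Nat.card F ^ 3) : A = h.m.range := by
  have hM := h.card_M
  have : Finite h.m.range := Nat.finite_of_card_ne_zero (hM ▸ pow_ne_zero 3 Nat.card_pos.ne')
  refine eq_of_le_of_card_ge (fun y hy => by_contra fun hy' => ?_) (hM.trans hn.symm).le
  obtain ⟨x₀, l₀, rfl⟩ := h.mem_P.1 (hA hy)
  have hl : l₀ ≠ 0 := fun e => hy' ⟨x₀, by simp [e]⟩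
  choose x l e using fun a : A => h.mem_P.1 (hA a.2)
  have := Nat.card_le_card_of_injective (fun a : A => (l a, (x a).toAdd.1)) fun a b e' => by
    obtain ⟨e1, e2⟩ := Prod.mk.inj e'
    have e3 : (a : G) * (b : G)⁻¹ = h.m (x a * (x b)⁻¹) := by rw [e a, e b, e1]; simp [mul_assoc]
    have e4 := comm_of_mem (hc (mul_mem a.2 (inv_mem b.2))) hy
    rw [e3, mul_assoc, ← mul_assoc _ (h.m x₀), ← map_mul h.m _ x₀, mul_comm _ x₀, map_mul h.m x₀, mul_assoc,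
      mul_right_inj] at e4
    obtain ⟨c, e5⟩ := h.fix h2 hl e4
    have e6 : c = 0 := by simpa [e2] using congrArg (·.toAdd.1) e5.symm
    exact Subtype.ext (mul_inv_eq_one.1 (by rw [e3, e5, e6]; exact map_one _))
  rw [hn, Nat.card_prod, ← sq, Nat.pow_le_pow_iff_right Finite.one_lt_card] at this
  omega

variable {p : ℕ} [Fact p.Prime] [CharP F p]

theorem mem_P_of_pow {g : G} (hg : g ∈ h.C) (hg' : g ∈ 𝒩(h.m.range)) {j : ℕ} (e : g ^ p ^ j = 1) : g ∈ h.P := by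
  obtain ⟨x, l, k, hk, e1⟩ := h.norm g hg hg'
  have key : ∀ i : ℕ, ∃ a, g ^ i * h.m (ofAdd (0, 1, 0)) * (g ^ i)⁻¹ = h.m (ofAdd (a, k ^ i, 0)) := fun i => by
    induction i with
    | zero => exact ⟨0, by simp⟩
    | succ i ih =>
      obtain ⟨a, ih⟩ := ih
      have := h.act x l hk a (k ^ i) 0
      rw [← e1, ← ih] at this
      exact ⟨_, by rw [pow_succ', pow_succ']; simpa [mul_assoc] using this⟩
  obtain ⟨a, e2⟩ := key (p ^ j)
  rw [e, one_mul, inv_one, mul_one] at e2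
  have e3 : (k - 1) ^ p ^ j = 0 := by
    rw [sub_pow_char_pow, ← show 1 = k ^ p ^ j from congrArg (·.toAdd.2.1) (h.inj e2), one_pow, sub_self]
  exact h.mem_P.2 ⟨x, l, by rw [e1, sub_eq_zero.1 (pow_eq_zero_iff (NeZero.ne _) |>.1 e3), h.τ1, mul_one]⟩

theorem isP : IsPGroup p h.P := by
  refine isPGroup_sup' (isPGroup_iff_forall.2 ?_) (isPGroup_iff_forall.2 ?_) h.u_norm <;> rintro _ ⟨x, rfl⟩ <;>
    exact ⟨1, by rw [← map_pow, show x ^ p ^ 1 = 1 from toAdd.injective (by simp [Prod.ext_iff]), map_one]⟩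

variable [Finite F] [Finite G] (h2 : (2 : F) ≠ 0)
include h2

theorem syl : IsSylowIn p h.P ⊤ := isSylowIn_of_maximal le_top h.isP fun S hS hP _ => by
  by_contra hne
  obtain ⟨⟨c, hc⟩, hc1⟩ := ne_bot_iff_exists_ne_one.1 (inf_cent_ne_bot hS hS le_normalizer fun e =>
    hne (le_antisymm (e.le.trans bot_le) hP))
  obtain ⟨a, rfl⟩ := h.mem_Z h2 (cent_mono hP hc.2)
  obtain ⟨g, hg, hg'⟩ := SetLike.exists_of_lt (lt_inf_normalizer_of_isPGroup hS (lt_of_le_of_ne hP (Ne.symm hne)))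
  obtain ⟨j, e⟩ := isPGroup_iff_forall.1 hS g hg.1
  have hM : h.m.range ≤ 𝒞(h.m.range) := by
    rintro _ ⟨x, rfl⟩
    exact mem_centralizer_iff.2 (by rintro _ ⟨y, rfl⟩; rw [← map_mul, mul_comm, map_mul])
  refine hg' (h.mem_P_of_pow ((h.cent a (fun e => hc1 (Subtype.ext (by subst e; exact map_one h.m))) g).1 (comm_of_mem hc.2 hg.1))
    (cj_eq_iff_mem.1 (h.eq_M h2 ((cj_mono g le_sup_left).trans (cj_eq hg.2).le) (cj_cent g _ ▸ cj_mono g hM) ?_)) e)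
  rw [card_cj, h.card_M]

theorem exists_conj_Z (S : Sylow p G) {x : G} (hx : ∀ y ∈ (S : Subgroup G), y * x = x * y) :
    ∃ g a, g * x * g⁻¹ = h.m (ofAdd (a, 0, 0)) := by
  obtain ⟨g, -, e⟩ := (isSylowIn_top_iff.2 ⟨S, rfl⟩).exists_conj_eq (h.syl h2)
  exact ⟨g, h.mem_Z h2 (e ▸ (cj_cent g (S : Subgroup G)).le (conj_mem_cj g (mem_centralizer_iff.2 hx)))⟩

theorem main (hn : ¬ IsSquare (-1 : F)) (hc : ¬ ∀ a ≠ 0, ∀ a' ≠ 0, ∃ g : G,
      g * h.m (ofAdd (a, 0, 0)) * g⁻¹ = h.m (ofAdd (a', 0, 0))) (hnc : ∃ Q R : Sylow p 𝒩(h.m.range), Q ≠ R) :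
    ∃ J : Subgroup G, J ≤ 𝒩(h.m.range) ∧ h.m.range ⊔ J = 𝒩(h.m.range) ∧ h.m.range ⊓ J = ⊥ ∧
      Nonempty (J ≃* Matrix.ProjGenLinGroup (Fin 2) F × Multiplicative (ZMod ((Nat.card F - 1) / 2))) := by
  have hex : ∀ (g : 𝒩(h.m.range)) (x : F × F × F), ∃ y, h.m (ofAdd y) = g * h.m (ofAdd x) * (g : G)⁻¹ := fun g x =>
    let ⟨y, e⟩ := conj_mem g.2 ⟨ofAdd x, rfl⟩; ⟨y.toAdd, e⟩
  choose f hf using hex
  have hi : ∀ {x y}, h.m (ofAdd x) = h.m (ofAdd y) → x = y := fun e => ofAdd.injective (h.inj e)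
  let ρ₀ : 𝒩(h.m.range) →* Module.End ℤ (F × F × F) :=
    ⟨⟨fun g => (AddMonoidHom.mk' (f g) fun x y => hi (by simp only [ofAdd_add, map_mul, hf]; group)).toIntLinearMap,
      LinearMap.ext fun x => hi ((hf 1 x).trans (by simp))⟩,
      fun a b => LinearMap.ext fun x => hi ((hf _ x).trans (.symm ((hf a (f b x)).trans (by rw [hf, coe_mul]; group))))⟩
  let ρ : 𝒩(h.m.range) →* E F := (LinearMap.GeneralLinearGroup.generalLinearEquiv ℤ _).toMonoidHom.comp ρ₀.toHomUnits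
  have hρ : ∀ g x y, ρ g x = y ↔ g * h.m (ofAdd x) * (g : G)⁻¹ = h.m (ofAdd y) := fun g x y =>
    ⟨fun e => e ▸ (hf g x).symm, fun e => hi ((hf g x).trans e)⟩
  have hC : ∀ g, ∀ a ≠ 0, ρ g (a, 0, 0) = (a, 0, 0) → g.1 ∈ h.C := fun g a ha e =>
    (h.cent a ha g).1 (mul_inv_eq_iff_eq_mul.1 ((hρ _ _ _).1 e))
  have L : LA ρ.range := by
    refine ⟨h2, hn, fun l => ⟨_, ⟨⟨_, h.u_norm ⟨ofAdd l, rfl⟩⟩, rfl⟩, fun a b c => (hρ _ _ _).2 (h.hu l a b c)⟩,
      fun k hk => ⟨_, ⟨⟨_, h.τ_norm hk⟩, rfl⟩, fun a b c => (hρ _ _ _).2 (h.hτ k hk a b c)⟩, ?_,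
      fun H => hc fun a ha b hb => ?_⟩
    · rintro _ ⟨g, rfl⟩ a ha e
      obtain ⟨x, l, k, hk, e⟩ := h.norm g (hC g a ha e) g.2
      exact ⟨l, k, fun a b c => (hρ _ _ _).2 (e ▸ h.act x l hk a b c)⟩
    · obtain ⟨_, ⟨g, rfl⟩, e⟩ := H a ha b hb
      exact ⟨g, (hρ _ _ _).1 e⟩
  obtain ⟨S, hS⟩ := isSylowIn_top_iff.1 (h.syl (p := p) h2)
  have hSN : (S : Subgroup G) ≤ 𝒩(h.m.range) := hS ▸ h.P_norm
  obtain ⟨g, hg⟩ : ∃ g, ¬ ∀ a, ∃ a', ρ g (a, 0, 0) = (a', 0, 0) := by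
    by_contra! H
    obtain ⟨Q, R, hQR⟩ := hnc
    have : (S.subtype hSN).Normal := ⟨fun y hy g => by
      change (y : G) ∈ (S : Subgroup G) at hy
      change ((g * y * g⁻¹ : 𝒩(h.m.range)) : G) ∈ (S : Subgroup G)
      obtain ⟨j, e⟩ := isPGroup_iff_forall.1 S.2 _ hy
      obtain ⟨a, e1⟩ := H g⁻¹ 1
      obtain ⟨x, l, e2⟩ := h.mem_P.1 (hS ▸ hy)
      have e3 : ρ y (a, 0, 0) = (a, 0, 0) := (hρ _ _ _).2 (by simpa [h.τ1, ← e2] using h.act x l one_ne_zero a 0 0)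
      refine hS ▸ h.mem_P_of_pow (hC (g * y * g⁻¹) 1 one_ne_zero ?_) (g * y * g⁻¹).2 (j := j)
        (by rw [coe_mul, coe_mul, coe_inv, conj_pow, e, mul_one, mul_inv_cancel])
      rw [map_mul, map_mul, LinearEquiv.mul_apply, LinearEquiv.mul_apply, e1, e3, ← e1, ← LinearEquiv.mul_apply,
        ← map_mul, mul_inv_cancel, map_one, LinearEquiv.coe_one, id]⟩
    have := Sylow.unique_of_normal _ this
    exact hQR (Subsingleton.elim _ _)
  obtain ⟨e1⟩ := L.nonempty_equiv ⟨g, rfl⟩ hg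
  obtain ⟨e2⟩ := nonempty_range_R hn h2
  have hk : ρ.ker = h.m.range.subgroupOf _ := by
    ext g
    rw [MonoidHom.mem_ker, mem_subgroupOf]
    refine ⟨fun e => h.mem_M h2 fun x => mul_inv_eq_iff_eq_mul.1 ((hρ g x.toAdd x.toAdd).1 (by rw [e]; rfl)), ?_⟩
    rintro ⟨x, e⟩
    exact LinearEquiv.ext fun y => (hρ _ _ _).2 (by rw [← e, ← map_mul, mul_comm x, map_mul]; simp)
  have hMS : h.m.range ≤ S := hS ▸ le_sup_left
  have : IsMulCommutative ρ.ker := ⟨⟨fun a b => by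
    obtain ⟨x, e⟩ := hk.le a.2
    obtain ⟨y, e'⟩ := hk.le b.2
    exact Subtype.ext (Subtype.ext (by
      change (a.1.1 : G) * b.1.1 = b.1.1 * a.1.1
      rw [← show h.m x = a.1.1 from e, ← show h.m y = b.1.1 from e', ← map_mul, mul_comm, map_mul]))⟩⟩
  have hKS : ρ.ker ≤ S.subtype hSN := hk.le.trans (comap_mono hMS)
  obtain ⟨H, hH⟩ := Cfsg.Agent.S0051.result ρ.ker (S.subtype hSN) hKS
    ((S.subtype hSN).card_coprime_index.coprime_dvd_left (card_dvd_of_le hKS)) (h.u.range.subgroupOf _)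
    (comap_mono (hS ▸ le_sup_right)) (eq_bot_iff.2 fun y hy => by
      obtain ⟨l, e⟩ := hy.1
      have e : h.u (ofAdd l.toAdd) = y := e
      have := (hρ y (0, 1, 0) _).2 (e ▸ h.hu l.toAdd 0 1 0)
      rw [show ρ y = 1 from hy.2] at this
      have : l.toAdd = 0 := by simpa [h2] using congrArg (·.1) this.symm
      exact Subtype.ext (by rw [← e, this]; exact map_one h.u)) (by rw [hk, ← subgroupOf_sup le_normalizer h.u_norm]; exact congrArg (·.subgroupOf _) hS.symm)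
  have e : ρ.ker.map (Subgroup.subtype _) = h.m.range := by rw [hk, map_subgroupOf_eq_of_le le_normalizer]
  refine ⟨H.map (Subgroup.subtype _), map_subtype_le _, ?_, ?_, ⟨(H.equivMapOfInjective _ (subtype_injective _)).symm.trans
    (hH.symm.QuotientMulEquiv.symm.trans ((QuotientGroup.quotientKerEquivRange ρ).trans (e1.trans e2)))⟩⟩
  · exact (congrArg (· ⊔ _) e.symm).trans
      (by rw [← Subgroup.map_sup, hH.sup_eq_top, ← MonoidHom.range_eq_map, range_subtype])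
  · exact (congrArg (· ⊓ _) e.symm).trans
      (by rw [← map_inf _ _ _ (subtype_injective _), hH.disjoint.eq_bot, Subgroup.map_bot])

end Mod

end CL.Hay
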