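/-
The Siegel parabolic subgroup of `PSp₄(F)` and the centraliser of a transvection, in coordinates.
-/
import Cfsg.Agent.Hay.Grp
import Cfsg.Agent.Cls.SpSimple

set_option autoImplicit false

open Cfsg Subgroup Multiplicative Matrix

namespace CL.Hay

open CL.Even CL.Grp

variable {F : Type*} [Field F]

/-- unipotent elements -/
def sU₀ (a b c : F) : symplecticGroup (Fin 2) F := ⟨fromBlocks 1 !![a, b; b, c] 0 1,
  SymplecticGroup.fromBlocks_mem_iff.2 ⟨by simp, by ext i j; fin_cases i <;> fin_cases j <;> simp, by simp⟩⟩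

/-- unipotent elements -/
def sU : Multiplicative (F × F × F) →* symplecticGroup (Fin 2) F :=
  MonoidHom.mk' (fun x => sU₀ x.toAdd.1 x.toAdd.2.1 x.toAdd.2.2) fun x y =>
    Subtype.ext (by simp [sU₀, fromBlocks_multiply, add_comm])

theorem sU_val (a b c : F) : (sU (ofAdd (a, b, c))).1 = fromBlocks 1 !![a, b; b, c] 0 1 := rfl

/-- Levi elements -/
def sL (l k : F) (hk : k ≠ 0) : symplecticGroup (Fin 2) F :=
  ⟨fromBlocks !![1, l * k; 0, k] 0 0 !![1, 0; -l, k⁻¹], SymplecticGroup.fromBlocks_mem_iff.2 ⟨by simp, by simp, by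
    ext i j; fin_cases i <;> fin_cases j <;> simp [Matrix.mul_apply, hk, mul_comm]⟩⟩

theorem sL_mul (l l' k : F) (hk : k ≠ 0) : sL l 1 one_ne_zero * sL l' k hk = sL (l + l') k hk :=
  Subtype.ext (by simp [sL, fromBlocks_multiply, add_mul, add_comm])

theorem sL_one : sL (0 : F) 1 one_ne_zero = 1 := Subtype.ext (by simp [sL, ← one_fin_two])

theorem sL_sU (l k : F) (hk : k ≠ 0) (a b c : F) : sL l k hk * sU (ofAdd (a, b, c)) =
    sU (ofAdd (a + 2 * l * (k * b) + l ^ 2 * (k ^ 2 * c), k * b + l * (k ^ 2 * c), k ^ 2 * c)) * sL l k hk :=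
  Subtype.ext (by
    simp [sL, sU_val, fromBlocks_multiply]
    refine ⟨⟨?_, ?_⟩, ?_, ?_⟩ <;> field_simp <;> ring)

/-- the projection -/
abbrev π : symplecticGroup (Fin 2) F →* PSp 2 F := QuotientGroup.mk' _

theorem π_eq {g g' : symplecticGroup (Fin 2) F} : π g = π g' ↔ g.1 = g'.1 ∨ g.1 = -g'.1 := by
  rw [← mul_inv_eq_one, ← map_inv, ← map_mul, ← MonoidHom.mem_ker, QuotientGroup.ker_mk',
    Sp.mem_center_symplecticGroup_iff]
  have e : (g * g'⁻¹).1 * g'.1 = g.1 := by rw [← Submonoid.coe_mul, inv_mul_cancel_right]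
  have e' : g'.1 * g'⁻¹.1 = 1 := by rw [← Submonoid.coe_mul, mul_inv_cancel, Submonoid.coe_one]
  exact or_congr ⟨fun h => by rw [← e, h, one_mul], fun h => by rw [Submonoid.coe_mul, h, e']⟩
    ⟨fun h => by rw [← e, h, neg_one_mul], fun h => by rw [Submonoid.coe_mul, h, neg_mul, e']⟩

theorem π_mul (h2 : (2 : F) ≠ 0) {g : symplecticGroup (Fin 2) F} {x y} :
    π g * π (sU x) = π (sU y) * π g ↔ g.1 * (sU x).1 = (sU y).1 * g.1 := by
  rw [← map_mul, ← map_mul, π_eq]
  refine or_iff_left fun e => pow_ne_zero 3 h2 ?_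
  have e1 : ∀ z : Multiplicative (F × F × F), trace (sU z).1 = 4 := fun z => by simp [sU, sU₀, trace]; norm_num
  have e2 : g⁻¹.1 * (g * sU x).1 = (sU x).1 := by rw [← Submonoid.coe_mul, inv_mul_cancel_left]
  have e3 : (sU y * g).1 * g⁻¹.1 = (sU y).1 := by rw [← Submonoid.coe_mul, mul_inv_cancel_right]
  have := e1 x
  rw [← e2, e, mul_neg, trace_neg, trace_mul_comm, e3, e1] at this
  linear_combination -this

theorem mul_sU {A B C D : Matrix (Fin 2) (Fin 2) F} {a b c a' b' c' : F} : fromBlocks A B C D * (sU (ofAdd (a, b, c))).1 =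
    (sU (ofAdd (a', b', c'))).1 * fromBlocks A B C D ↔ !![a', b'; b', c'] * C = 0 ∧
      A * !![a, b; b, c] = !![a', b'; b', c'] * D ∧ C * !![a, b; b, c] = 0 := by
  simp [sU_val, fromBlocks_multiply, add_comm]

theorem π_cent (h2 : (2 : F) ≠ 0) {a : F} (ha : a ≠ 0) (g : PSp 2 F) :
    g * π (sU (ofAdd (a, 0, 0))) = π (sU (ofAdd (a, 0, 0))) * g ↔
      g * π (sU (ofAdd (1, 0, 0))) = π (sU (ofAdd (1, 0, 0))) * g := by
  obtain ⟨g, rfl⟩ := QuotientGroup.mk'_surjective _ g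
  have e : !![a, 0; 0, 0] = a • !![(1 : F), 0; 0, 0] := by simp
  rw [π_mul h2, π_mul h2, ← fromBlocks_toBlocks g.1, mul_sU, mul_sU, e]
  simp only [Matrix.smul_mul, Matrix.mul_smul, smul_eq_zero, ha, false_or, smul_right_inj ha]

/-- the model -/
noncomputable def model (h2 : (2 : F) ≠ 0) : Mod F (PSp 2 F) where
  m := π.comp sU
  u := MonoidHom.mk' (fun l => π (sL l.toAdd 1 one_ne_zero)) fun a b => by rw [← map_mul, sL_mul]; rfl
  τ k := open Classical in if hk : k = 0 then 1 else π (sL 0 k hk)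
  C := centralizer {π (sU (ofAdd (1, 0, 0)))}
  inj := (injective_iff_map_eq_one _).2 fun x e => by
    rcases π_eq.1 (e.trans (map_one π).symm) with e | e
    · have h := fun i j => congrFun (congrFun e (.inl i)) (.inr j)
      exact toAdd.injective (Prod.ext (by simpa [sU, sU₀] using h 0 0)
        (Prod.ext (by simpa [sU, sU₀] using h 0 1) (by simpa [sU, sU₀] using h 1 1)))
    · have : (1 : F) = -1 := by simpa [sU, sU₀] using congrFun (congrFun e (.inl 0)) (.inl 0)
      exact absurd (by linear_combination this) h2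
  hu l a b c := mul_inv_eq_iff_eq_mul.2 (by simpa using congrArg π (sL_sU l 1 one_ne_zero a b c))
  hτ k hk a b c := mul_inv_eq_iff_eq_mul.2 (by simpa [hk] using congrArg π (sL_sU 0 k hk a b c))
  τ1 := by rw [dif_neg one_ne_zero, sL_one, map_one]
  τC k := by
    split_ifs with hk
    exacts [one_mem _, mem_centralizer_singleton_iff.2 (by simpa using congrArg π (sL_sU 0 k hk 1 0 0))]
  cent a ha g := (π_cent h2 ha g).trans mem_centralizer_singleton_iff.symm
  norm g hg hn := by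
    obtain ⟨⟨g, hs⟩, rfl⟩ := QuotientGroup.mk'_surjective _ g
    obtain ⟨A, B, C, D, rfl⟩ : ∃ A B C D, g = fromBlocks A B C D := ⟨_, _, _, _, (fromBlocks_toBlocks g).symm⟩
    obtain ⟨y, e⟩ := conj_mem hn ⟨ofAdd (1, 0, 1), rfl⟩
    obtain rfl : C = 0 := by
      simpa [← one_fin_two] using (mul_sU.1 ((π_mul h2 (y := ofAdd (y.toAdd.1, y.toAdd.2.1, y.toAdd.2.2))).1
        (mul_inv_eq_iff_eq_mul.1 e.symm))).2.2
    have e1 := (mul_sU.1 ((π_mul h2).1 (mem_centralizer_singleton_iff.1 hg))).2.1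
    obtain ⟨-, e2, e3⟩ := SymplecticGroup.fromBlocks_mem_iff.1 hs
    simp only [← Matrix.ext_iff, Fin.forall_fin_two] at e1 e2 e3
    simp [Matrix.mul_apply] at e1 e2 e3
    have hk : A 0 0 * A 1 1 ≠ 0 := by grind
    refine ⟨ofAdd (B 0 0 * A 0 0 + B 0 1 * A 0 1, B 0 1 * A 1 1, B 1 1 * A 1 1), A 0 1 / A 1 1, _, hk, ?_⟩
    rw [dif_neg hk]
    change π _ = π _ * π (sL _ 1 one_ne_zero) * π _
    rw [mul_assoc, ← map_mul, ← map_mul, sL_mul, π_eq]
    have h1 : A 1 1 ≠ 0 := right_ne_zero_of_mul hk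
    refine (mul_self_eq_one_iff.1 (show A 0 0 * A 0 0 = 1 by grind)).imp (fun h => ?_) fun h => ?_ <;>
      simp only [sL, sU_val, Submonoid.coe_mul, fromBlocks_multiply, fromBlocks_neg, fromBlocks_inj,
        ← Matrix.ext_iff, Fin.forall_fin_two] <;> simp [Matrix.mul_apply, h] <;> field_simp <;> grind

end CL.Hay
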