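/-
The full centraliser `Q ⋊ SL₂(q)` of a transvection of `PSp₄(q)` in coordinates, and the fusion in the elementary
abelian subgroup of order `q³`.
-/
import Cfsg.Agent.Hay.Sp4

set_option autoImplicit false

open Cfsg Subgroup Multiplicative Matrix
open scoped MatrixGroups

namespace CL.Hay

open CL.Even CL.Grp

variable {F : Type*} [Field F] {G G' : Type*} [Group G] [Group G']

theorem LA.eq_range_of [Finite F] {Γ : Subgroup (E F)} (h : LA Γ) {k : F} (hk : k ≠ 0) (hk1 : k ^ 2 ≠ 1) {g : E F}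
    (hg : g ∈ Γ) (hn : ¬ ∀ a, ∃ a', g (a, 0, 0) = (a', 0, 0)) : Γ = R.range := by
  have hn := (h.cases hg).resolve_left hn
  obtain ⟨l, w, hw, hc, e⟩ := h.std hg hn
  have hb := h.surj3 (g := w) fun a ha => by simpa [e] using hn a ha
  have e1 : ∀ a, w (a, 0, 0) = ((w (a, 0, 0)).1, 0, (w (a, 0, 0)).2.2) := fun a =>
    Prod.ext rfl (Prod.ext (LA.Com.out h hc _ 0) rfl)
  obtain ⟨t, ht, et⟩ := h.exT k hk
  refine h.eq_range hw hc fun a => ?_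
  obtain ⟨b, e2 : (w (b, 0, 0)).2.2 = _⟩ := hb.2 ((w (a, 0, 0)).2.2 / (k ^ 2 - 1))
  have e3 : (w (a + b, 0, 0)) = w (a, 0, 0) + w (b, 0, 0) := by simp [← map_add]
  rcases eq_or_ne b 0 with rfl | h0
  · rw [hb.1 (a₁ := a) (a₂ := 0) (by simpa [E.map0, sub_eq_zero, hk1] using e2.symm), E.map0]
  have h1 : (w (b, 0, 0)).2.2 ≠ 0 := fun e => h0 (hb.1 (e.trans (by simp [E.map0])))
  have := h.uniq hw hc (mul_mem ht hw) (fun a b c => by
    rw [LinearEquiv.mul_apply, LinearEquiv.mul_apply, hc, et, et, mul_neg]) (mul_ne_zero (pow_ne_zero 2 hk) h1)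
    (a := a + b) (a' := b) (x := (w (a, 0, 0)).1 + (w (b, 0, 0)).1) (x' := (w (b, 0, 0)).1) (by
      rw [e3, e1 a, e1 b, e2]; have := sub_ne_zero.2 hk1; simp; field_simp; ring)
    (by rw [LinearEquiv.mul_apply, e1, et, mul_zero])
  simpa using this

namespace Mod

variable (h : Mod F G)

/-- Heisenberg coordinates -/
def q (a : F) (v : Fin 2 → F) : G := h.m (ofAdd (a - v 0 * v 1, v 0, 0)) * h.u (ofAdd (-v 1))

theorem q_mul (a a' : F) (v v' : Fin 2 → F) :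
    h.q a v * h.q a' v' = h.q (a + a' + (v 0 * v' 1 - v 1 * v' 0)) (v + v') := by
  rw [q, q, q, mul_assoc, ← mul_assoc (h.u _), mul_inv_eq_iff_eq_mul.1 (h.hu _ _ _ _), mul_assoc, ← map_mul,
    ← mul_assoc, ← map_mul, ← ofAdd_add, ← ofAdd_add]
  congr 3
  · simp; ring
  · simp [add_comm]

theorem q_zero (a : F) : h.q a 0 = h.m (ofAdd (a, 0, 0)) := by simp [q]

theorem qC (a v) : h.q a v ∈ h.C := mul_mem (h.mC _) (h.uC _)

theorem exists_act (g : 𝒩(h.m.range)) (x : F × F × F) : ∃ y, h.m (ofAdd y) = g * h.m (ofAdd x) * (g : G)⁻¹ :=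
  let ⟨y, e⟩ := conj_mem g.2 ⟨ofAdd x, rfl⟩; ⟨y.toAdd, e⟩

theorem inj' {x y} (e : h.m (ofAdd x) = h.m (ofAdd y)) : x = y := ofAdd.injective (h.inj e)

/-- the action of `N(M)` on `M` -/
noncomputable def ρ₀ : 𝒩(h.m.range) →* Module.End ℤ (F × F × F) where
  toFun g := (AddMonoidHom.mk' (fun x => (h.exists_act g x).choose) fun x y =>
    h.inj' (by
      rw [(h.exists_act g _).choose_spec, ofAdd_add, ofAdd_add, map_mul, map_mul, (h.exists_act g _).choose_spec,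
        (h.exists_act g _).choose_spec]; group)).toIntLinearMap
  map_one' := LinearMap.ext fun x => h.inj' ((h.exists_act 1 x).choose_spec.trans (by simp))
  map_mul' a b := LinearMap.ext fun x => h.inj' ((h.exists_act _ x).choose_spec.trans (.symm
    ((h.exists_act a _).choose_spec.trans
      ((congrArg (_ * · * _) (h.exists_act b x).choose_spec).trans (by rw [coe_mul]; group)))))

/-- the action of `N(M)` on `M` -/
noncomputable def ρ : 𝒩(h.m.range) →* E F :=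
  (LinearMap.GeneralLinearGroup.generalLinearEquiv ℤ _).toMonoidHom.comp h.ρ₀.toHomUnits

theorem ρ_iff (g x y) : h.ρ g x = y ↔ g * h.m (ofAdd x) * (g : G)⁻¹ = h.m (ofAdd y) :=
  ⟨fun e => e ▸ (h.exists_act g x).choose_spec.symm, fun e => h.inj' ((h.exists_act g x).choose_spec.trans e)⟩

theorem mem_C_of_ρ (g) {a : F} (ha : a ≠ 0) (e : h.ρ g (a, 0, 0) = (a, 0, 0)) : g.1 ∈ h.C :=
  (h.cent a ha g).1 (mul_inv_eq_iff_eq_mul.1 ((h.ρ_iff _ _ _).1 e))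

variable [Finite G] (h2 : (2 : F) ≠ 0)
include h2

theorem la (hn : ¬ IsSquare (-1 : F)) (hc : ¬ ∀ a ≠ 0, ∀ a' ≠ 0, ∃ g : G,
    g * h.m (ofAdd (a, 0, 0)) * g⁻¹ = h.m (ofAdd (a', 0, 0))) : LA h.ρ.range := by
  refine ⟨h2, hn, fun l => ⟨_, ⟨⟨_, h.u_norm ⟨ofAdd l, rfl⟩⟩, rfl⟩, fun a b c => (h.ρ_iff _ _ _).2 (h.hu l a b c)⟩,
    fun k hk => ⟨_, ⟨⟨_, h.τ_norm hk⟩, rfl⟩, fun a b c => (h.ρ_iff _ _ _).2 (h.hτ k hk a b c)⟩, ?_,
    fun H => hc fun a ha b hb => ?_⟩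
  · rintro _ ⟨g, rfl⟩ a ha e
    obtain ⟨x, l, k, hk, e⟩ := h.norm g (h.mem_C_of_ρ g ha e) g.2
    exact ⟨l, k, fun a b c => (h.ρ_iff _ _ _).2 (e ▸ h.act x l hk a b c)⟩
  · obtain ⟨_, ⟨g, rfl⟩, e⟩ := H a ha b hb
    exact ⟨g, (h.ρ_iff _ _ _).1 e⟩

variable [Finite F] (p : ℕ) [Fact p.Prime] [CharP F p]
include p

theorem P_le_C : h.P ≤ h.C := sup_le (by rintro _ ⟨x, rfl⟩; exact h.mC x) (by rintro _ ⟨x, rfl⟩; exact h.uC x)

theorem M_cent : h.m.range ≤ 𝒞(h.m.range) := by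
  rintro _ ⟨x, rfl⟩
  exact mem_centralizer_iff.2 (by rintro _ ⟨y, rfl⟩; rw [← map_mul, mul_comm, map_mul])

/-- conjugates of `M` in `C` are conjugate in `C` -/
theorem exists_conj_M {g : G} (hg : cj g h.m.range ≤ h.C) : ∃ c ∈ h.C, c * g ∈ 𝒩(h.m.range) := by
  obtain ⟨c, hc, e⟩ := ((h.syl (p := p) h2).of_le (h.P_le_C h2 p) le_top).exists_conj_le
    (isPGroup_cj (h.isP.to_le le_sup_left) g) hg
  exact ⟨c, hc, cj_eq_iff_mem.1 (h.eq_M h2 (cj_mul c g _ ▸ e) (cj_cent (c * g) _ ▸ cj_mono _ (h.M_cent h2 p))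
    (by rw [card_cj, h.card_M]))⟩

/-- fusion of the elements of `Z` into `M` -/
theorem fusion {g : G} {a : F} (ha : a ≠ 0) (hg : g * h.m (ofAdd (a, 0, 0)) * g⁻¹ ∈ h.m.range) :
    ∃ n ∈ 𝒩(h.m.range), ∃ c ∈ h.C, g = n * c := by
  obtain ⟨c, hc, e⟩ := h.exists_conj_M h2 p (g := g⁻¹) fun y hy => (h.cent a ha y).1 (by
    have := congrArg (g⁻¹ * · * g) (comm_of_mem (h.M_cent h2 p hg) (mem_cj.1 hy))
    simpa [mul_assoc] using this)
  exact ⟨_, inv_mem e, c, hc, by group⟩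

/-- an element normalising `M` and `Z` normalises `P` -/
theorem norm_P (g : 𝒩(h.m.range)) (H : ∃ a, h.ρ g⁻¹ (1, 0, 0) = (a, 0, 0)) : g.1 ∈ 𝒩(h.P) :=
  mem_norm_of_cj_le (by
    rintro _ ⟨y, hy, rfl⟩
    change ((g * ⟨y, h.P_norm hy⟩ * g⁻¹ : 𝒩(h.m.range)) : G) ∈ h.P
    obtain ⟨j, e⟩ := isPGroup_iff_forall.1 (h.isP (p := p)) _ hy
    obtain ⟨a, e1⟩ := H
    obtain ⟨x, l, e2⟩ := h.mem_P.1 hy
    have e3 : h.ρ ⟨y, h.P_norm hy⟩ (a, 0, 0) = (a, 0, 0) :=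
      (h.ρ_iff _ _ _).2 (by simpa [h.τ1, ← e2] using h.act x l one_ne_zero a 0 0)
    refine h.mem_P_of_pow (h.mem_C_of_ρ (g * ⟨y, h.P_norm hy⟩ * g⁻¹) one_ne_zero ?_)
      (g * ⟨y, h.P_norm hy⟩ * g⁻¹).2 (j := j) (conj_pow.trans (by rw [e, mul_one, mul_inv_cancel]))
    rw [map_mul, map_mul, LinearEquiv.mul_apply, LinearEquiv.mul_apply, e1, e3, ← e1, ← LinearEquiv.mul_apply,
      ← map_mul, mul_inv_cancel, map_one, LinearEquiv.coe_one, id])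

variable (hn : ¬ IsSquare (-1 : F)) (hc : ¬ ∀ a ≠ 0, ∀ a' ≠ 0, ∃ g : G,
    g * h.m (ofAdd (a, 0, 0)) * g⁻¹ = h.m (ofAdd (a', 0, 0))) (hk : ∃ k : F, k ≠ 0 ∧ k ^ 2 ≠ 1)
    (hN : ¬ 𝒩(h.m.range) ≤ 𝒩(h.P))
include hn hc hk hN

theorem ρ_range : h.ρ.range = R.range := by
  obtain ⟨k, hk, hk1⟩ := hk
  obtain ⟨g, hg, hg'⟩ := SetLike.not_le_iff_exists.1 hN
  exact (h.la h2 hn hc).eq_range_of hk hk1 ⟨(⟨g, hg⟩ : 𝒩(h.m.range))⁻¹, rfl⟩ fun H => hg' (h.norm_P h2 p _ (H 1))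

theorem act_R (x : GL (Fin 2) F) : ∃ n ∈ 𝒩(h.m.range), ∀ y, n * h.m (ofAdd y) * n⁻¹ = h.m (ofAdd (R x y)) := by
  obtain ⟨n, e⟩ := (h.ρ_range h2 p hn hc hk hN).ge ⟨x, rfl⟩
  exact ⟨n, n.2, fun y => (h.ρ_iff _ _ _).1 (e ▸ rfl)⟩

theorem R_of_norm {n : G} (hn' : n ∈ 𝒩(h.m.range)) :
    ∃ x : GL (Fin 2) F, ∀ y, n * h.m (ofAdd y) * n⁻¹ = h.m (ofAdd (R x y)) := by
  obtain ⟨x, e⟩ := (h.ρ_range h2 p hn hc hk hN).le ⟨⟨n, hn'⟩, rfl⟩
  exact ⟨x, fun y => (h.ρ_iff ⟨n, hn'⟩ _ _).1 (e ▸ rfl)⟩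

/-- the swap -/
theorem exists_w : ∃ w ∈ 𝒩(h.m.range), ∀ a b c, w * h.m (ofAdd (a, b, c)) * w⁻¹ = h.m (ofAdd (c, b, a)) := by
  obtain ⟨x, e⟩ := exists_R (F := F) (p := 0) (q := 1) (r := 1) (s := 0) (by simp)
  obtain ⟨w, hw, e'⟩ := h.act_R h2 p hn hc hk hN x
  exact ⟨w, hw, fun a b c => by simp [e', e]⟩

/-- the conjugates in `M` of the elements of `Z` -/
theorem conj_Z {g : G} {a : F} (ha : a ≠ 0) {y} (hg : g * h.m (ofAdd (a, 0, 0)) * g⁻¹ = h.m (ofAdd y)) :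
    ∃ r s, y = (r ^ 2 * a, r * s * a, s ^ 2 * a) := by
  obtain ⟨n, hn', c, hc', rfl⟩ := h.fusion h2 p ha ⟨_, hg.symm⟩
  obtain ⟨x, e⟩ := h.R_of_norm h2 p hn hc hk hN hn'
  rw [_root_.mul_inv_rev, ← mul_assoc, mul_assoc n, (h.cent a ha c).2 hc', mul_assoc n, mul_inv_cancel_right, e] at hg
  exact ⟨x 0 0, x 1 0, by simpa [R_apply] using (h.inj' hg).symm⟩

/-- the normaliser of `Z` multiplies by the squares -/
theorem exists_sq {r : F} (hr : r ≠ 0) : ∃ n ∈ 𝒩(h.m.range), ∀ a b c,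
    n * h.m (ofAdd (a, b, c)) * n⁻¹ = h.m (ofAdd (r ^ 2 * a, r * b, c)) := by
  obtain ⟨x, e⟩ := exists_R (F := F) (p := r) (q := 0) (r := 0) (s := 1) (by simpa)
  obtain ⟨w, hw, e'⟩ := h.act_R h2 p hn hc hk hN x
  exact ⟨w, hw, fun a b c => by simp [e', e]⟩

theorem sq_of_conj {g : G} {a a' : F} (ha : a ≠ 0) (hg : g * h.m (ofAdd (a, 0, 0)) * g⁻¹ = h.m (ofAdd (a', 0, 0))) :
    ∃ r ≠ 0, ∀ b, g * h.m (ofAdd (b, 0, 0)) * g⁻¹ = h.m (ofAdd (r ^ 2 * b, 0, 0)) := by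
  obtain ⟨n, hn', c, hc', rfl⟩ := h.fusion h2 p ha ⟨_, hg.symm⟩
  obtain ⟨x, e⟩ := h.R_of_norm h2 p hn hc hk hN hn'
  have e1 : ∀ b, n * c * h.m (ofAdd (b, 0, 0)) * (n * c)⁻¹ =
      h.m (ofAdd (x 0 0 ^ 2 * b, x 0 0 * x 1 0 * b, x 1 0 ^ 2 * b)) := fun b => by
    have : c * h.m (ofAdd (b, 0, 0)) = h.m (ofAdd (b, 0, 0)) * c := by
      rcases eq_or_ne b 0 with rfl | hb
      exacts [by rw [show h.m (ofAdd (0, 0, 0)) = 1 from map_one h.m, mul_one, one_mul], (h.cent b hb c).2 hc']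
    rw [_root_.mul_inv_rev, ← mul_assoc, mul_assoc n, this, mul_assoc n, mul_inv_cancel_right, e]
    simp [R_apply]
  have e2 : x 1 0 = 0 := by simpa [ha] using congrArg (·.2.2) (h.inj' ((e1 a).symm.trans hg))
  exact ⟨x 0 0, fun e => x.det_ne_zero (by simp [det_fin_two, e, e2]), fun b => by rw [e1]; simp [e2]⟩

end Mod

/-- coordinates of the whole centraliser -/
structure Full (F G : Type*) [Field F] [Group G] extends Mod F G where
  s : SL(2, F) →* G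
  sC : ∀ x, s x ∈ C
  s_q : ∀ x a v, s x * toMod.q a v * (s x)⁻¹ = toMod.q a (x.1 *ᵥ v)
  m_s : ∀ c (x : SL(2, F)), x.1 = !![1, c; 0, 1] → m (ofAdd (0, 0, c)) = s x
  τ_s : ∀ k ≠ 0, ∀ x : SL(2, F), x.1 = !![k, 0; 0, k⁻¹] → τ k = s x
  ex : ∀ g ∈ C, ∃ a v x, g = toMod.q a v * s x
  uniq : ∀ a v x, toMod.q a v = s x → a = 0 ∧ v = 0 ∧ x = 1

namespace Full

variable (h : Full F G)

theorem map_q (ι : h.C →* G') (hι hc a v) : (h.toMod.map ι hι hc).q a v = ι ⟨_, h.qC a v⟩ :=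
  (map_mul ι _ _).symm

/-- transport -/
def map (ι : h.C →* G') (hι : Function.Injective ι) (hc : ∀ a ≠ 0, ∀ g,
    g * ι ⟨_, h.mC (ofAdd (a, 0, 0))⟩ = ι ⟨_, h.mC (ofAdd (a, 0, 0))⟩ * g → g ∈ ι.range) : Full F G' where
  toMod := h.toMod.map ι hι hc
  s := ι.comp (h.s.codRestrict _ h.sC)
  sC _ := ⟨_, rfl⟩
  s_q x a v := by
    simp only [map_q, MonoidHom.comp_apply, ← map_inv ι, ← map_mul ι]
    exact congrArg ι (Subtype.ext (h.s_q x a v))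
  m_s c x e := congrArg ι (Subtype.ext (h.m_s c x e))
  τ_s k hk x e := congrArg ι (Subtype.ext (h.τ_s k hk x e))
  ex := by
    rintro _ ⟨g, rfl⟩
    obtain ⟨a, v, x, e⟩ := h.ex g g.2
    exact ⟨a, v, x, by
      simp only [map_q, MonoidHom.comp_apply, ← map_mul ι]; exact congrArg ι (Subtype.ext e)⟩
  uniq a v x e := h.uniq a v x (congrArg Subtype.val (hι ((h.map_q ι hι hc a v).symm.trans e)))

/-- conjugation -/
def conj (y : G) : Full F G := h.map ((MulAut.conj y).toMonoidHom.comp h.C.subtype)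
  ((MulAut.conj y).injective.comp h.C.subtype_injective) fun a ha g e =>
    ⟨⟨y⁻¹ * g * y, (h.cent a ha _).1 (by
      have := congrArg (y⁻¹ * · * y) e
      simpa [mul_assoc] using this)⟩, by simp [mul_assoc]⟩

theorem conj_toMod (y : G) : (h.conj y).toMod = h.toMod.conj y := rfl

theorem mem_C {g : G} : g ∈ h.C ↔ ∃ a v x, g = h.q a v * h.s x :=
  ⟨h.ex g, by rintro ⟨a, v, x, rfl⟩; exact mul_mem (h.qC a v) (h.sC x)⟩

theorem ext {a a' v v' x x'} (e : h.q a v * h.s x = h.q a' v' * h.s x') : a = a' ∧ v = v' ∧ x = x' := by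
  have e1 : h.q (-a') (-v') * h.q a' v' = 1 := by simp [Mod.q_mul, Mod.q_zero, mul_comm]; exact map_one h.m
  obtain ⟨h1, h2, h3⟩ := h.uniq _ _ (x' * x⁻¹) ((h.q_mul (-a') a (-v') v).symm.trans (by
    rw [eq_inv_of_mul_eq_one_left e1, map_mul, map_inv, inv_mul_eq_iff_eq_mul, ← mul_assoc, ← e, mul_inv_cancel_right]))
  obtain rfl : v' = v := neg_add_eq_zero.1 h2
  exact ⟨by simpa [mul_comm, neg_add_eq_zero, eq_comm] using h1, rfl, (mul_inv_eq_one.1 h3).symm⟩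

end Full

/-- the factor `SL₂` -/
def sS : SL(2, F) →* symplecticGroup (Fin 2) F := MonoidHom.mk' (fun x =>
  ⟨fromBlocks !![1, 0; 0, x 0 0] !![0, 0; 0, x 0 1] !![0, 0; 0, x 1 0] !![1, 0; 0, x 1 1],
    SymplecticGroup.fromBlocks_mem_iff.2 (by
      have := x.det_coe
      rw [det_fin_two] at this
      refine ⟨?_, ?_, ?_⟩ <;> ext i j <;> fin_cases i <;> fin_cases j <;> simp [Matrix.mul_apply, mul_comm]
      linear_combination this)⟩) fun x y => Subtype.ext (by simp [fromBlocks_multiply, Matrix.mul_apply])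

theorem sS_val (x : SL(2, F)) : (sS x).1 =
    fromBlocks !![1, 0; 0, x 0 0] !![0, 0; 0, x 0 1] !![0, 0; 0, x 1 0] !![1, 0; 0, x 1 1] := rfl

theorem model_q (h2 : (2 : F) ≠ 0) (a : F) (v : Fin 2 → F) : ∃ g, (model h2).q a v = π g ∧
    g.1 = fromBlocks !![1, -v 1; 0, 1] !![a, v 0; v 0, 0] 0 !![1, 0; v 1, 1] :=
  ⟨sU (ofAdd (a - v 0 * v 1, v 0, 0)) * sL (-v 1) 1 one_ne_zero, (map_mul π _ _).symm,
    by simp [sU_val, sL, fromBlocks_multiply]⟩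

/-- the model -/
noncomputable def full (h2 : (2 : F) ≠ 0) : Full F (PSp 2 F) where
  toMod := model h2
  s := π.comp sS
  sC x := mem_centralizer_singleton_iff.2 ((π_mul h2).2 (by rw [sS_val, mul_sU]; simp [← Matrix.ext_iff]))
  s_q x a v := by
    obtain ⟨g, e, e'⟩ := model_q h2 a v
    obtain ⟨g', e1, e1'⟩ := model_q h2 a (x.1 *ᵥ v)
    have := x.det_coe
    rw [det_fin_two] at this
    rw [mul_inv_eq_iff_eq_mul, e, e1, MonoidHom.comp_apply, ← map_mul, ← map_mul]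
    refine congrArg π (Subtype.ext ?_)
    simp [e', e1', sS_val, fromBlocks_multiply, mulVec, dotProduct, ← Matrix.ext_iff]
    grind
  m_s c x e := congrArg π (Subtype.ext (by simp [sU_val, sS_val, e, ← one_fin_two, ← Matrix.ext_iff]))
  τ_s k hk x e := (dif_neg hk).trans (congrArg π (Subtype.ext (by simp [sL, sS_val, e, ← Matrix.ext_iff])))
  ex g hg := by
    obtain ⟨⟨g, hs⟩, rfl⟩ := QuotientGroup.mk'_surjective _ g
    obtain ⟨A, B, C, D, rfl⟩ : ∃ A B C D, g = fromBlocks A B C D := ⟨_, _, _, _, (fromBlocks_toBlocks g).symm⟩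
    obtain ⟨e0, e1, e4⟩ := mul_sU.1 ((π_mul h2).1 (mem_centralizer_singleton_iff.1 hg))
    obtain ⟨e5, e2, e3⟩ := SymplecticGroup.fromBlocks_mem_iff.1 hs
    simp only [← Matrix.ext_iff, Fin.forall_fin_two] at e0 e1 e2 e3 e4 e5
    simp [Matrix.mul_apply] at e0 e1 e2 e3 e4 e5
    obtain ⟨g', e, e'⟩ := model_q h2 (A 0 0 * B 0 0) ![A 0 0 * B 1 0, A 0 0 * D 1 0]
    obtain ⟨x, ex⟩ : ∃ x : SL(2, F), x.1 = !![A 0 0 * A 1 1, A 0 0 * B 1 1; A 0 0 * C 1 1, A 0 0 * D 1 1] :=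
      ⟨⟨_, by rw [det_fin_two_of]; grind⟩, rfl⟩
    refine ⟨A 0 0 * B 0 0, ![A 0 0 * B 1 0, A 0 0 * D 1 0], x, ?_⟩
    rw [e, MonoidHom.comp_apply, ← map_mul, π_eq]
    refine (mul_self_eq_one_iff.1 (show A 0 0 * A 0 0 = 1 by grind)).imp (fun h => ?_) fun h => ?_ <;>
      simp only [e', sS_val, Submonoid.coe_mul, fromBlocks_multiply, fromBlocks_neg, fromBlocks_inj,
        ← Matrix.ext_iff, Fin.forall_fin_two] <;> simp [Matrix.mul_apply, h, ex] <;> grind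
  uniq a v x e := by
    obtain ⟨g, e1, e'⟩ := model_q h2 a v
    rw [e1, MonoidHom.comp_apply, π_eq, e', sS_val, fromBlocks_neg, fromBlocks_inj, fromBlocks_inj] at e
    simp only [← Matrix.ext_iff, Fin.forall_fin_two] at e
    simp at e
    rcases e with e | e
    · exact ⟨e.2.1.1.1, funext (Fin.forall_fin_two.2 ⟨e.2.1.1.2, e.1.1⟩), Subtype.ext (by
        simp only [← Matrix.ext_iff, Fin.forall_fin_two]; simp; grind)⟩
    · exact absurd (by linear_combination e.1.1.1) h2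

/-- the coordinates in a group with the given centraliser -/
theorem exists_full [Finite G] [Finite F] (h2 : (2 : F) ≠ 0) {p : ℕ} [Fact p.Prime] [CharP F p] {x : PSp 2 F}
    (hx : x ≠ 1) (U : Sylow p (PSp 2 F)) (hxc : ∀ y ∈ (U : Subgroup (PSp 2 F)), y * x = x * y) {α : G}
    (e : centralizer ({α} : Set G) ≃* centralizer ({x} : Set (PSp 2 F)))
    (hb : ∀ z ∈ centralizer ({α} : Set G), z ≠ 1 → (∀ c ∈ centralizer ({α} : Set G), c * z = z * c) →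
      centralizer ({z} : Set G) = centralizer ({α} : Set G)) : ∃ h : Full F G, h.C = centralizer {α} := by
  obtain ⟨g, a, hga⟩ := (model h2).exists_conj_Z h2 U hxc
  let h₀ := (full h2).conj g⁻¹
  have hC : h₀.C = centralizer {x} := by
    ext c
    rw [mem_centralizer_singleton_iff, ← h₀.cent a ((model h2).ne_zero hx hga),
      show h₀.m (ofAdd (a, 0, 0)) = x from (congrArg (g⁻¹ * · * g⁻¹⁻¹) hga.symm).trans (by group)]
  let ι : h₀.C →* G := (Subgroup.subtype _).comp ((MulEquiv.subgroupCongr hC).trans e.symm).toMonoidHom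
  have hι : Function.Injective ι := (subtype_injective _).comp (MulEquiv.injective _)
  have hr : ι.range = centralizer {α} := by
    rw [MonoidHom.range_comp, MonoidHom.range_eq_top_of_surjective _ (MulEquiv.surjective _),
      ← MonoidHom.range_eq_map, range_subtype]
  refine ⟨h₀.map ι hι fun b hb0 y hy => ?_, hr⟩
  rw [hr, ← hb (ι ⟨_, h₀.mC (ofAdd (b, 0, 0))⟩) (hr.le ⟨_, rfl⟩) (fun e => hb0 ?_) fun c hc => ?_]
  · exact mem_centralizer_singleton_iff.2 hy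
  · exact congrArg (·.toAdd.1) (h₀.inj ((congrArg Subtype.val (hι (e.trans ι.map_one.symm))).trans h₀.m.map_one.symm))
  · obtain ⟨c, rfl⟩ := hr.ge hc
    rw [← map_mul, ← map_mul]
    exact congrArg ι (Subtype.ext ((h₀.cent b hb0 c).2 c.2))

/-- moving the coordinates to a given Sylow subgroup -/
theorem Full.exists_conj_P [Finite G] [Finite F] (h : Full F G) (h2 : (2 : F) ≠ 0) {p : ℕ} [Fact p.Prime] [CharP F p]
    (P : Sylow p G) : ∃ y, (h.conj y).P = P ∧ (h.conj y).C = cj y h.C :=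
  let ⟨y, _, hy⟩ := (h.syl (p := p) h2).exists_conj_eq (isSylowIn_top_iff.2 ⟨P, rfl⟩)
  ⟨y, (h.conj_P y).trans hy, h.conj_C y⟩

/-- the hypothesis on the classes of `p`-central elements, in coordinates -/
theorem Mod.not_conj [Finite G] [Finite F] (h : Mod F G) (h2 : (2 : F) ≠ 0) {p : ℕ} [Fact p.Prime] [CharP F p]
    {u v : G} (hu : u ≠ 1) (hv : v ≠ 1) (Pu Pv : Sylow p G) (hu' : ∀ y ∈ (Pu : Subgroup G), y * u = u * y)
    (hv' : ∀ y ∈ (Pv : Subgroup G), y * v = v * y) (huv : ¬ IsConj u v) :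
    ¬ ∀ a ≠ 0, ∀ a' ≠ 0, ∃ g : G, g * h.m (ofAdd (a, 0, 0)) * g⁻¹ = h.m (ofAdd (a', 0, 0)) := fun H => by
  obtain ⟨g₁, a₁, e₁⟩ := h.exists_conj_Z h2 Pu hu'
  obtain ⟨g₂, a₂, e₂⟩ := h.exists_conj_Z h2 Pv hv'
  obtain ⟨g₃, e₃⟩ := H a₁ (h.ne_zero hu e₁) a₂ (h.ne_zero hv e₂)
  rw [← e₁, ← e₂] at e₃
  exact huv (isConj_iff.2 ⟨g₂⁻¹ * g₃ * g₁, by
    rw [← inv_mul_cancel_left g₂ v, ← inv_mul_cancel_right (g₂ * v) g₂, ← e₃]; group⟩)

end CL.Hay
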