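/-
Project HAY: the local data from the centraliser in `PSp₄(q)`, and the assembly.
-/
import Cfsg.Agent.Hay.Defs2
import Cfsg.Agent.Hay.Full
import Cfsg.Statements.S3302
import Cfsg.Statements.S3241

set_option autoImplicit false

open Cfsg Subgroup Multiplicative Matrix
open scoped MatrixGroups

namespace CL.Hay

open CL.Even CL.Grp

universe u v

variable {F : Type v} [Field F] {G : Type u} [Group G]

namespace Full

variable (h : Full F G)

theorem q_one : h.q 0 0 = 1 := (h.q_zero 0).trans (map_one h.m)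

/-- the local data -/
def loc : Loc G F where
  zz a := h.q a 0
  qq v := h.q 0 v
  ll := h.s
  zz_add a b := by simp [Mod.q_mul]
  qq_mul v w := by simp [Mod.q_mul]
  ll_qq g v := h.s_q g 0 v
  zz_qq a v := by simp [Commute, SemiconjBy, Mod.q_mul]
  zz_ll a g := (mul_inv_eq_iff_eq_mul.1 ((h.s_q g a 0).trans (by rw [mulVec_zero]))).symm
  inj a v g e := h.ext (a' := 0) (v' := 0) (x' := 1) (by rw [q_one, map_one, mul_one, ← e]; simp [Mod.q_mul])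
  cen a ha x hx := by
    obtain ⟨b, v, g, rfl⟩ := h.ex x ((h.cent a ha x).1 (h.q_zero a ▸ hx.eq))
    exact ⟨b, v, g, by simp [Mod.q_mul]⟩

theorem loc_zz (a : F) : h.loc.zz a = h.m (ofAdd (a, 0, 0)) := h.q_zero a

theorem loc_ll (d : F) : h.loc.ll (uu d) = h.m (ofAdd (0, 0, d)) := (h.m_s d _ rfl).symm

theorem loc_C : h.loc.C = h.C := by
  ext x; rw [Loc.C, mem_centralizer_singleton_iff, loc_zz, h.cent 1 one_ne_zero]

theorem loc_M {x : G} : x ∈ h.loc.M ↔ x ∈ h.m.range := by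
  have e : ∀ a b d, h.loc.zz a * h.loc.qq ![b, 0] * h.loc.ll (uu d) = h.m (ofAdd (a, b, d)) := fun a b d => by
    rw [loc_zz, loc_ll, show h.loc.qq ![b, 0] = h.m (ofAdd (0, b, 0)) by simp [loc, Mod.q], ← map_mul, ← map_mul,
      ← ofAdd_add, ← ofAdd_add]; simp
  exact ⟨by rintro ⟨a, b, d, rfl⟩; exact ⟨_, (e a b d).symm⟩, by rintro ⟨x, rfl⟩; exact ⟨_, _, _, (e _ _ _).symm⟩⟩

theorem loc_t : h.loc.t = h.τ (-1) := (h.τ_s (-1) (by simp) _ (by ext i j; fin_cases i <;> fin_cases j <;> simp)).symm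

variable [Finite G] [Fintype F] (hF : Fq F)
include hF

theorem _root_.CL.Hay.Fq.charP : CharP F 3 := let ⟨_, e⟩ := hF.card_pow; charP_of_card_eq_prime_pow e

theorem norm_P_le : 𝒩(h.P) ≤ 𝒩(h.m.range) := fun g hg =>
  have := hF.charP
  have : Fact (Nat.Prime 3) := ⟨by norm_num⟩
  cj_eq_iff_mem.1 (h.eq_M hF.two_ne ((cj_mono _ le_sup_left).trans (cj_eq_iff_mem.2 hg).le)
    (cj_cent g _ ▸ cj_mono _ (h.M_cent hF.two_ne 3)) (by rw [card_cj, h.card_M]))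

theorem sc (hN : 𝒩(h.m.range) ≤ 𝒩(h.P)) : h.loc.SC := fun x hx y hy e => by
  have := hF.charP
  have : Fact (Nat.Prime 3) := ⟨by norm_num⟩
  have h2 := hF.two_ne
  rw [loc_M] at hx hy
  obtain ⟨g, rfl⟩ := isConj_iff.1 e
  have hM : IsPGroup 3 h.m.range := h.isP.to_le le_sup_left
  have c : ∀ x ∈ h.m.range, h.m.range ≤ centralizer {x} := fun x hx z hz =>
    mem_centralizer_singleton_iff.2 (h.M_cent h2 3 hx z hz)
  obtain ⟨S, hS, h1⟩ := exists_isSylowIn_ge hM (c _ hy)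
  obtain ⟨k, hk, h3⟩ := hS.exists_conj_le (isPGroup_cj hM g) fun z hz => mem_centralizer_singleton_iff.2 (by
    have := congrArg (g * · * g⁻¹) (mem_centralizer_singleton_iff.1 (c _ hx (mem_cj.1 hz)))
    simpa [mul_assoc] using this)
  obtain ⟨l, -, h4⟩ := (h.syl (p := 3) h2).exists_conj_le hS.isPGroup le_top
  have key : ∀ n, cj n h.m.range ≤ S → l * n ∈ 𝒩(h.m.range) := fun n hn =>
    cj_eq_iff_mem.1 (h.eq_M h2 (cj_mul l n _ ▸ (cj_mono l hn).trans h4) (cj_cent (l * n) _ ▸ cj_mono _ (h.M_cent h2 3))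
      (by rw [card_cj, h.card_M]))
  have h5 := hN (mul_mem (inv_mem (key 1 ((cj_eq_iff_mem.2 (one_mem _)).le.trans h1))) (key (k * g) (cj_mul k g _ ▸ h3)))
  rw [show (l * 1)⁻¹ * (l * (k * g)) = k * g by group] at h5
  refine ⟨k * g, ?_, ?_⟩
  · obtain ⟨a, e⟩ := h.mem_Z h2 (g := k * g * h.loc.zz 1 * (k * g)⁻¹) fun z hz => by
      have := h.loc.C_comm (h.loc_C.ge (h.P_le_C h2 3 (conj_mem (inv_mem h5) hz))) 1
      simpa [mul_assoc] using congrArg (k * g * · * (k * g)⁻¹) this.eq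
    exact h.loc.mem_H_of hF (e.trans (h.loc_zz a).symm) one_ne_zero
  · calc _ = k * (g * x * g⁻¹) * k⁻¹ := by group
      _ = _ := by rw [mem_centralizer_singleton_iff.1 hk, mul_inv_cancel_right]

theorem op (hc : ¬ ∀ a ≠ 0, ∀ a' ≠ 0, ∃ g : G, g * h.m (ofAdd (a, 0, 0)) * g⁻¹ = h.m (ofAdd (a', 0, 0)))
    (hN : ¬ 𝒩(h.m.range) ≤ 𝒩(h.P)) : h.loc.OP := by
  have := hF.charP
  have : Fact (Nat.Prime 3) := ⟨by norm_num⟩
  have h2 := hF.two_ne
  refine ⟨?_, fun g a ha e => ?_⟩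
  · obtain ⟨w, -, e⟩ := h.exists_w h2 3 hF.neg_one hc hF.exists_sq_ne hN
    have ht : ∀ a b c, h.loc.t * h.m (ofAdd (a, b, c)) * h.loc.t⁻¹ = h.m (ofAdd (a, -b, c)) := fun a b c => by
      rw [loc_t, h.hτ _ (by simp)]; simp
    obtain ⟨⟨a, b, c⟩, e1⟩ := h.mem_M h2 (g := w * h.loc.t * w⁻¹ * h.loc.t⁻¹) fun ⟨a, b, c⟩ => by
      change _ * h.m (ofAdd (a, b, c)) = h.m (ofAdd (a, b, c)) * _
      refine mul_inv_eq_iff_eq_mul.1 ?_
      have a1 : h.loc.t⁻¹ * h.m (ofAdd (a, b, c)) * h.loc.t = h.m (ofAdd (a, -b, c)) := by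
        simpa [h.loc.t_inv] using ht a b c
      have a2 : w⁻¹ * h.m (ofAdd (a, -b, c)) * w = h.m (ofAdd (c, -b, a)) := by rw [← e c (-b) a]; group
      calc _ = w * (h.loc.t * (w⁻¹ * (h.loc.t⁻¹ * h.m (ofAdd (a, b, c)) * h.loc.t) * w) * h.loc.t⁻¹) * w⁻¹ := by group
        _ = _ := by rw [a1, a2, ht, e, neg_neg]
    change h.m (ofAdd (a, b, c)) = _ at e1
    have e2 : h.m (ofAdd (a, b, c)) * h.m (ofAdd (a, -b, c)) = 1 := by
      rw [← ht, e1, h.loc.t_inv]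
      calc _ = w * h.loc.t * w⁻¹ * (h.loc.t * h.loc.t) * w * h.loc.t * w⁻¹ * (h.loc.t * h.loc.t) := by group
        _ = w * (h.loc.t * h.loc.t) * w⁻¹ := by nth_rw 1 [h.loc.t_sq]; nth_rw 1 [h.loc.t_sq]; simp [mul_assoc]
        _ = 1 := by rw [h.loc.t_sq]; group
    rw [← map_mul, ← ofAdd_add] at e2
    have e3 := h.inj' (e2.trans (map_one h.m).symm)
    obtain rfl : a = 0 := hF.eq_zero_of_eq_neg (eq_neg_of_add_eq_zero_left (congrArg (·.1) e3))
    obtain rfl : c = 0 := hF.eq_zero_of_eq_neg (eq_neg_of_add_eq_zero_left (congrArg (·.2.2) e3))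
    have cm : ∀ x y, h.m x * h.m y * (h.m x)⁻¹ = h.m y := fun x y => by
      rw [← map_mul, mul_comm, map_mul, mul_inv_cancel_right]
    have e4 : ∀ a' b' c', h.m (ofAdd (0, b, 0)) * w * h.m (ofAdd (a', b', c')) * (h.m (ofAdd (0, b, 0)) * w)⁻¹ =
        h.m (ofAdd (c', b', a')) := fun a' b' c' => by rw [← cm (ofAdd (0, b, 0)) (ofAdd (c', b', a')), ← e a' b' c']; group
    refine ⟨h.m (ofAdd (0, b, 0)) * w, mul_inv_eq_iff_eq_mul.1 ?_, fun a => ⟨a, by rw [loc_zz, loc_ll, e4]⟩,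
      fun a => ⟨a, by rw [loc_zz, loc_ll, e4]⟩⟩
    have e5 : h.loc.t * (h.m (ofAdd (0, b, 0)))⁻¹ * h.loc.t⁻¹ = h.m (ofAdd (0, b, 0)) := by
      rw [← map_inv, ← ofAdd_neg, show -((0 : F), b, (0 : F)) = (0, -b, 0) by simp, ht, neg_neg]
    calc _ = h.m (ofAdd (0, b, 0)) * (w * h.loc.t * w⁻¹ * h.loc.t⁻¹) *
          (h.loc.t * (h.m (ofAdd (0, b, 0)))⁻¹ * h.loc.t⁻¹) * h.loc.t := by group
      _ = _ := by
        rw [e5, ← e1, ← map_mul, ← map_mul, ← ofAdd_add, ← ofAdd_add,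
          show ((0 : F), b, (0 : F)) + (0, b, 0) + (0, b, 0) = 0 by ext <;> simp; linear_combination b * hF.three]
        simp
  · rw [loc_zz, loc_zz] at e
    obtain ⟨r, -, e1⟩ := h.sq_of_conj h2 3 hF.neg_one hc hF.exists_sq_ne hN ha e
    have : -a = r ^ 2 * a := congrArg (·.1) (h.inj' (e.symm.trans (e1 a)))
    exact hF.neg_one ⟨r, mul_right_cancel₀ ha (by linear_combination this)⟩

end Full

theorem s3302_of (H : ClosedThm.{u, v}) : type_of% @Cfsg.CfsgFrozen.S3302.{u, v} := by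
  intro G _ _ F _ _ m hm hm1 hF U x hx _ hxc α _ e hb P M hMP hMel hMcard hB
  have hq : Fq F := ⟨m, hm, hm1, hF⟩
  have := hq.charP
  have : Fact (Nat.Prime 3) := ⟨by norm_num⟩
  obtain ⟨h₀, hC⟩ := exists_full hq.two_ne (by rintro rfl; simp at hx) U hxc e fun z h1 h2 h3 => hb z h2 h1 h3
  obtain ⟨y, hP, hy⟩ := h₀.exists_conj_P hq.two_ne P
  generalize h₀.conj y = h at hP hy
  have := hMel.1
  obtain rfl : M = h.m.range := h.eq_M hq.two_ne (hMP.trans hP.ge) (le_centralizer M)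
    (by rw [hMcard, Nat.card_eq_fintype_card, hF, ← pow_mul, mul_comm])
  have hn : h.C.Normal := h.loc_C ▸ H G F h.loc hq (h.sc hq (hP ▸ hB))
  have e2 : h.C = centralizer {α} := by
    rw [← hC, ← cj_eq_iff_mem.2 (show y⁻¹ ∈ 𝒩(h.C) from normalizer_eq_top h.C ▸ mem_top _), hy, ← cj_mul,
      inv_mul_cancel, cj_eq_iff_mem.2 (one_mem _)]
  refine ⟨fun g => ?_, e2 ▸ hn⟩
  obtain ⟨c, hc, h1⟩ := ((h.syl (p := 3) hq.two_ne).of_le (h.P_le_C hq.two_ne 3) le_top).frattini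
    (H := ⊤) (normalizer_eq_top h.C).ge (mem_top g)
  exact ⟨c⁻¹, c * g, fun z hz => (hz.2 _ (e2 ▸ inv_mem hc)).symm, h.norm_P_le hq h1, by group⟩

theorem s3241_of (H : ClosedThm.{u, v}) (H' : OpenThm.{u, v}) : type_of% @Cfsg.CfsgFrozen.S3241.{u, v} := by
  intro G _ _ F _ _ m hm hm1 hF U x hx _ hxc α _ e hb ⟨P, Q, a, b, ha, hb', _, _, h1, h2, h3⟩
  have hq : Fq F := ⟨m, hm, hm1, hF⟩
  have := hq.charP
  have : Fact (Nat.Prime 3) := ⟨by norm_num⟩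
  obtain ⟨h, hC⟩ := exists_full hq.two_ne (by rintro rfl; simp at hx) U hxc e fun z h1 h2 h3 => hb z h2 h1 h3
  by_cases hN : 𝒩(h.m.range) ≤ 𝒩(h.P)
  · exact Or.inl (hC ▸ h.loc_C ▸ H G F h.loc hq (h.sc hq hN))
  · exact Or.inr (H' G F h.loc hq (h.op hq (h.not_conj hq.two_ne (by rintro rfl; simp at ha)
      (by rintro rfl; simp at hb') P Q h1 h2 h3) hN))

end CL.Hay
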