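/-
Project HAY, part 1S: a Sylow `2`-subgroup of `N(R)`.
-/
import Cfsg.Agent.Hay.Defs2
import Cfsg.Agent.Fgs.FixCount

set_option autoImplicit false
set_option linter.unusedSectionVars false

open Subgroup Matrix CL.Grp
open scoped MatrixGroups commutatorElement

namespace CL.Hay.TF

variable {G : Type*} [Group G] {F : Type*} [Field F] (X : Loc G F)

theorem conj_T {g x : G} (hg : Commute g X.t) (hx : x ∈ zpowers X.t) : g * x * g⁻¹ = x := by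
  rcases X.mem_zpowers_t.1 hx with rfl | rfl
  · simp
  · rw [hg.eq, mul_inv_cancel_right]

theorem comm_T {g x : G} (hg : Commute g X.t) (hx : x ∈ zpowers X.t) : Commute g x :=
  mul_inv_eq_iff_eq_mul.1 (conj_T X hg hx)

theorem conj_mem_T {g x : G} (hg : Commute g X.t) : g * x * g⁻¹ ∈ zpowers X.t ↔ x ∈ zpowers X.t :=
  ⟨fun h => by
    have := conj_T X hg.inv_left h
    rw [show g⁻¹ * (g * x * g⁻¹) * g⁻¹⁻¹ = x by group] at this
    exact this ▸ h, fun h => (conj_T X hg h).symm ▸ h⟩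

variable [Fintype F] (hF : Fq F) [Finite G]
include hF

/-- the square of a `2`-element of `H` lies in `C`. -/
theorem sq_mem_C {τ : G} (hH : τ ∈ X.H) {k : ℕ} (hk : τ ^ 2 ^ k = 1) : τ * τ ∈ X.C := by
  let φ : X.H →* MulAut X.Z := normalizerMonoidHom X.Z
  have h1 := CL.Fgs.card_dvd_ncard_of_semiregular (zpowers (φ ⟨τ, hH⟩)) {z : X.Z | z ≠ 1}
    (fun g _ x hx => by simpa using hx) (by
      rintro _ ⟨n, rfl⟩ x hx e
      obtain ⟨a, ea⟩ := X.mem_Z.1 x.2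
      have ha : a ≠ 0 := by rintro rfl; exact hx (Subtype.ext (ea.trans X.zz_zero))
      simp only [← map_zpow] at e ⊢
      have e' : τ ^ n * x.1 * (τ ^ n)⁻¹ = x.1 := congrArg Subtype.val e
      have hC := (X.mem_C_iff ha).2 (mul_inv_eq_iff_eq_mul.1 (ea ▸ e'))
      ext z
      obtain ⟨b, eb⟩ := X.mem_Z.1 z.2
      exact mul_inv_eq_iff_eq_mul.2 (eb ▸ (X.C_comm hC b).eq))
  have h2 : ({z : X.Z | z ≠ 1} : Set X.Z).ncard = Fintype.card F - 1 := by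
    rw [show ({z : X.Z | z ≠ 1} : Set X.Z) = {1}ᶜ from rfl, Set.ncard_compl, Set.ncard_singleton, X.card_Z,
      Nat.card_eq_fintype_card]
  rw [h2, Nat.card_zpowers] at h1
  have h3 : orderOf (φ ⟨τ, hH⟩) ∣ 2 ^ k := orderOf_dvd_of_pow_eq_one (by
    rw [← map_pow, show (⟨τ, hH⟩ : X.H) ^ 2 ^ k = 1 from Subtype.ext hk, map_one])
  obtain ⟨j, -, hj⟩ := (Nat.dvd_prime_pow Nat.prime_two).1 h3
  have h4 : j ≤ 1 := not_lt.1 fun h => by
    have := (pow_dvd_pow 2 (show 2 ≤ j from h)).trans (hj ▸ h1)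
    have := hF.card_mod
    omega
  have h5 : φ ⟨τ, hH⟩ ^ 2 = 1 := orderOf_dvd_iff_pow_eq_one.1 (hj ▸ pow_dvd_pow 2 h4)
  rw [← map_pow, pow_two] at h5
  exact (X.mem_C_iff one_ne_zero).2 (mul_inv_eq_iff_eq_mul.1
    (congrArg (fun α : MulAut X.Z => (α ⟨_, X.zz_mem 1⟩ : G)) h5))

/-- representatives of the nontrivial cosets of `⟨t⟩` in `R`. -/
def ee : Fin 3 → G := ![X.I, X.J, X.I * X.J]

theorem ee_R (i : Fin 3) : ee X i ∈ X.R := by
  fin_cases i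
  exacts [X.I_R, X.J_R, mul_mem X.I_R X.J_R]

theorem not_T {x : G} (h : x * x = X.t) : x ∉ zpowers X.t := fun hx => X.t_ne hF (h.symm.trans (X.sq_zpowers hF hx))

theorem ee_sq (i : Fin 3) : ee X i * ee X i = X.t := by
  fin_cases i
  exacts [X.I_sq, X.J_sq, X.IJ_sq hF]

theorem ee_inj {i j : Fin 3} (h : (ee X i)⁻¹ * ee X j ∈ zpowers X.t) : i = j := by
  have c := comm_T X (X.R_comm_t hF (ee_R X hF i)) h
  have c' : Commute (ee X i) (ee X j) := by simpa using (Commute.refl (ee X i)).mul_right c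
  have n := X.not_comm_IJ hF
  have n1 : ¬ Commute X.I (X.I * X.J) := fun h => n (by simpa using (Commute.refl X.I).inv_right.mul_right h)
  have n2 : ¬ Commute X.J (X.I * X.J) := fun h => n (by simpa using (h.mul_right (Commute.refl X.J).inv_right).symm)
  fin_cases i <;> fin_cases j <;> first | rfl | exact absurd c' (by assumption) | exact absurd c'.symm (by assumption)

theorem exists_ee {r : G} (hr : r ∈ X.R) (h : r ∉ zpowers X.t) : ∃ j, (ee X j)⁻¹ * r ∈ zpowers X.t := by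
  have key : ∀ s j, (s = 1 ∨ s = X.t) → (ee X j)⁻¹ * (s * ee X j) ∈ zpowers X.t := fun s j hs => by
    have := (conj_mem_T X (X.R_comm_t hF (ee_R X hF j)).inv_left).2 (X.mem_zpowers_t.2 hs)
    rwa [inv_inv, mul_assoc] at this
  obtain ⟨s, hs, rfl | rfl | rfl | rfl⟩ := (X.mem_R hF).1 hr
  exacts [absurd (X.mem_zpowers_t.2 hs) h, ⟨0, key s 0 hs⟩, ⟨1, key s 1 hs⟩, ⟨2, key s 2 hs⟩]

/-- the action of `N(R)` on the nontrivial cosets of `⟨t⟩` in `R`. -/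
theorem exists_perm : ∃ φ : normalizer (X.R : Set G) →* Equiv.Perm (Fin 3), ∀ n,
    φ n = 1 ↔ ⁅n.1, X.I⁆ ∈ zpowers X.t ∧ ⁅n.1, X.J⁆ ∈ zpowers X.t := by
  have ct : ∀ n : normalizer (X.R : Set G), Commute n.1 X.t := fun n => X.mem_X.1 (X.norm_R_le_X hF n.2)
  have : ∀ (n : normalizer (X.R : Set G)) i, ∃ j, (ee X j)⁻¹ * (n.1 * ee X i * n.1⁻¹) ∈ zpowers X.t := fun n i =>
    exists_ee X hF ((mem_normalizer_iff.1 n.2 _).1 (ee_R X hF i)) fun h =>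
      not_T X hF (ee_sq X hF i) ((conj_mem_T X (ct n)).1 h)
  choose f hf using this
  have uniq : ∀ (n : normalizer (X.R : Set G)) i j, (ee X j)⁻¹ * (n.1 * ee X i * n.1⁻¹) ∈ zpowers X.t → f n i = j :=
    fun n i j h => ee_inj X hF (by simpa [mul_assoc] using mul_mem (hf n i) (inv_mem h))
  have key : ∀ (n : normalizer (X.R : Set G)) i, f n i = i ↔ ⁅n.1, ee X i⁆ ∈ zpowers X.t := fun n i => by
    rw [← conj_mem_T X (X.R_comm_t hF (ee_R X hF i)).inv_left, commutatorElement_def,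
      show (ee X i)⁻¹ * (n.1 * ee X i * n.1⁻¹ * (ee X i)⁻¹) * (ee X i)⁻¹⁻¹ = (ee X i)⁻¹ * (n.1 * ee X i * n.1⁻¹) by group]
    exact ⟨fun h => by have := hf n i; rwa [h] at this, uniq n i i⟩
  let ψ : normalizer (X.R : Set G) →* Function.End (Fin 3) :=
    { toFun := f
      map_one' := funext fun i => uniq 1 i i (by simp)
      map_mul' := fun m n => funext fun i => uniq _ _ _ (by
        have := mul_mem (hf m (f n i)) ((conj_mem_T X (ct m)).2 (hf n i))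
        convert this using 1
        simp only [coe_mul]
        change (ee X (f m (f n i)))⁻¹ * _ = _
        group) }
  refine ⟨ψ.toHomPerm, fun n => ⟨fun h => ?_, fun h => ?_⟩⟩
  · have h' : ∀ i, f n i = i := fun i => congrArg (fun σ : Equiv.Perm (Fin 3) => σ i) h
    exact ⟨(key n 0).1 (h' 0), (key n 1).1 (h' 1)⟩
  · ext i
    refine congrArg Fin.val ((key n i).2 ?_)
    fin_cases i
    · exact h.1
    · exact h.2
    · have := mul_mem h.1 ((conj_mem_T X (X.R_comm_t hF X.I_R)).2 h.2)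
      convert this using 1
      change ⁅n.1, X.I * X.J⁆ = _
      simp only [commutatorElement_def]; group

omit hF in
set_option maxRecDepth 100000 in
theorem perm_three : ∀ σ τ : Equiv.Perm (Fin 3), σ ^ 3 = 1 ∨ τ ^ 3 = 1 ∨ (σ⁻¹ * τ) ^ 3 = 1 := by decide

omit hF in
theorem eq_one_of_cube {Γ : Type*} [Group Γ] {x : Γ} {k : ℕ} (h2 : x ^ 2 ^ k = 1) (h3 : x ^ 3 = 1) : x = 1 :=
  orderOf_eq_one_iff.1 (Nat.eq_one_of_dvd_coprimes ((by decide : Nat.Coprime 2 3).pow_left k)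
    (orderOf_dvd_of_pow_eq_one h2) (orderOf_dvd_of_pow_eq_one h3))

omit hF in
theorem Y_le_N : X.Y ≤ normalizer (X.R : Set G) := centralizer_le_normalizer _

theorem R_le {S : Subgroup G} (hS : IsSylowIn 2 S (normalizer (X.R : Set G))) : X.R ≤ S :=
  hS.le_of_normalized (X.isPGroup_R hF) le_normalizer le_rfl

theorem two_of (hY : X.YF) {S : Subgroup G} (hS : IsSylowIn 2 S (normalizer (X.R : Set G)))
    (out : ∀ P : Sylow 2 X.Y, (P : Subgroup X.Y).map X.Y.subtype = S ⊓ X.Y → S = X.R ⊔ S ⊓ X.Y ∨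
      ∃ τ ∈ S, τ ∈ X.H ∧ τ ∉ X.C ∧ τ * τ ∈ X.R ∧ (∀ s ∈ S, s ∈ X.R ⊔ S ⊓ X.Y ∨ τ⁻¹ * s ∈ X.R ⊔ S ⊓ X.Y) ∧
      (∃ r ∈ X.R, ⁅τ, r⁆ ∉ zpowers X.t) ∧ ∃ x ∈ S ⊓ X.Y, ⁅τ, x⁆ ∉ zpowers X.t) :
    ∃ b, X.Two S (S ⊓ X.Y) b := by
  obtain ⟨P, hP⟩ := isSylowIn_iff_exists.1 (hS.inf_of_normalized (Y_le_N X) (X.norm_R_le hF))
  obtain ⟨k, hk, a, ha, h1, h2⟩ := hY.three P
  rw [hP] at h1 h2
  exact ⟨_, hS, fun x => mem_inf, by rw [← hP, card_map_of_injective X.Y.subtype_injective, hY.card_syl],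
    fun y hy => X.mem_zpowers_t.2 (hY.sq y hy.2 (hS.isPGroup.to_le (zpowers_le.2 hy.1))), hY.rho, ⟨k, hk, a, ha, rfl⟩,
    h1, h2, out P hP⟩

theorem mem_S₀ {S : Subgroup G} (hS : IsSylowIn 2 S (normalizer (X.R : Set G))) {s : G} (hs : s ∈ S)
    (h : ⁅s, X.I⁆ ∈ zpowers X.t ∧ ⁅s, X.J⁆ ∈ zpowers X.t) : s ∈ X.R ⊔ S ⊓ X.Y := by
  obtain ⟨r, hr, hy⟩ := X.exists_RY hF h.1 h.2
  simpa using mul_mem (mem_sup_left hr : r ∈ X.R ⊔ S ⊓ X.Y)
    (mem_sup_right (mem_inf.2 ⟨mul_mem (inv_mem (R_le X hF hS hr)) hs, hy⟩))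

theorem exists_two (hY : X.YF) : ∃ S R' b, X.Two S R' b := by
  obtain ⟨φ, hφ⟩ := exists_perm X hF
  by_cases hc : ∀ (n : normalizer (X.R : Set G)) k, n ^ 2 ^ k = 1 → φ n = 1
  · obtain ⟨S, hS⟩ := exists_isSylowIn 2 (normalizer (X.R : Set G))
    refine ⟨S, _, two_of X hF hY hS fun _ _ => Or.inl (le_antisymm (fun s hs => ?_) (sup_le (R_le X hF hS) inf_le_left))⟩
    obtain ⟨k, hk⟩ := hS.isPGroup ⟨s, hs⟩
    exact mem_S₀ X hF hS hs ((hφ _).1 (hc ⟨s, hS.le hs⟩ k (Subtype.ext (congrArg Subtype.val hk :))))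
  push Not at hc
  obtain ⟨n, k, hn, hn1⟩ := hc
  obtain ⟨y, hy, hH⟩ := X.frattini_Y hF (X.norm_R_le hF n.2)
  let h : normalizer (X.R : Set G) := ⟨y, Y_le_N X hy⟩ * n
  have e1 : φ h = φ n := by
    rw [map_mul, (hφ ⟨y, Y_le_N X hy⟩).2, one_mul]
    exact ⟨by rw [(X.mem_Y.1 hy).1.commutator_eq]; exact one_mem _, by rw [(X.mem_Y.1 hy).2.commutator_eq]; exact one_mem _⟩
  obtain ⟨j, m, hm, e2⟩ := Nat.exists_eq_two_pow_mul_odd (orderOf_pos h).ne'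
  have hτ : (h ^ m) ^ 2 ^ j = 1 := by rw [← pow_mul, mul_comm, ← e2, pow_orderOf_eq_one]
  have hτ1 : φ (h ^ m) ≠ 1 := fun e => hn1 (by
    rw [map_pow, e1] at e
    exact orderOf_eq_one_iff.1 (Nat.eq_one_of_dvd_coprimes ((Nat.coprime_two_left.2 hm).pow_left k)
      (orderOf_dvd_of_pow_eq_one (by rw [← map_pow, hn, map_one])) (orderOf_dvd_of_pow_eq_one e)))
  have hτH : (h ^ m).1 ∈ X.H := pow_mem hH m
  generalize h ^ m = τ at hτ hτ1 hτH
  have hτ' : τ.1 ^ 2 ^ j = 1 := congrArg Subtype.val hτ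
  obtain ⟨S, hS, hle⟩ := exists_isSylowIn_ge (p := 2) (U := zpowers τ.1) (H := normalizer (X.R : Set G))
    (IsPGroup.of_card (n := (orderOf τ.1).factorization 2) (by
      obtain ⟨i, -, hi⟩ := (Nat.dvd_prime_pow Nat.prime_two).1 (orderOf_dvd_of_pow_eq_one hτ')
      rw [Nat.card_zpowers, hi, Nat.prime_two.factorization_pow, Finsupp.single_eq_same])) (zpowers_le.2 τ.2)
  have hτS : τ.1 ∈ S := hle (mem_zpowers _)
  have hSC : S ⊓ X.C = X.R := X.eq_R hF (hS.isPGroup.to_le inf_le_left) inf_le_right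
    (le_inf (R_le X hF hS) (X.R_le_L.trans X.L_le_C))
  have hC : τ.1 ∉ X.C := fun hC => by
    have : τ.1 ∈ X.R := hSC.le (mem_inf.2 ⟨hτS, hC⟩)
    exact hτ1 ((hφ τ).2 ⟨X.R_comm hF this X.I_R, X.R_comm hF this X.J_R⟩)
  have h2 := sq_mem_C X hF hτH hτ'
  refine ⟨S, _, two_of X hF hY hS fun P hP => Or.inr ⟨τ, hτS, hτH, hC, hSC.le (mem_inf.2 ⟨mul_mem hτS hτS, h2⟩),
    fun s hs => ?_, ?_, ?_⟩⟩
  · have one : ∀ x (hx : x ∈ S), φ ⟨x, hS.le hx⟩ ^ 3 = 1 → φ ⟨x, hS.le hx⟩ = 1 := fun x hx e => by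
      obtain ⟨k, hk⟩ := hS.isPGroup ⟨x, hx⟩
      refine eq_one_of_cube (k := k) ?_ e
      rw [← map_pow, show (⟨x, hS.le hx⟩ : normalizer (X.R : Set G)) ^ 2 ^ k = 1 from
        Subtype.ext (congrArg Subtype.val hk :), map_one]
    rcases perm_three (φ τ) (φ ⟨s, hS.le hs⟩) with e | e | e
    · exact absurd (one _ hτS e) hτ1
    · exact Or.inl (mem_S₀ X hF hS hs ((hφ _).1 (one _ hs e)))
    · rw [← map_inv, ← map_mul] at e
      exact Or.inr (mem_S₀ X hF hS (mul_mem (inv_mem hτS) hs) ((hφ _).1 (one _ (mul_mem (inv_mem hτS) hs) e)))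
  · by_contra! hr
    exact hτ1 ((hφ τ).2 ⟨hr _ X.I_R, hr _ X.J_R⟩)
  · exact hP ▸ hY.inv P τ (X.norm_R_le hF τ.2) (X.mem_X.1 (X.norm_R_le_X hF τ.2)) (X.invert hτH hC h2)

end CL.Hay.TF

namespace CL.Hay

universe u v

theorem twoThm : TwoThm.{u, v} := fun _ _ _ _ _ _ X hF hY => TF.exists_two X hF hY

end CL.Hay
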