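/-
Project HAY, part 1B: `t` is isolated.
-/
import Cfsg.Agent.Hay.Two

set_option autoImplicit false
set_option linter.unusedSectionVars false

open Subgroup Matrix CL.Grp
open scoped MatrixGroups commutatorElement Pointwise

namespace CL.Hay.TF

variable {G : Type*} [Group G] {F : Type*} [Field F] (X : Loc G F) [Fintype F] (hF : Fq F) [Finite G]
include hF

omit hF in
/-- if all squares lie in `⟨t⟩`, so do all commutators. -/
theorem comm_mem {A : Subgroup G} (hA : A ≤ X.X₀) (h : ∀ x ∈ A, x * x ∈ zpowers X.t) {r s : G} (hr : r ∈ A) (hs : s ∈ A) :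
    ⁅r, s⁆ ∈ zpowers X.t := by
  have h2 := inv_mem (h _ hr)
  have := mul_mem (mul_mem (h _ (mul_mem hr hs)) (inv_mem (h _ hs))) h2
  have c3 : Commute s (r * r)⁻¹ := comm_T X (X.mem_X.1 (hA hs)) h2
  convert this using 1
  calc _ = r * s * r * ((r * r)⁻¹ * s⁻¹) := by rw [commutatorElement_def]; group
    _ = r * s * (r * s) * (s * s)⁻¹ * (r * r)⁻¹ := by rw [← c3.inv_left.eq]; group

/-- an element with square `t` does not commute with its image under a fixed point free element of order `3`. -/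
theorem mul_conj {A : Subgroup G} (hA : A ≤ X.X₀) (h : ∀ x ∈ A, x * x ∈ zpowers X.t) {σ : G} (h3 : σ ^ 3 = 1)
    (ht : Commute σ X.t) (hn : σ ∈ normalizer (A : Set G)) (fpf : ∀ x ∈ A, ⁅σ, x⁆ ∈ zpowers X.t → x ∈ zpowers X.t)
    {x : G} (hx : x ∈ A) (h2 : x * x = X.t) : x * (σ * x * σ⁻¹) = X.t * (σ * x * σ⁻¹ * x) := by
  have hy := (mem_normalizer_iff.1 hn _).1 hx
  have hz := (mem_normalizer_iff.1 hn _).1 hy
  have sq : ∀ {a : G}, a * a = X.t → σ * a * σ⁻¹ * (σ * a * σ⁻¹) = X.t := fun {a} e => by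
    calc _ = σ * (a * a) * σ⁻¹ := by group
      _ = _ := by rw [e, ht.eq, mul_inv_cancel_right]
  have e3 : σ * (σ * (σ * x * σ⁻¹) * σ⁻¹) * σ⁻¹ = x := by
    calc _ = σ ^ 3 * x * (σ ^ 3)⁻¹ := by simp [pow_three, mul_assoc]
      _ = x := by rw [h3]; group
  have y2 := sq h2
  have z2 := sq y2
  set y := σ * x * σ⁻¹ with ey
  set z := σ * y * σ⁻¹ with ez
  have hw : x * y * z ∈ zpowers X.t := fpf _ (mul_mem (mul_mem hx hy) hz) (by
    have := comm_mem X hA h (mul_mem hy hz) hx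
    convert this using 1
    calc _ = σ * x * σ⁻¹ * (σ * y * σ⁻¹) * (σ * z * σ⁻¹) * (x * y * z)⁻¹ := by rw [commutatorElement_def]; group
      _ = _ := by rw [e3, ← ey, ← ez, commutatorElement_def]; group)
  rcases X.mem_zpowers_t.1 (comm_mem X hA h hx hy) with e | e
  · exfalso
    have c := commutatorElement_eq_one_iff_commute.1 e
    have e1 : x * y * (x * y) = 1 := by rw [c.symm.mul_mul_mul_comm, h2, y2, X.t_sq]
    have cz := comm_T X (X.mem_X.1 (hA hz)) hw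
    have e2 : x * y * z * (x * y * z) = X.t := by
      calc _ = x * y * (z * (x * y * z)) := by group
        _ = x * y * (x * y) * (z * z) := by rw [cz.eq]; group
        _ = _ := by rw [e1, z2, one_mul]
    exact not_T X hF e2 hw
  · rw [← e, commutatorElement_def]; group

theorem R_inf_Y {x : G} (hR : x ∈ X.R) (hY : x ∈ X.Y) : x ∈ zpowers X.t := by
  obtain ⟨g, rfl⟩ := X.R_le_L hR
  have hg := X.mem_Y.1 hY
  exact X.mem_zpowers_t.2 ((hF.eq_of_comm (X.ll_inj (by simpa [Loc.I] using hg.1.eq))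
    (X.ll_inj (by simpa [Loc.J] using hg.2.eq))).imp (fun e => by rw [e, map_one]) fun e => by rw [e, Loc.t])

variable {X} {S R' : Subgroup G} {b : G} (h : X.Two S R' b)
include h

theorem S_X : S ≤ X.X₀ := h.syl.le.trans (X.norm_R_le_X hF)
omit hF in
theorem R'_S : R' ≤ S := fun x hx => ((h.mem x).1 hx).1
omit hF in
theorem R'_Y : R' ≤ X.Y := fun x hx => ((h.mem x).1 hx).2
theorem t_R' : X.t ∈ R' := (h.mem _).2 ⟨R_le X hF h.syl X.t_R, X.t_Y⟩
theorem conj_R' {s x : G} (hs : s ∈ S) (hx : x ∈ R') : s * x * s⁻¹ ∈ R' :=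
  (h.mem _).2 ⟨mul_mem (mul_mem hs (R'_S h hx)) (inv_mem hs),
    (mem_normalizer_iff.1 (X.norm_R_le hF (h.syl.le hs)) _).1 (R'_Y h hx)⟩

omit hF in
theorem mem_S0 {x : G} (hx : x ∈ X.R ⊔ R') : ∃ r ∈ X.R, ∃ r' ∈ R', x = r * r' := by
  have : x ∈ ((X.R ⊔ R' : Subgroup G) : Set G) := hx
  rw [coe_mul_of_right_le_normalizer_left _ _ ((R'_Y h).trans (Y_le_N X))] at this
  obtain ⟨r, hr, r', hr', e⟩ := this
  exact ⟨r, hr, r', hr', e.symm⟩

theorem S0_le : X.R ⊔ R' ≤ S := sup_le (R_le X hF h.syl) (R'_S h)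

theorem S0_sq : ∀ x ∈ X.R ⊔ R', x * x ∈ zpowers X.t := fun x hx => by
  obtain ⟨r, hr, r', hr', rfl⟩ := mem_S0 h hx
  rw [(X.Y_comm (R'_Y h hr') hr).mul_mul_mul_comm]
  exact mul_mem (X.R_sq' hF hr) (h.sq _ hr')

theorem inv_mul_S0 {x y : G} (hx : x ∈ S) (hy : y ∈ S) (hx' : x ∉ X.R ⊔ R') (hy' : y ∉ X.R ⊔ R') : x⁻¹ * y ∈ X.R ⊔ R' := by
  rcases h.out with e | ⟨τ, -, -, -, -, h5, -⟩
  · exact absurd (e ▸ hx) hx'
  · simpa [mul_assoc] using mul_mem (inv_mem ((h5 x hx).resolve_left hx')) ((h5 y hy).resolve_left hy')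

/-- a proper subgroup of `R'` has order at most `4`. -/
theorem small {E : Subgroup G} (hT : zpowers X.t ≤ E) (hE : E ≤ R') (hne : ¬ R' ≤ E) {c d : G} (hc : c ∈ E) (hd : d ∈ E)
    (hc' : c ∉ zpowers X.t) (hd' : d ∉ zpowers X.t) : c * d ∈ zpowers X.t := by
  have h1 := relIndex_mul_relIndex _ _ _ hT hE
  have h2 : (zpowers X.t).relIndex R' = 4 := by
    have := ((zpowers X.t).subgroupOf R').card_mul_index
    rw [Nat.card_congr (subgroupOfEquivOfLe (hT.trans hE)).toEquiv, Nat.card_zpowers, X.orderOf_t hF, h.card] at this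
    unfold relIndex; omega
  have h3 : (zpowers X.t).relIndex E ≠ 1 := fun e => hc' (relIndex_eq_one.1 e hc)
  have h4 : E.relIndex R' ≠ 1 := fun e => hne (relIndex_eq_one.1 e)
  have h5 : (zpowers X.t).relIndex E = 2 := by
    rw [h2] at h1
    have : (zpowers X.t).relIndex E ≤ 4 := Nat.le_of_dvd (by decide) (Dvd.intro _ h1)
    interval_cases (zpowers X.t).relIndex E <;> omega
  exact (mul_mem_iff_of_index_two h5 (a := ⟨c, hc⟩) (b := ⟨d, hd⟩)).2 (iff_of_false hc' hd')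

/-- (B): the conjugates of `t` in `S` lie in `R R'`. -/
theorem conj_mem_S0 (hO : X.Out) {s : G} (hs : s ∈ S) (hc : IsConj s X.t) : s ∈ X.R ⊔ R' := by
  by_contra hs'
  rcases h.out with e | ⟨τ, hτ, hH, hC, h2, h5, -, x, hx, hx'⟩
  · exact hs' (e ▸ hs)
  have ct : ∀ {a : G}, a ∈ S → Commute a X.t := fun ha => X.mem_X.1 (S_X hF h ha)
  have s2 : s * s = 1 := by
    obtain ⟨g, e⟩ := isConj_iff.1 hc.symm
    rw [← e]
    calc _ = g * (X.t * X.t) * g⁻¹ := by group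
      _ = 1 := by rw [X.t_sq]; group
  obtain ⟨r, hr, r', hr', e⟩ := mem_S0 h ((h5 s hs).resolve_left hs')
  obtain rfl : s = τ * (r * r') := by rw [← e]; group
  have fin : ∀ y ∈ R', τ⁻¹ * (y * (τ * (r * r')) * y⁻¹) ∈ X.R → False := fun y hy hR => by
    have hRC := (X.R_le_L.trans X.L_le_C) hR
    have := hO (y * (τ * (r * r')) * y⁻¹) (by simpa using mul_mem hH (X.C_le_H hRC))
      (ct (mul_mem (mul_mem (R'_S h hy) hs) (inv_mem (R'_S h hy)))) ((isConj_iff.2 ⟨y, rfl⟩).symm.trans hc)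
    exact hC (by simpa [mul_assoc] using mul_mem this (inv_mem hRC))
  let E : Subgroup G :=
    { carrier := {y | y ∈ R' ∧ τ⁻¹ * y * τ * y⁻¹ ∈ zpowers X.t}
      one_mem' := ⟨one_mem _, by simp⟩
      mul_mem' := fun {y z} hy hz => ⟨mul_mem hy.1 hz.1, by
        have := mul_mem hy.2 ((conj_mem_T X (ct (R'_S h hy.1))).2 hz.2)
        convert this using 1; group⟩
      inv_mem' := fun {y} hy => ⟨inv_mem hy.1, by
        have := (conj_mem_T X (ct (R'_S h hy.1)).inv_left).2 (inv_mem hy.2)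
        convert this using 1; group⟩ }
  have hτ' : ∀ y ∈ R', τ⁻¹ * y * τ ∈ R' := fun y hy => by simpa using conj_R' hF h (inv_mem hτ) hy
  have hTE : zpowers X.t ≤ E := zpowers_le.2 ⟨t_R' hF h, by
    rw [mul_assoc _ X.t, ← (ct hτ).eq]; simp⟩
  have hxE : τ⁻¹ * x * τ * x⁻¹ ∉ zpowers X.t := fun e => hx' (by
    have := inv_mem ((conj_mem_T X (ct hτ)).2 e)
    convert this using 1; rw [commutatorElement_def]; group)
  have hc' : τ⁻¹ * x * τ * x⁻¹ ∈ R' := mul_mem (hτ' x hx) (inv_mem hx)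
  have hcE : τ⁻¹ * x * τ * x⁻¹ ∈ E := ⟨hc', by
    have c := (X.Y_comm (R'_Y h hx) h2).eq
    have := h.sq _ (inv_mem hc')
    convert this using 1
    calc _ = (τ * τ)⁻¹ * (x * (τ * τ)) * τ⁻¹ * x⁻¹ * τ * (τ⁻¹ * x * τ * x⁻¹)⁻¹ := by group
      _ = _ := by rw [c]; group⟩
  have hrE : r' ∈ E := ⟨hr', by
    have hrτ : τ⁻¹ * r * τ ∈ X.R := by simpa using (mem_normalizer_iff.1 (h.syl.le (inv_mem hτ)) r).1 hr
    have e1 : τ⁻¹ * r' * τ * r' = (τ * τ * (τ⁻¹ * r * τ) * r)⁻¹ := by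
      refine eq_inv_of_mul_eq_one_right ?_
      calc _ = τ * r * τ * (r * (τ⁻¹ * r' * τ)) * r' := by group
        _ = _ := by rw [← (X.Y_comm (R'_Y h (hτ' _ hr')) hr).eq, ← s2]; group
    have := R_inf_Y X hF (e1 ▸ inv_mem (mul_mem (mul_mem h2 hrτ) hr)) (R'_Y h (mul_mem (hτ' _ hr') hr'))
    convert mul_mem this (inv_mem (h.sq _ hr')) using 1; group⟩
  have TR : zpowers X.t ≤ X.R := zpowers_le.2 X.t_R
  by_cases h0 : r' ∈ zpowers X.t
  · exact fin 1 (one_mem _) (by simpa using mul_mem hr (TR h0))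
  have h1 := small hF h hTE (fun y hy => hy.1) (fun hle => hxE (hle hx).2) hcE hrE hxE h0
  refine fin x hx ?_
  have c1 := X.Y_comm (R'_Y h hx) hr
  have c2 := X.Y_comm (R'_Y h hc') hr
  have h3 := comm_mem X ((R'_S h).trans (S_X hF h)) h.sq hx hr'
  generalize hcc : τ⁻¹ * x * τ * x⁻¹ = c at h1 c2 hc'
  have h4 := (conj_mem_T X (ct (R'_S h hc'))).2 h3
  convert mul_mem hr (TR (mul_mem h4 h1)) using 1
  calc _ = (τ⁻¹ * x * τ * x⁻¹) * (x * r) * r' * x⁻¹ := by group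
    _ = c * r * x * r' * x⁻¹ := by rw [hcc, c1.eq]; group
    _ = _ := by rw [c2.eq, commutatorElement_def]; group

theorem isolated (hO : X.Out) (hS : IsSylowIn 2 S X.X₀) : Cfsg.IsIsolatedInvolution X.t := by
  have ct : ∀ {a : G}, a ∈ S → Commute a X.t := fun ha => X.mem_X.1 (S_X hF h ha)
  have key : ∀ s ∈ S, ∀ g₀ : G, g₀ * s * g₀⁻¹ = X.t → s = X.t := fun s hs g₀ e₀ => by
    have hc : IsConj s X.t := isConj_iff.2 ⟨g₀, e₀⟩
    obtain ⟨k, hk, hle⟩ := hS.exists_conj_le (U := MulAut.conj g₀ • (S ⊓ centralizer {s}))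
      (IsPGroup.conj_smul (hS.isPGroup.to_le inf_le_left) g₀) ((conj_smul_le_iff ..).2 fun x hx => X.mem_X.2 (by
        rw [← e₀]; exact (show Commute x s from mem_centralizer_singleton_iff.1 hx.2).map (MulAut.conj g₀)))
    rw [conj_smul_conj_smul, conj_smul_le_iff] at hle
    have e : k * g₀ * s * (k * g₀)⁻¹ = X.t := by
      calc _ = k * (g₀ * s * g₀⁻¹) * k⁻¹ := by group
        _ = _ := by rw [e₀, (X.mem_X.1 hk).eq, mul_inv_cancel_right]
    generalize k * g₀ = g at hle e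
    have hle' : ∀ d ∈ S, Commute d s → g * d * g⁻¹ ∈ S := fun d hd c => hle d ⟨hd, mem_centralizer_singleton_iff.2 c⟩
    suffices hT : g * X.t * g⁻¹ ∈ zpowers X.t by
      rcases X.mem_zpowers_t.1 hT with e1 | e1
      · exact absurd (by simpa using e1) (X.t_ne hF)
      · exact (MulAut.conj g).injective (e.trans e1.symm)
    have sq : ∀ x, x * x = X.t → g * x * g⁻¹ ∈ X.R ⊔ R' → g * X.t * g⁻¹ ∈ zpowers X.t := fun x e hx => by
      convert S0_sq hF h _ hx using 1; rw [← e]; group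
    obtain ⟨r, hr, r', hr', rfl⟩ := mem_S0 h (conj_mem_S0 hF h hO hs hc)
    have RS := R_le X hF h.syl
    rcases X.R_sq hF hr with h0 | h0
    · have c : ∀ x ∈ X.R, Commute x (r * r') := fun x hx =>
        (comm_T X (X.R_comm_t hF hx) h0).mul_right (X.Y_comm (R'_Y h hr') hx).symm
      by_cases h1 : g * X.I * g⁻¹ ∈ X.R ⊔ R'
      · exact sq _ X.I_sq h1
      by_cases h2 : g * X.J * g⁻¹ ∈ X.R ⊔ R'
      · exact sq _ X.J_sq h2
      have h3 := inv_mul_S0 hF h (hle' _ (RS X.I_R) (c _ X.I_R)) (hle' _ (RS X.J_R) (c _ X.J_R)) h1 h2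
      refine sq (X.I⁻¹ * X.J) ((X.R_sq hF (mul_mem (inv_mem X.I_R) X.J_R)).resolve_left fun e => ?_) (by
        convert h3 using 1; group)
      exact absurd (ee_inj X hF (i := 0) (j := 1) e) (by decide)
    have s2 : r * r' * (r * r') = 1 := (MulAut.conj g).injective (by
      rw [map_mul, map_one]; exact (congrArg₂ (· * ·) e e).trans X.t_sq)
    have h0' : r' * r' = X.t := by
      rw [(X.Y_comm (R'_Y h hr') hr).mul_mul_mul_comm, h0] at s2
      exact (eq_inv_of_mul_eq_one_right s2).trans X.t_inv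
    obtain ⟨k, hk, a, -, eb⟩ := h.conj
    have hbY : b ∈ X.Y := eb ▸ mul_mem (mul_mem hk (X.Z_le_Y (X.zz_mem a))) (inv_mem hk)
    have b3 : b ^ 3 = 1 := by rw [eb, conj_pow, X.zz_pow hF]; group
    have mR := fun x => mul_conj X hF (X.R_le_L.trans X.L_le_X) (fun _ => X.R_sq' hF) (X.ρ_pow hF) (X.ll_t _) (X.ρ_mem hF)
      (fun _ => X.ρ_fpf hF) (x := x)
    have mR' := mul_conj X hF ((R'_S h).trans (S_X hF h)) h.sq b3 (X.mem_X.1 (X.Y_le_X hbY)) h.nor h.fpf hr' h0'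
    have hu : X.ρ * r * X.ρ⁻¹ ∈ X.R := (mem_normalizer_iff.1 (X.ρ_mem hF) _).1 hr
    have hv : X.ρ⁻¹ * r * X.ρ⁻¹⁻¹ ∈ X.R := (mem_normalizer_iff.1 (inv_mem (X.ρ_mem hF)) _).1 hr
    have hu' : b * r' * b⁻¹ ∈ R' := (mem_normalizer_iff.1 h.nor _).1 hr'
    have ρt : Commute X.ρ X.t := X.ll_t _
    have sqc : ∀ σ : G, Commute σ X.t → σ * r * σ⁻¹ * (σ * r * σ⁻¹) = X.t := fun σ c => by
      calc _ = σ * (r * r) * σ⁻¹ := by group
        _ = _ := by rw [h0, c.eq, mul_inv_cancel_right]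
    have m1 := mR r hr h0
    have m2 := mR _ hu (sqc _ ρt)
    have m3 := mR _ hv (sqc _ ρt.inv_left)
    rw [show X.ρ * (X.ρ * r * X.ρ⁻¹) * X.ρ⁻¹ = X.ρ⁻¹ * r * X.ρ⁻¹⁻¹ by
      calc _ = X.ρ⁻¹ * (X.ρ ^ 3 * r * (X.ρ ^ 3)⁻¹) * X.ρ⁻¹⁻¹ := by simp [pow_three, mul_assoc]
        _ = _ := by rw [X.ρ_pow hF]; group] at m2
    rw [show X.ρ * (X.ρ⁻¹ * r * X.ρ⁻¹⁻¹) * X.ρ⁻¹ = r by group] at m3
    have cj : ∀ σ : G, (∀ y ∈ X.Y, Commute σ y) → IsConj (σ * r * σ⁻¹ * (b * r' * b⁻¹)) X.t := fun σ c => by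
      refine IsConj.trans (isConj_iff.2 ⟨σ * b, ?_⟩).symm hc
      calc _ = σ * (b * r) * r' * b⁻¹ * σ⁻¹ := by group
        _ = σ * r * (b * r' * b⁻¹ * σ⁻¹) := by rw [(X.Y_comm hbY hr).eq]; group
        _ = _ := by rw [← (c _ (R'_Y h hu')).inv_left.eq]; group
    have j1 := cj _ h.rho
    have j2 := cj _ fun y hy => (h.rho y hy).inv_left
    generalize X.ρ * r * X.ρ⁻¹ = u at *
    generalize X.ρ⁻¹ * r * X.ρ⁻¹⁻¹ = v at *
    generalize b * r' * b⁻¹ = u' at *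
    have pr : ∀ {a c a' c' : G}, c ∈ X.R → a' ∈ R' → a * a' * (c * c') = a * c * (a' * c') := fun hc ha' =>
      (X.Y_comm (R'_Y h ha') hc).mul_mul_mul_comm _ _
    have tt : ∀ {a c : G}, a ∈ X.R → X.t * a * (X.t * c) = a * c := fun ha => by
      rw [(X.R_comm_t hF ha).mul_mul_mul_comm, X.t_sq, one_mul]
    have d1 : g * (u * u') * g⁻¹ ∈ X.R ⊔ R' := conj_mem_S0 hF h hO (hle' _ (mul_mem (RS hu) (R'_S h hu')) (by
      rw [Commute, SemiconjBy, pr hr hu', pr hu hr', m1, mR', tt (mul_mem hu hr)])) ((isConj_iff.2 ⟨g, rfl⟩).symm.trans j1)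
    have d2 : g * (v * u') * g⁻¹ ∈ X.R ⊔ R' := conj_mem_S0 hF h hO (hle' _ (mul_mem (RS hv) (R'_S h hu')) (by
      rw [Commute, SemiconjBy, pr hr hu', pr hv hr', m3, mR', ← (X.R_comm_t hF (mul_mem hr hv)).eq,
        mul_assoc])) ((isConj_iff.2 ⟨g, rfl⟩).symm.trans j2)
    convert comm_mem X ((S0_le hF h).trans (S_X hF h)) (S0_sq hF h) d1 d2 using 1
    rw [← conjugate_commutatorElement, commutatorElement_def, pr hv hu', m2, mul_assoc X.t, ← pr hu hu']; group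
  refine ⟨X.orderOf_t hF, fun g hg => ?_⟩
  obtain ⟨k, hk, hle⟩ := hS.exists_conj_le (U := zpowers (g * X.t * g⁻¹)) (IsPGroup.of_card (n := 1) (by
    rw [Nat.card_zpowers, ← MulAut.conj_apply, MulEquiv.orderOf_eq, X.orderOf_t hF, pow_one])) (zpowers_le.2 (X.mem_X.2 hg.symm))
  have := key _ (hle (conj_mem_conj_smul k (mem_zpowers _))) (k * g)⁻¹ (by group)
  calc _ = k⁻¹ * (k * (g * X.t * g⁻¹) * k⁻¹) * k := by group
    _ = _ := by rw [this, mul_assoc, ← (X.mem_X.1 hk).eq, inv_mul_cancel_left]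

end CL.Hay.TF

namespace CL.Hay

universe u v

theorem fusThm : FusThm.{u, v} := fun _ _ _ _ _ _ _ hF hO _ _ _ h hS => TF.isolated hF h hO hS

end CL.Hay
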