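/-
Project HAY, part I1: the Sylow `3`-subgroup of `C(t)` in the `3`-closed case.
-/
import Cfsg.Agent.Hay.Defs2
import Cfsg.Agent.Cit.CentBase
import Cfsg.Agent.Even.ParChar
import Cfsg.Agent.Grp.Coprime2

set_option autoImplicit false

open Subgroup Matrix CL.Grp CL.Even
open scoped MatrixGroups commutatorElement

namespace CL.Hay

universe u v

variable {G : Type*} [Group G] {F : Type*} [Field F]

theorem i1_uu [Fintype F] (hF : Fq F) {g : SL(2, F)} {d : F} {k : ℕ} (h : g * uu 1 = uu d * g) (hk : g ^ 3 ^ k = 1) :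
    g = uu (g.1 0 1) := by
  have a := congrArg (fun x : SL(2, F) => x.1 1 1) h
  have e := g.det_coe
  simp [uu_val, Matrix.mul_apply, Fin.sum_univ_two] at a
  have h1 : ∀ n : ℕ, (g ^ n).1 1 0 = 0 ∧ (g ^ n).1 0 0 = g.1 0 0 ^ n := fun n => by
    induction n with
    | zero => simp
    | succ n ih => rw [pow_succ, val_mul, pow_succ]; simp only [Matrix.mul_apply, Fin.sum_univ_two, ih, a]; simp
  have : CharP F 3 := (CharP.charP_iff_prime_eq_zero Nat.prime_three).2 (by exact_mod_cast hF.three)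
  have h2 := (ExpChar.pow_prime_pow_mul_eq_one_iff 3 k 1 (g.1 0 0)).1 (by rw [mul_one, ← (h1 _).2, hk]; simp)
  rw [pow_one] at h2
  rw [det_fin_two, a, h2] at e
  ext i j; fin_cases i <;> fin_cases j <;> simp [uu_val, a, h2]
  linear_combination e

namespace Loc

variable (X : Loc G F)

theorem zu_mul (a b d e : F) :
    X.zz a * X.ll (uu d) * (X.zz b * X.ll (uu e)) = X.zz (a + b) * X.ll (uu (d + e)) := by
  rw [X.zz_add, ← uu_mul, map_mul, mul_assoc, ← mul_assoc (X.ll _), ← (X.zz_ll b _).eq]; group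

/-- `Z U` -/
def ZU : Subgroup G where
  carrier := {x | ∃ a d, x = X.zz a * X.ll (uu d)}
  mul_mem' := by rintro _ _ ⟨a, d, rfl⟩ ⟨b, e, rfl⟩; exact ⟨_, _, X.zu_mul ..⟩
  one_mem' := ⟨0, 0, by rw [X.zz_zero, uu_zero, map_one, mul_one]⟩
  inv_mem' := by
    rintro _ ⟨a, d, rfl⟩
    exact ⟨-a, -d, inv_eq_of_mul_eq_one_right (by rw [zu_mul]; simp [zz_zero, uu_zero])⟩

theorem zz_ZU (a : F) : X.zz a ∈ X.ZU := ⟨a, 0, by rw [uu_zero, map_one, mul_one]⟩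

theorem ll_ZU (d : F) : X.ll (uu d) ∈ X.ZU := ⟨0, d, by rw [X.zz_zero, one_mul]⟩

theorem ZU_M {x : G} (h : x ∈ X.ZU) : x ∈ X.M :=
  let ⟨a, d, e⟩ := h
  ⟨a, 0, d, by rw [show (![0, 0] : Fin 2 → F) = 0 by simp, X.qq_zero, mul_one, e]⟩

theorem ZU_comm {x y : G} (hx : x ∈ X.ZU) (hy : y ∈ X.ZU) : Commute x y := by
  obtain ⟨a, d, rfl⟩ := hx
  obtain ⟨b, e, rfl⟩ := hy
  rw [commute_iff_eq, zu_mul, zu_mul, add_comm a, add_comm d]

theorem ZU_le_X : X.ZU ≤ X.X₀ := by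
  rintro _ ⟨a, d, rfl⟩
  exact mul_mem (X.Z_le_X (X.zz_mem a)) (X.L_le_X (X.ll_mem _))

variable [Fintype F] (hF : Fq F)
include hF

theorem ZU_pow {x : G} (h : x ∈ X.ZU) : x ^ 3 = 1 := by
  obtain ⟨a, d, rfl⟩ := h
  rw [(X.zz_ll a _).mul_pow, X.zz_pow hF, ← map_pow, hF.uu_pow, map_one, mul_one]

theorem not_isCyclic_Z : ¬ IsCyclic X.Z := fun h => by
  obtain ⟨⟨z, hz⟩, e⟩ := IsCyclic.exists_ofOrder_eq_natCard (α := X.Z)
  obtain ⟨a, rfl⟩ := X.mem_Z.1 hz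
  have := Nat.le_of_dvd three_pos (orderOf_dvd_of_pow_eq_one (X.zz_pow hF a))
  rw [orderOf_mk, card_Z, Nat.card_eq_fintype_card] at e
  have := hF.card_ge
  omega

theorem eq_ZU {a d : F} (hd : d ≠ 0) {x : G} (hC : x ∈ X.C) (ht : x ∈ X.X₀) (h : Commute x (X.zz a * X.ll (uu d))) :
    ∃ y ∈ X.ZU, x = y ∨ x = y * X.t := by
  obtain ⟨b, g, rfl⟩ := X.mem_CX hF hC (X.mem_X.1 ht)
  have h1 := ((X.ZU_comm (X.zz_ZU (-b)) ⟨a, d, rfl⟩).mul_left h).symm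
  rw [X.zz_neg, inv_mul_cancel_left] at h1
  have h2 := (X.zz_ll (-a) g).mul_left h1
  rw [X.zz_neg, inv_mul_cancel_left] at h2
  obtain ⟨c, rfl | rfl⟩ := comm_uu hd (Commute.of_map X.ll_inj h2).symm
  exacts [⟨_, ⟨b, c, rfl⟩, Or.inl rfl⟩, ⟨_, ⟨b, c, rfl⟩, Or.inr (by rw [(neg_comm _).eq, map_mul, mul_assoc]; rfl)⟩]

variable (hS : X.SC)
include hS

theorem mem_H_of_M {g : G} {a : F} (ha : a ≠ 0) (h : g * X.zz a * g⁻¹ ∈ X.M) : g ∈ X.H :=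
  let ⟨_, hn, e⟩ := hS _ (X.ZU_M (X.zz_ZU a)) _ h (isConj_iff.2 ⟨g, rfl⟩)
  let ⟨_, e'⟩ := X.H_zz hn a
  X.mem_H_of hF (e.symm.trans e') ha

variable [Finite G]

theorem sylow_ZU : IsSylowIn 3 X.ZU X.X₀ := by
  refine isSylowIn_of_normalizer hF X.ZU_le_X (fun x => ⟨1, Subtype.ext (X.ZU_pow hF x.2)⟩) fun U hU h1 h2 h3 x hx => ?_
  obtain ⟨a, g, rfl⟩ := X.mem_CX hF (X.three_le_C hF hU (fun u hu => X.mem_H_of_M hF hS one_ne_zero
    (X.ZU_M (conj_mem (h3 hu) (X.zz_ZU 1)))) hx) (X.mem_X.1 (h2 hx))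
  have h4 := (U.mul_mem_cancel_left (h1 (X.zz_ZU a))).1 hx
  obtain ⟨b, d, e⟩ := conj_mem (h3 h4) (X.ll_ZU 1)
  obtain ⟨k, hk⟩ := isPGroup_iff_forall.1 hU _ h4
  rw [← map_inv, ← map_mul, ← map_mul, ← one_mul (X.ll _), ← X.zz_zero] at e
  exact ⟨a, _, by rw [← i1_uu hF (mul_inv_eq_iff_eq_mul.1 (X.zl_inj e).2)
    (X.ll_inj (by rw [map_pow, hk, map_one]))]⟩

theorem out_of : X.Out := fun s hs ht hc => by_contra fun hC => by
  obtain ⟨c, hc⟩ := isConj_iff.1 hc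
  have s2 : s * s = 1 := by
    calc _ = c⁻¹ * (c * s * c⁻¹ * (c * s * c⁻¹)) * c := by group
      _ = _ := by rw [hc, X.t_sq]; group
  obtain ⟨f, h1, h2⟩ := X.exists_f hF hs ht
  obtain ⟨w, w0, hw⟩ : ∃ w, w ≠ 0 ∧ f w = w := by
    by_cases e : ∀ v, f v = -v
    · have := h2 ![1, 0] ![0, 1]
      rw [X.invert hs hC (s2 ▸ one_mem _), e, e] at this
      exact absurd (by simpa using (X.zz_inj this).symm) hF.one_ne_neg
    obtain ⟨v, hv⟩ := not_forall.1 e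
    refine ⟨f v + v, fun e => hv (eq_neg_of_add_eq_zero_left e), ?_⟩
    rw [map_add, add_comm, X.qq_inj (show X.qq (f (f v)) = X.qq v by
      rw [← h1, ← h1, ← mul_assoc, ← mul_assoc, s2, mul_assoc, ← _root_.mul_inv_rev, s2]; simp)]
  have h3 : Commute (X.qq w) s := (mul_inv_eq_iff_eq_mul.1 ((h1 w).trans (congrArg _ hw))).symm
  obtain ⟨k, -, hk⟩ := (X.sylow_ZU hF hS).exists_conj_le (U := zpowers (c * X.qq w * c⁻¹))
    (isPGroup_zpowers (k := 1) (by rw [pow_one, conj_pow, X.Q_pow hF (X.qq_Q w)]; simp))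
    (zpowers_le.2 (X.mem_X.2 (hc ▸ h3.map (MulAut.conj c))))
  obtain ⟨g, hg⟩ := exists_mulVec w0
  have h4 := hk (conj_mem_conj_smul k (mem_zpowers _))
  obtain ⟨n, hn, e⟩ := hS (X.qq ![1, 0]) ⟨0, 1, 0, by rw [uu_zero, ← X.qq_eq]⟩ _ (X.ZU_M h4)
    (isConj_iff.2 ⟨k * c * (X.ll g)⁻¹, by rw [← hg, ← X.ll_qq]; group⟩)
  obtain ⟨a, d, e1⟩ := h4
  obtain ⟨b, v, e2⟩ := X.mem_Q.1 (X.H_conj_Q hF hn (X.qq_Q ![1, 0]))
  have e3 := (X.coord_inj ((X.zl_eq a _).symm.trans (e1.symm.trans (e.symm.trans (e2.trans (X.zq_eq b v)))))).2.1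
  obtain ⟨b', e4⟩ := X.H_zz (inv_mem hn) b
  rw [← e3, X.qq_zero, mul_one] at e2
  rw [← e2, inv_inv, ← mul_assoc, ← mul_assoc, inv_mul_cancel, one_mul, inv_mul_cancel_right] at e4
  simpa using (X.coord_inj ((X.qq_eq _).symm.trans (e4.trans (X.zz_eq b')))).2.1

theorem t3_of : X.T3 := fun a d ha hd x hx h1 h3 => by
  set D := X.X₀ ⊓ centralizer {X.zz a * X.ll (uu d)}
  have hle : X.ZU ≤ D := le_inf X.ZU_le_X fun y hy => mem_cent_singleton.2 (X.ZU_comm hy ⟨a, d, rfl⟩)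
  have h4 := hasNormalPComplement_iff_coprime_pResidual.1 (CL.Cit.npc_of_burnside
    ((X.sylow_ZU hF hS).of_le hle inf_le_left) fun g hg hn y hy => by
      have gH := X.mem_H_of_M hF hS one_ne_zero (X.ZU_M (conj_mem hn (X.zz_ZU 1)))
      obtain ⟨b, e1⟩ := X.H_zz gH a
      obtain ⟨k, e2⟩ := X.HX_conj_L hF gH (X.mem_X.1 hg.1) (uu d)
      have e3 : X.zz b * X.ll k = X.zz a * X.ll (uu d) := by
        rw [← e1, ← e2, ← mul_inv_eq_iff_eq_mul.2 (mem_cent_singleton.1 hg.2)]; group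
      obtain ⟨z, hz, rfl | rfl⟩ := X.eq_ZU hF hd ((X.mem_C_iff ha).2 (mul_inv_eq_iff_eq_mul.1
        (e1.trans (congrArg _ (X.zl_inj e3).1)))) hg.1 (mem_cent_singleton.1 hg.2)
      exacts [X.ZU_comm hy hz, (X.ZU_comm hy hz).mul_right (X.mem_X.1 (X.ZU_le_X hy))])
  rw [← card_map_of_injective D.subtype_injective, res_def] at h4
  have : IsMulCommutative X.Z := ⟨⟨fun y z => by
    obtain ⟨a, e⟩ := X.mem_Z.1 y.2
    exact Subtype.ext (show y.1 * z.1 = z.1 * y.1 from e ▸ (X.C_comm (X.Z_le_C z.2) a).symm.eq)⟩⟩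
  obtain ⟨m, hm⟩ := hF.card_pow
  have h5 := (Nat.prime_three.coprime_iff_not_dvd.2 h3).symm
  have h6 := le_of_forall_centralizer_le (X.not_isCyclic_Z hF) (M := X.C) (fun z hz => by
      obtain ⟨a, rfl⟩ := X.mem_Z.1 hz
      exact self_le_norm_res D (hle (X.zz_ZU a)))
    (by rw [card_Z, Nat.card_eq_fintype_card, hm]; exact h4.symm.pow_left m) (fun z hz z1 => by
      obtain ⟨a, rfl⟩ := X.mem_Z.1 hz
      rw [X.C_eq fun e => z1 (by rw [e, X.zz_zero])]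
      exact inf_le_right) (mem_res (L := D) ⟨hx, mem_cent_singleton.2 h1⟩ h5)
  refine mem_of_pow_mem_of_coprime h5 ?_
  obtain ⟨z, hz, rfl | rfl⟩ := X.eq_ZU hF hd h6 hx h1
  · exact X.ZU_pow hF hz ▸ one_mem _
  · rw [(X.mem_X.1 (X.ZU_le_X hz)).mul_pow, X.ZU_pow hF hz, one_mul]
    exact pow_mem (mem_zpowers _) 3

end Loc

theorem outThm : OutThm.{u, v} := fun _ _ _ _ _ _ X hF hS => X.out_of hF hS

theorem t3Thm : T3Thm.{u, v} := fun _ _ _ _ _ _ X hF hS => X.t3_of hF hS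

end CL.Hay
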