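/-
Project HAY: the case `C(R) ≤ N(Z)` and the case `O(G) ≠ 1`.
-/
import Cfsg.Agent.Hay.Defs2
import Cfsg.Agent.Fgs.FixCount
import Cfsg.Agent.Inv.ZStar
import Cfsg.Agent.Odd.FT
import Cfsg.Agent.Grp.Primitive
import Cfsg.Agent.Grp.Coprime2

set_option autoImplicit false
set_option linter.unusedSectionVars false

open Subgroup Matrix CL.Grp
open scoped MatrixGroups commutatorElement

namespace CL.Hay

universe u v

variable {G : Type u} [Group G] [Finite G] {F : Type v} [Field F]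

/-- conjugation action with constant point stabilisers -/
theorem relIndex_dvd_ncard {S K : Subgroup G} {s : Set G} (hs : ∀ g ∈ S, ∀ x ∈ s, g * x * g⁻¹ ∈ s)
    (h : ∀ g ∈ S, ∀ x ∈ s, g * x * g⁻¹ = x ↔ g ∈ K) : K.relIndex S ∣ s.ncard :=
  @Fgs.dvd_ncard_of_dvd_orbit S _ G (MulAction.compHom G (MulAut.conj.comp S.subtype)) _ _ s
    (fun g x hx => hs g g.2 x hx) fun x hx =>
      dvd_of_eq (congrArg Subgroup.index (Subgroup.ext fun g => (h g g.2 x hx).symm))

omit [Group G] [Finite G] [Field F] in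
theorem ncard_image_ne {A : Type*} [Finite A] {f : A → G} (hf : Function.Injective f) (a : A) :
    (f '' {a}ᶜ).ncard = Nat.card A - 1 := by
  rw [Set.ncard_image_of_injective _ hf, Set.ncard_compl, Set.ncard_singleton]

namespace Loc

variable (X : Loc G F) [Fintype F] (hF : Fq F)
include hF

/-- a `2`-subgroup of `H` induces a group of order at most two on `Z`. -/
theorem two_H {P : Subgroup G} (hP : IsPGroup 2 P) (hH : P ≤ X.H) {s s' : G} (hs : s ∈ P) (hs' : s' ∈ P) (h1 : s ∉ X.C)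
    (h2 : s' ∉ X.C) : s * s' ∈ X.C := by
  have hd := relIndex_dvd_ncard (S := P) (K := X.C) (s := X.zz '' {0}ᶜ) (by
    rintro g hg _ ⟨a, ha, rfl⟩
    obtain ⟨b, e⟩ := X.H_zz (hH hg) a
    exact ⟨b, X.conj_ne_zero e ha, e.symm⟩) (by
    rintro g - _ ⟨a, ha, rfl⟩
    rw [X.mem_C_iff ha, mul_inv_eq_iff_eq_mul]; rfl)
  rw [ncard_image_ne (fun _ _ => X.zz_inj), Nat.card_eq_fintype_card] at hd
  obtain ⟨n, hn⟩ := hP.index (X.C.subgroupOf P)
  have h4 := hF.card_mod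
  have h3 : (X.C.subgroupOf P).index = 2 := by
    rcases n with _ | _ | n
    · exact absurd ((index_eq_one.1 hn).ge (mem_top (⟨s, hs⟩ : P))) h1
    · exact hn
    · have := (Dvd.intro_left _ (show 2 ^ n * 4 = _ by rw [relIndex, hn]; ring)).trans hd
      omega
  exact (mul_mem_iff_of_index_two h3 (a := ⟨s, hs⟩) (b := ⟨s', hs'⟩)).2 (iff_of_false h1 h2)

theorem conj_zpowers_t {x u : G} (hx : Commute x X.t) (hu : u ∈ zpowers X.t) : x * u * x⁻¹ = u := by
  rcases X.mem_zpowers_t.1 hu with rfl | rfl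
  exacts [by group, by rw [hx.eq, mul_inv_cancel_right]]

/-- an involution normalising `R` and centralising an element of order `4` acts trivially on `R / ⟨t⟩`. -/
theorem comm_mem_of_invol {s r x : G} (hs : s ∈ normalizer (X.R : Set G)) (h2 : s * s = 1) (hr : r ∈ X.R)
    (hr2 : r * r = X.t) (hsr : s * r * s⁻¹ = r) (hx : x ∈ X.R) : ⁅s, x⁆ ∈ zpowers X.t := by
  let K : Subgroup G :=
    { carrier := {x | x ∈ X.R ∧ ⁅s, x⁆ ∈ zpowers X.t}
      one_mem' := ⟨one_mem _, by simp⟩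
      mul_mem' := fun {a b} ha hb => ⟨mul_mem ha.1 hb.1, by
        have := mul_mem ha.2 hb.2
        rw [← X.conj_zpowers_t hF (X.R_comm_t hF ha.1) hb.2] at this
        convert this using 1
        simp only [commutatorElement_def]; group⟩
      inv_mem' := fun {a} ha => ⟨inv_mem ha.1, by
        have := inv_mem ha.2
        rw [← X.conj_zpowers_t hF (X.R_comm_t hF ha.1).inv_left this] at this
        convert this using 1
        simp only [commutatorElement_def]; group⟩ }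
  by_contra hc
  have hcR : ⁅s, x⁆ ∈ X.R := mul_mem ((mem_normalizer_iff.1 hs x).1 hx) (inv_mem hx)
  have hc2 := (X.R_sq hF hcR).resolve_left hc
  have hinv : s * ⁅s, x⁆ * s⁻¹ = ⁅s, x⁆⁻¹ := by
    calc _ = s * s * x * s⁻¹ * x⁻¹ * s⁻¹ := by rw [commutatorElement_def]; group
      _ = x * s⁻¹ * x⁻¹ * s⁻¹ := by rw [h2, one_mul]
      _ = _ := by nth_rw 1 [inv_eq_of_mul_eq_one_right h2]; rw [commutatorElement_def]; group
  have hcK : ⁅s, x⁆ ∈ K := ⟨hcR, by
    rw [commutatorElement_def s, hinv, ← _root_.mul_inv_rev, hc2]; exact inv_mem (mem_zpowers _)⟩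
  have h4 : Nat.card (zpowers r) = 4 := by
    rw [Nat.card_zpowers]
    exact orderOf_eq_prime_pow (p := 2) (n := 1) (by rw [pow_one, pow_two, hr2]; exact X.t_ne hF)
      (by rw [show 2 ^ (1 + 1) = 2 * 2 from rfl, pow_mul, pow_two, pow_two, hr2, t_sq])
  have hle : zpowers r ≤ K := zpowers_le.2 ⟨hr, by rw [commutatorElement_def, hsr, mul_inv_cancel]; exact one_mem _⟩
  have hlt := card_lt_card_of_lt (lt_of_le_of_ne hle fun e => by
    obtain ⟨n, hn⟩ := e.ge hcK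
    have h5 : Commute s ⁅s, x⁆ := hn ▸ (show Commute s r from mul_inv_eq_iff_eq_mul.1 hsr).zpow_right n
    rw [h5.eq, mul_inv_cancel_right, eq_inv_iff_mul_eq_one, hc2] at hinv
    exact X.t_ne hF hinv)
  have hKR : K ≤ X.R := fun _ h => h.1
  have h8 := card_dvd_of_le hKR
  rw [X.card_R hF] at h8
  have h9 : Nat.card K = 8 := by
    have := Nat.le_of_dvd (by norm_num) h8
    obtain ⟨k, hk⟩ := h8
    generalize Nat.card K = m at *
    interval_cases m <;> omega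
  exact hc ((eq_of_le_of_card_ge hKR (by rw [h9, X.card_R hF])).ge hx).2

/-- a `2`-subgroup of `H ∩ C(t)` of order divisible by `16` contains an involution different from `t`. -/
theorem exists_invol {S : Subgroup G} (hS : IsPGroup 2 S) (hH : S ≤ X.H) (hX : S ≤ X.X₀) (h16 : 16 ∣ Nat.card S) :
    ∃ s ∈ S, s * s = 1 ∧ s ∉ zpowers X.t := by
  by_contra! h
  have hd := relIndex_dvd_ncard (S := S) (K := ⊥) (s := X.qq '' {0}ᶜ) (by
    rintro g hg _ ⟨v, hv, rfl⟩
    obtain ⟨f, h1, -⟩ := X.exists_f hF (hH hg) (X.mem_X.1 (hX hg))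
    refine ⟨f v, fun e => hv (X.qq_inj ?_), (h1 v).symm⟩
    have := h1 v
    rw [show f v = 0 from e, qq_zero, mul_inv_eq_one, mul_eq_left] at this
    rw [this, qq_zero]) (by
    rintro g hg _ ⟨v, hv, rfl⟩
    refine ⟨fun e => ?_, fun e => by rw [mem_bot.1 e]; group⟩
    by_contra h1
    have h2 : 2 ∣ Nat.card (zpowers g) := by
      obtain ⟨n, hn⟩ := (hS.to_le (zpowers_le.2 hg)).exists_card_eq
      rw [hn]
      exact dvd_pow_self 2 fun e => h1 (zpowers_eq_bot.1 (card_eq_one.1 (by rw [hn, e, pow_zero])))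
    obtain ⟨⟨u, hu⟩, ho⟩ := exists_prime_orderOf_dvd_card' 2 h2
    rw [← orderOf_coe] at ho
    obtain rfl : u = X.t := (X.mem_zpowers_t.1 (h u (zpowers_le.2 hg hu)
      (by rw [← pow_two, ← ho]; exact pow_orderOf_eq_one u))).resolve_left fun e => by simp [e] at ho
    obtain ⟨n, hn⟩ := hu
    have h3 : Commute X.t (X.qq v) := hn ▸ (show Commute g (X.qq v) from mul_inv_eq_iff_eq_mul.1 e).zpow_left n
    have h4 := X.t_qq v
    rw [h3.eq, mul_inv_cancel_right] at h4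
    exact hv (funext fun i => hF.eq_zero_of_eq_neg (congrFun (X.qq_inj h4) i)))
  rw [ncard_image_ne (fun _ _ => X.qq_inj), relIndex_bot_left, Nat.card_fun, Nat.card_eq_fintype_card (α := Fin 2),
    Fintype.card_fin] at hd
  exact hF.not_sixteen (h16.trans hd)

theorem iso1 (hY : X.Y ≤ X.H) (hO : X.Out) : Cfsg.IsIsolatedInvolution X.t := by
  have hNH : normalizer (X.R : Set G) ≤ X.H := fun x hx => by
    obtain ⟨y, hy, e⟩ := X.frattini_Y hF (X.norm_R_le hF hx)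
    exact (mul_mem_cancel_left (hY hy)).1 e
  obtain ⟨S, hS, hRS⟩ := exists_isSylowIn_ge (X.isPGroup_R hF) (le_normalizer (H := X.R))
  have hH := hS.le.trans hNH
  have hX := hS.le.trans (X.norm_R_le_X hF)
  have hC : S ⊓ X.C = X.R :=
    X.eq_R hF (hS.isPGroup.to_le inf_le_left) inf_le_right (le_inf hRS (X.R_le_L.trans X.L_le_C))
  have key : ∀ j ∈ S, j * j = X.t → j ∈ X.R := fun j hj j2 => by
    by_contra hjR
    obtain ⟨s, hs, s2, s1⟩ := X.exists_invol hF hS.isPGroup hH hX (by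
      obtain ⟨n, hn⟩ := hS.isPGroup.exists_card_eq
      have := card_lt_card_of_lt (lt_of_le_of_ne hRS fun e => hjR (e ▸ hj))
      rw [X.card_R hF, hn] at this
      exact hn ▸ pow_dvd_pow 2 (show 4 ≤ n from (Nat.pow_lt_pow_iff_right one_lt_two).1 this))
    have hsC : s ∉ X.C := fun e => s1 (X.R_inv hF (hC.le ⟨hs, e⟩) s2)
    have hr : j * s ∈ X.R := hC.le ⟨mul_mem hj hs, X.two_H hF hS.isPGroup hH hj hs (fun e => hjR (hC.le ⟨hj, e⟩)) hsC⟩
    have e1 : j * s * (s * (j * s) * s⁻¹) = X.t := by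
      calc _ = j * (s * s) * j := by group
        _ = _ := by rw [s2, mul_one, j2]
    have r2 : j * s * (j * s) = X.t := (X.R_sq hF hr).resolve_left fun e => X.t_ne hF (by
      rw [← e1, X.conj_zpowers_t hF (X.mem_X.1 (hX hs)) e, X.sq_zpowers hF e])
    have e2 := fun x => X.comm_mem_of_invol hF (x := x) (hS.le hs) s2 hr r2 (mul_left_cancel (e1.trans r2.symm))
    obtain ⟨r, hr', hy⟩ := X.exists_RY hF (e2 _ X.I_R) (e2 _ X.J_R)
    refine X.noInv hF hy one_ne_zero ?_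
    calc _ = r⁻¹ * (s * X.zz 1 * s⁻¹) * r := by group
      _ = _ := by
        rw [X.invert (hH hs) hsC (s2 ▸ one_mem _), mul_assoc, ← (X.C_comm (X.L_le_C (X.R_le_L hr')) _).eq,
          inv_mul_cancel_left]
  have hS' : IsSylowIn 2 S X.X₀ := isSylowIn_of_normalizer hF hX hS.isPGroup fun U hU h1 h2 h3 =>
    (hS.eq_of_le hU h1 fun g hg => mem_normalizer_fintype fun x hx => by
      have h4 : ∀ a ∈ X.R, a * a = X.t → g * a * g⁻¹ ∈ X.R := fun a ha e =>
        key _ ((mem_normalizer_iff.1 (h3 hg) a).1 (hRS ha)) (by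
          rw [← X.conj_zpowers_t hF (X.mem_X.1 (h2 hg)) (mem_zpowers _), ← e]; group)
      have : X.R ≤ X.R.comap (MulAut.conj g).toMonoidHom := (closure_le _).2 (by
        rintro _ (rfl | rfl)
        exacts [h4 _ X.I_R X.I_sq, h4 _ X.J_R X.J_sq])
      exact this hx).le
  refine ⟨X.orderOf_t hF, fun g hg => ?_⟩
  have h2 : ∀ k : G, k * X.t * k⁻¹ * (k * X.t * k⁻¹) = 1 := fun k => by
    calc _ = k * (X.t * X.t) * k⁻¹ := by group
      _ = 1 := by rw [t_sq]; group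
  obtain ⟨m, hm, e⟩ := hS'.exists_conj_le (U := zpowers (g * X.t * g⁻¹)) (IsPGroup.of_card (n := 1) (by
    rw [Nat.card_zpowers, pow_one, ← X.orderOf_t hF]
    exact orderOf_injective (MulAut.conj g).toMonoidHom (MulAut.conj g).injective _)) (zpowers_le.2 (X.mem_X.2 hg.symm))
  have h3 := e (conj_mem_conj_smul m (mem_zpowers _))
  have e1 : m * (g * X.t * g⁻¹) * m⁻¹ = m * g * X.t * (m * g)⁻¹ := by group
  have h4 := X.mem_X.1 (hX h3)
  rcases X.invol_CX hF (hO _ (hH h3) h4 (e1 ▸ (isConj_iff.2 ⟨_, rfl⟩).symm)) h4 (e1 ▸ h2 _) with h5 | h5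
  · exact absurd (by simpa using h5) (X.t_ne hF)
  · calc _ = m⁻¹ * (m * (g * X.t * g⁻¹) * m⁻¹) * m⁻¹⁻¹ := by group
      _ = _ := by rw [h5, X.conj_zpowers_t hF (X.mem_X.1 hm).inv_left (mem_zpowers _)]

theorem oddQ (h : Cfsg.IsIsolatedInvolution X.t ∨ X.X₀ ⊔ Cfsg.oddCore G = ⊤) :
    ∃ a, a ≠ 0 ∧ ∀ g, g * X.zz a * g⁻¹ ∈ X.Q := by
  have : Fact (Nat.Prime 3) := ⟨by norm_num⟩
  have hn : (Cfsg.oddCore G).Normal := Cfsg.pPrimeCore_normal 2 G
  have h1 : ∀ g, X.t * g * X.t⁻¹ * g⁻¹ ∈ Cfsg.oddCore G := fun g => by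
    rcases h with h | h
    · exact Inv.zstar_mem_oddCore h g
    · obtain ⟨x, hx, o, ho, rfl⟩ := mem_sup_of_normal_right.1 (h.ge (mem_top g))
      convert hn.conj_mem _ (mul_mem (hn.conj_mem o ho X.t) (inv_mem ho)) x using 1
      rw [← mul_assoc X.t, ← (X.mem_X.1 hx).eq]; group
  have h2 : Cfsg.oddCore G ≠ ⊥ := fun e => by
    have := mem_bot.1 (e.le (h1 (X.qq ![1, 0])))
    rw [t_qq, mul_inv_eq_one] at this
    exact hF.one_ne_neg (by simpa using (congrFun (X.qq_inj this) 0).symm)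
  obtain ⟨N, hN, hle⟩ := exists_isMinNormal_le _ h2
  have := hN.normal
  obtain ⟨r, hr, hP, hE⟩ := hN.exists_isPGroup
    (Odd.feit_thompson (Inv.odd_card_oddCore.of_dvd_nat (card_dvd_of_le hle)))
  have := Fact.mk hr
  have hZ : IsMulCommutative X.Z := ⟨⟨fun a b => Subtype.ext (by
    obtain ⟨a', e⟩ := X.mem_Z.1 b.2
    rw [coe_mul, coe_mul, e]
    exact (X.C_comm (X.Z_le_C a.2) a').eq)⟩⟩
  obtain ⟨m, hm⟩ := hF.card_pow
  have h27 := hF.card_ge
  obtain rfl : r = 3 := by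
    by_contra h3
    have h4 : ∀ x ∈ N, x ^ 3 = 1 → x = 1 := fun x hx e => orderOf_eq_one_iff.1 (Nat.eq_one_of_dvd_coprimes
      ((Nat.coprime_primes hr Nat.prime_three).2 h3) (orderOf_dvd_of_pow_eq_one (hE.2 x hx)) (orderOf_dvd_of_pow_eq_one e))
    have hC : N ≤ X.C := le_of_forall_centralizer_le (A := X.Z) (fun hc => by
      have := Nat.le_of_dvd (by norm_num) (hc.exponent_eq_card ▸ Monoid.exponent_dvd_of_forall_pow_eq_one fun x : X.Z =>
        Subtype.ext (X.Q_pow hF (mem_sup_right x.2)))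
      rw [card_Z, Nat.card_eq_fintype_card] at this
      omega) le_normalizer_of_normal (IsPGroup.coprime_card_of_ne 3 r (Ne.symm h3) _ _ (X.isPGroup_Z hF) hP)
      fun a ha a1 => by
        obtain ⟨b, rfl⟩ := X.mem_Z.1 ha
        exact inf_le_right.trans (X.C_eq fun e => a1 (by rw [e, zz_zero])).le
    refine hN.ne_bot ((eq_bot_iff_forall _).2 fun x hx => h4 x hx (X.Q_pow hF (mem_sup_right
      (X.mem_Z_of_comm hF (hC hx) fun v => commutatorElement_eq_one_iff_commute.1 (h4 _ ?_ (X.Q_pow hF ?_))))))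
    · rw [commutatorElement_def, mul_assoc, mul_assoc, ← mul_assoc (X.qq v)]
      exact mul_mem hx (hN.normal.conj_mem _ (inv_mem hx) _)
    · exact mul_mem (X.C_conj_Q (hC hx) (X.qq_Q v)) (inv_mem (X.qq_Q v))
  have hQ : N ⊓ X.C ≤ X.Q := X.le_Q hF (hP.to_le inf_le_left) inf_le_right fun g x hx =>
    ⟨hN.normal.conj_mem _ hx.1 _, X.C.mul_mem (X.C.mul_mem (X.ll_C g) hx.2) (X.C.inv_mem (X.ll_C g))⟩
  obtain ⟨a, a0, ha⟩ : ∃ a, a ≠ 0 ∧ X.zz a ∈ N := by
    obtain ⟨⟨x, hx⟩, x1⟩ := ne_bot_iff_exists_ne_one.1 (inf_centralizer_ne_bot_of_isPGroup (X.isPGroup_Z hF)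
      (K := N) le_normalizer_of_normal (by
        obtain ⟨n, hn⟩ := hP.exists_card_eq
        exact hn ▸ dvd_pow_self 3 fun e => hN.ne_bot (card_eq_one.1 (by rw [hn, e, pow_zero]))))
    obtain ⟨a, v, rfl⟩ := X.mem_Q.1 (hQ ⟨hx.1, (X.mem_C_iff one_ne_zero).2 (hx.2 _ (X.zz_mem 1)).symm⟩)
    by_cases hv : v = 0
    · subst hv
      rw [qq_zero, mul_one] at hx
      exact ⟨a, fun e => x1 (Subtype.ext (by simp [e, zz_zero, qq_zero])), hx.1⟩
    have h3 : ∀ w : Fin 2 → F, X.zz (2 * (v 0 * w 1 - v 1 * w 0)) ∈ N := fun w => by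
      have := N.mul_mem hx.1 (hN.normal.conj_mem _ (N.inv_mem hx.1) (X.qq w))
      rwa [(X.zz_qq a v).eq, _root_.mul_inv_rev, ← mul_assoc (X.qq w), ← (X.zz_qq a w).inv_left.eq,
        show X.qq v * X.zz a * ((X.zz a)⁻¹ * X.qq w * (X.qq v)⁻¹ * (X.qq w)⁻¹) = ⁅X.qq v, X.qq w⁆ by
          rw [commutatorElement_def]; group, comm_qq] at this
    by_cases h0 : v 0 = 0
    · refine ⟨_, ?_, h3 ![1, 0]⟩
      have : v 1 ≠ 0 := fun h1 => hv (by ext i; fin_cases i <;> simp [h0, h1])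
      simp [hF.two_ne, this]
    · exact ⟨_, by simp [hF.two_ne, h0], h3 ![0, 1]⟩
  refine ⟨a, a0, fun g => hQ ⟨hN.normal.conj_mem _ ha g, (X.mem_C_iff a0).2 ?_⟩⟩
  exact congrArg Subtype.val (hE.1.is_comm.comm (⟨_, hN.normal.conj_mem _ ha g⟩ : N) ⟨_, ha⟩)

end Loc

theorem iso1 : Iso1.{u, v} := fun _ _ _ _ _ _ X hF => X.iso1 hF

theorem oddQ : OddQ.{u, v} := fun _ _ _ _ _ _ X hF => X.oddQ hF

end CL.Hay
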