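/-
Project HAY (helper47): a Sylow `2`-subgroup of `N(R)` is a Sylow `2`-subgroup of `C(t)`.
-/
import Cfsg.Agent.Hay.Defs2
import Cfsg.Agent.Grp.Coprime2
import Cfsg.Agent.Grp.MinNormal

set_option autoImplicit false
set_option linter.unusedSectionVars false

open Subgroup CL.Grp
open scoped MatrixGroups commutatorElement

namespace CL.Hay.SylA

universe u v

variable {G : Type*} [Group G]

theorem comm_mul_left (x y s : G) : ⁅x * y, s⁆ = x * ⁅y, s⁆ * x⁻¹ * ⁅x, s⁆ := by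
  simp only [commutatorElement_def]; group

theorem comm_mul_right (x s s' : G) : ⁅x, s * s'⁆ = ⁅x, s⁆ * (s * ⁅x, s'⁆ * s⁻¹) := by
  simp only [commutatorElement_def]; group

theorem comm_conj (g x s : G) : g * ⁅x, s⁆ * g⁻¹ = ⁅g * x * g⁻¹, g * s * g⁻¹⁆ := by
  simp only [commutatorElement_def]; group

theorem commute_conj {x y : G} (g : G) (h : Commute x y) : Commute (g * x * g⁻¹) (g * y * g⁻¹) :=
  h.map (MulAut.conj g)

theorem commute_of_conj {x y g : G} (h : Commute (g * x * g⁻¹) (g * y * g⁻¹)) : Commute x y := by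
  simpa [mul_assoc] using commute_conj g⁻¹ h

theorem mem_zpowers_three {x y : G} (h : x ^ 3 = 1) (hy : y ∈ zpowers x) : y = 1 ∨ y = x ∨ y = x * x := by
  obtain ⟨k, rfl⟩ := mem_zpowers_iff.1 hy
  rw [← zpow_mod_natCast' h]
  have h1 := Int.emod_nonneg k (show ((3 : ℕ) : ℤ) ≠ 0 by norm_num)
  have h2 := Int.emod_lt_of_pos k (show (0 : ℤ) < (3 : ℕ) by norm_num)
  generalize k % ((3 : ℕ) : ℤ) = j at h1 h2
  push_cast at h2
  interval_cases j
  · simp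
  · simp
  · exact Or.inr (Or.inr (zpow_two x))
where
  zpow_mod_natCast' {x : G} {n : ℕ} (h : x ^ n = 1) {k : ℤ} : x ^ (k % (n : ℤ)) = x ^ k := by
    conv_rhs => rw [← Int.mul_ediv_add_emod k n, zpow_add, zpow_mul, zpow_natCast, h, one_zpow, one_mul]

theorem four_cases {α : Type*} (h : Nat.card α = 4) {a b c d : α} (ab : a ≠ b) (ac : a ≠ c) (ad : a ≠ d) (bc : b ≠ c)
    (bd : b ≠ d) (cd : c ≠ d) (x : α) : x = a ∨ x = b ∨ x = c ∨ x = d := by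
  classical
  have : Finite α := Nat.finite_of_card_ne_zero (by omega)
  have := Fintype.ofFinite α
  have h1 : ({a, b, c, d} : Finset α) = Finset.univ := Finset.eq_univ_of_card _ (by
    rw [← Nat.card_eq_fintype_card, h, Finset.card_eq_four]
    exact ⟨a, b, c, d, ab, ac, ad, bc, bd, cd, rfl⟩)
  simpa using h1.ge (Finset.mem_univ x)

variable {F : Type*} [Field F] [Fintype F] [Finite G] {X : Loc G F} (hF : Fq F)
include hF

theorem conj_t {g x : G} (hg : g ∈ X.X₀) (hx : x ∈ zpowers X.t) : g * x * g⁻¹ ∈ zpowers X.t := by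
  rcases X.mem_zpowers_t.1 hx with rfl | rfl
  · simp
  · simp [(X.mem_X.1 hg).eq]

theorem RY {r : G} (hr : r ∈ X.R) (hy : r ∈ X.Y) : r ∈ zpowers X.t := by
  obtain ⟨g, rfl⟩ := X.R_le_L hr
  obtain ⟨h1, h2⟩ := X.mem_Y.1 hy
  refine X.mem_zpowers_t.2 ((hF.eq_of_comm (g := g) (X.ll_inj ?_) (X.ll_inj ?_)).imp (fun e => by rw [e, map_one])
    fun e => by rw [e, Loc.t])
  · rw [map_mul, map_mul]; exact h1.eq
  · rw [map_mul, map_mul]; exact h2.eq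

theorem not_conj (hS : X.SC) {a : F} (h : IsConj (X.zz a) X.ρ) : False := by
  have z : (![0, 0] : Fin 2 → F) = 0 := by simp
  obtain ⟨n, hn, e⟩ := hS (X.zz a) ⟨a, 0, 0, by simp [uu_zero, z, X.qq_zero]⟩ X.ρ
    ⟨0, 0, 1, by simp [z, X.qq_zero, X.zz_zero, Loc.ρ]⟩ h
  obtain ⟨c, e1⟩ := X.H_zz hn a
  have := (X.zl_inj (a := c) (b := 0) (g := uu 0) (h := uu 1) (by
    rw [uu_zero, map_one, mul_one, X.zz_zero, one_mul, ← e1, e, Loc.ρ])).2
  exact zero_ne_one (uu_inj this)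

theorem exists_zz {y : G} (hy : y ∈ X.Y) (h3 : y ^ 3 = 1) : ∃ h ∈ X.Y, ∃ a, h * y * h⁻¹ = X.zz a := by
  have : Fact (Nat.Prime 3) := ⟨by norm_num⟩
  obtain ⟨h, hh, e⟩ := (X.sylow_Z hF).exists_conj_le (U := zpowers y) (IsPGroup.of_card_dvd_pow (n := 1) (by
    rw [Nat.card_zpowers, pow_one]; exact orderOf_dvd_of_pow_eq_one h3)) (zpowers_le.2 hy)
  exact ⟨h, hh, X.mem_Z.1 ((conj_smul_le_iff _ _ _).1 e y (mem_zpowers y))⟩

theorem norm_of {g : G} (h1 : g * X.I * g⁻¹ ∈ X.R) (h2 : g * X.J * g⁻¹ ∈ X.R) : g ∈ normalizer (X.R : Set G) := by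
  have : X.R ≤ X.R.comap (MulAut.conj g).toMonoidHom := (closure_le _).2 (by
    rintro _ (rfl | rfl)
    exacts [h1, h2])
  exact mem_normalizer_fintype fun x hx => this hx

theorem norm_of_comm {g : G} (h : ∀ r ∈ X.R, g * ⁅X.ρ, r⁆ * g⁻¹ ∈ X.R) : g ∈ normalizer (X.R : Set G) := by
  have e1 : X.I = ⁅X.ρ, X.J⁆⁻¹ := by
    rw [commutatorElement_def, X.ρ_J hF, X.J_I hF, ← X.I_sq, eq_inv_iff_mul_eq_one]
    calc _ = X.I * X.I * (X.I * X.I) := by group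
      _ = 1 := by rw [X.I_sq, X.t_sq]
  have e2 : X.J = ⁅X.ρ, X.I⁆ * X.I := by rw [commutatorElement_def, X.ρ_I, inv_mul_cancel_right]
  have h1 : g * X.I * g⁻¹ ∈ X.R := by rw [e1, ← conj_inv]; exact inv_mem (h _ X.J_R)
  exact norm_of hF h1 (by rw [e2, ← conj_mul]; exact mul_mem (h _ X.I_R) h1)

variable {S R' : Subgroup G} {b : G} (T : X.Two S R' b)
include T

theorem le_Y : R' ≤ X.Y := fun x hx => ((T.mem x).1 hx).2

theorem R_le : X.R ≤ S :=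
  have : Fact (Nat.Prime 2) := ⟨Nat.prime_two⟩
  T.syl.le_of_normalized (X.isPGroup_R hF) le_normalizer le_rfl

theorem t_le : zpowers X.t ≤ R' := zpowers_le.2 ((T.mem _).2 ⟨R_le hF T X.t_R, X.t_Y⟩)

theorem mem0 {x : G} : x ∈ X.R ⊔ R' ↔ ∃ r ∈ X.R, ∃ y ∈ R', r * y = x :=
  mem_sup_of_le_normalizer' ((le_Y hF T).trans (centralizer_le_normalizer _))

theorem le0 : X.R ⊔ R' ≤ S := sup_le (R_le hF T) fun x hx => ((T.mem x).1 hx).1

theorem le0X : X.R ⊔ R' ≤ X.X₀ := (le0 hF T).trans (T.syl.le.trans (X.norm_R_le_X hF))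

theorem conj_R' {s y : G} (hs : s ∈ S) (hy : y ∈ R') : s * y * s⁻¹ ∈ R' :=
  (T.mem _).2 ⟨mul_mem (mul_mem hs ((T.mem y).1 hy).1) (inv_mem hs),
    (mem_normalizer_iff.1 (X.norm_R_le hF (T.syl.le hs)) y).1 (le_Y hF T hy)⟩

theorem norm0 {n : G} (h1 : n ∈ normalizer (X.R : Set G)) (h2 : ∀ y ∈ R', n * y * n⁻¹ ∈ R') {x : G}
    (hx : x ∈ X.R ⊔ R') : n * x * n⁻¹ ∈ X.R ⊔ R' := by
  obtain ⟨r, hr, y, hy, rfl⟩ := (mem0 hF T).1 hx
  rw [← conj_mul]
  exact mul_mem_sup ((mem_normalizer_iff.1 h1 r).1 hr) (h2 y hy)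

theorem sq_mul {r y : G} (hr : r ∈ X.R) (hy : y ∈ R') : r * y * (r * y) = r * r * (y * y) := by
  rw [mul_assoc, ← mul_assoc y, (X.Y_comm (le_Y hF T hy) hr).eq]; group

theorem sq0 {x : G} (hx : x ∈ X.R ⊔ R') : x * x ∈ zpowers X.t := by
  obtain ⟨r, hr, y, hy, rfl⟩ := (mem0 hF T).1 hx
  rw [sq_mul hF T hr hy]
  exact mul_mem (X.R_sq' hF hr) (T.sq y hy)

theorem comm0 {x y : G} (hx : x ∈ X.R ⊔ R') (hy : y ∈ X.R ⊔ R') : ⁅x, y⁆ ∈ zpowers X.t := by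
  rw [show ⁅x, y⁆ = x * y * (x * y) * (y⁻¹ * (x * x)⁻¹ * y⁻¹⁻¹) * (y * y)⁻¹ by rw [commutatorElement_def]; group]
  exact mul_mem (mul_mem (sq0 hF T (mul_mem hx hy)) (conj_t hF (inv_mem (le0X hF T hy)) (inv_mem (sq0 hF T hx))))
    (inv_mem (sq0 hF T hy))

/-- step (1): `R R'` is invariant under `C(t) ∩ N(S)` -/
theorem step1 {g : G} (hg : g ∈ X.X₀) (hn : g ∈ normalizer (S : Set G)) :
    g ∈ normalizer ((X.R ⊔ R' : Subgroup G) : Set G) := by
  rcases T.out with e | ⟨τ, hτ, -, -, h2, hc, ⟨r, hr, nr⟩, y, hy, ny⟩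
  · exact e ▸ hn
  refine mem_normalizer_fintype fun x hx => ?_
  by_contra hu
  have h0 := (hc _ ((mem_normalizer_iff.1 hn x).1 (le0 hF T hx))).resolve_left hu
  have key : ∀ d ∈ X.R ⊔ R', g⁻¹ * d * g⁻¹⁻¹ ∈ X.R ⊔ R' → ⁅τ, d⁆ ∈ zpowers X.t := fun d hd hd' => by
    have h1 := conj_t hF hg (comm0 hF T hx hd')
    rw [comm_conj, show g * (g⁻¹ * d * g⁻¹⁻¹) * g⁻¹ = d by group] at h1
    rw [show τ = g * x * g⁻¹ * (τ⁻¹ * (g * x * g⁻¹))⁻¹ by group, comm_mul_left]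
    exact mul_mem (conj_t hF (mul_mem (mul_mem hg (le0X hF T hx)) (inv_mem hg)) (comm0 hF T (inv_mem h0) hd)) h1
  have hi := mem_normalizer_iff.1 (inv_mem hn)
  have a1 := (hc _ ((hi r).1 (R_le hF T hr))).resolve_left fun h => nr (key r (mem_sup_left hr) h)
  have a2 := (hc _ ((hi y).1 ((T.mem y).1 hy).1)).resolve_left fun h => ny (key y (mem_sup_right hy) h)
  have h3 := key (r * y) (mul_mem_sup hr hy) (by
    rw [show g⁻¹ * (r * y) * g⁻¹⁻¹ = τ * τ * (τ⁻¹ * (τ⁻¹ * (g⁻¹ * r * g⁻¹⁻¹)) * τ⁻¹⁻¹) * (τ⁻¹ * (g⁻¹ * y * g⁻¹⁻¹)) by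
      group]
    exact mul_mem (mul_mem (mem_sup_left h2) (norm0 hF T (T.syl.le (inv_mem hτ))
      (fun y hy => conj_R' hF T (inv_mem hτ) hy) a1)) a2)
  have h4 : ⁅τ, y⁆ ∈ X.Y := le_Y hF T (mul_mem (conj_R' hF T hτ hy) (inv_mem hy))
  rw [comm_mul_right, ← (X.Y_comm h4 hr).eq, mul_inv_cancel_right] at h3
  exact nr (RY hF (mul_mem ((mem_normalizer_iff.1 (T.syl.le hτ) r).1 hr) (inv_mem hr))
    ((mul_mem_cancel_right h4).1 (le_Y hF T (t_le hF T h3))))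

theorem b_Y : b ∈ X.Y := by
  obtain ⟨k, hk, a, -, rfl⟩ := T.conj
  exact mul_mem (mul_mem hk (X.Z_le_Y (X.zz_mem a))) (inv_mem hk)

theorem b_pow : b ^ 3 = 1 := by
  obtain ⟨k, -, a, -, rfl⟩ := T.conj
  rw [conj_pow, X.zz_pow hF, mul_one, mul_inv_cancel]

theorem card_quot : Nat.card (R' ⧸ (zpowers X.t).subgroupOf R') = 4 := by
  have h := ((zpowers X.t).subgroupOf R').card_mul_index
  rw [Nat.card_congr (subgroupOfEquivOfLe (t_le hF T)).toEquiv, Nat.card_zpowers, X.orderOf_t hF, T.card, index] at h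
  omega

/-- step (2): `R'` is elementary abelian or a quaternion group -/
theorem dich {y x : G} (hy : y ∈ R') (h : y * y ≠ 1) (hx : x ∈ R') : x ∈ zpowers X.t ∨ x * x = X.t := by
  have bX := X.Y_le_X (b_Y hF T)
  have c : ∀ y ∈ R', b * y * b⁻¹ ∈ R' := fun y hy => (mem_normalizer_iff.1 T.nor y).1 hy
  have s : ∀ y, y * y = X.t → b * y * b⁻¹ * (b * y * b⁻¹) = X.t := fun y e => by
    rw [conj_mul, e, (X.mem_X.1 bX).eq, mul_inv_cancel_right]
  have s0 := (X.mem_zpowers_t.1 (T.sq y hy)).resolve_left h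
  have n : ∀ y, y * y = X.t → y ∉ zpowers X.t := fun y e h => X.t_ne hF (e ▸ X.sq_zpowers hF h)
  have q : ∀ (y y' : R'), (QuotientGroup.mk y : R' ⧸ (zpowers X.t).subgroupOf R') = QuotientGroup.mk y' ↔
      y.1⁻¹ * y'.1 ∈ zpowers X.t := fun y y' => QuotientGroup.eq
  have f : ∀ y ∈ R', y * y = X.t → y⁻¹ * (b * y * b⁻¹) ∉ zpowers X.t := fun y hy e h => n y e (T.fpf y hy (by
    have := conj_t hF (X.Y_le_X (le_Y hF T hy)) h
    rwa [show y * (y⁻¹ * (b * y * b⁻¹)) * y⁻¹ = ⁅b, y⁆ by rw [commutatorElement_def]; group] at this))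
  have e3 : b * (b * (b * y * b⁻¹) * b⁻¹) * b⁻¹ = y := by
    rw [show b * (b * (b * y * b⁻¹) * b⁻¹) * b⁻¹ = b ^ 3 * y * (b ^ 3)⁻¹ by rw [pow_three]; group, b_pow hF T]; simp
  have fin : ∀ y ∈ R', y * y = X.t → x⁻¹ * y ∈ zpowers X.t → x * x = X.t := fun y hy e h => by
    rcases X.mem_zpowers_t.1 h with h | h
    · rw [inv_mul_eq_one.1 h, e]
    · rw [inv_mul_eq_iff_eq_mul.1 h, mul_assoc, ← mul_assoc X.t, ← (X.mem_X.1 (X.Y_le_X (le_Y hF T hx))).eq, mul_assoc,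
        X.t_sq, mul_one] at e
      exact e
  rcases four_cases (card_quot hF T) (a := QuotientGroup.mk 1) (b := QuotientGroup.mk ⟨y, hy⟩)
    (c := QuotientGroup.mk ⟨_, c y hy⟩) (d := QuotientGroup.mk ⟨_, c _ (c y hy)⟩)
    (fun e => n _ s0 (by simpa using (q _ _).1 e)) (fun e => n _ (s _ s0) (by simpa using (q _ _).1 e))
    (fun e => n _ (s _ (s _ s0)) (by simpa using (q _ _).1 e)) (fun e => f y hy s0 ((q _ _).1 e))
    (fun e => f _ (c _ (c y hy)) (s _ (s _ s0)) (by rw [e3]; exact (q _ _).1 e.symm))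
    (fun e => f _ (c y hy) (s _ s0) ((q _ _).1 e)) (QuotientGroup.mk ⟨x, hx⟩) with e | e | e | e
  · exact Or.inl (by simpa using (q _ _).1 e)
  · exact Or.inr (fin _ hy s0 ((q _ _).1 e))
  · exact Or.inr (fin _ (c y hy) (s _ s0) ((q _ _).1 e))
  · exact Or.inr (fin _ (c _ (c y hy)) (s _ (s _ s0)) ((q _ _).1 e))

/-- the quaternion case -/
theorem caseB (hS : X.SC) (hB : ∀ x ∈ R', x ∈ zpowers X.t ∨ x * x = X.t) {g : G} (hg : g ∈ X.X₀)
    (hn : g ∈ normalizer ((X.R ⊔ R' : Subgroup G) : Set G)) : g ∈ normalizer (X.R : Set G) := by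
  have key : ∀ r ∈ X.R, r * r = X.t → g * r * g⁻¹ ∈ X.R ∨ g * r * g⁻¹ ∈ R' := fun r hr e => by
    have e1 : g * r * g⁻¹ * (g * r * g⁻¹) = X.t := by rw [conj_mul, e, (X.mem_X.1 hg).eq, mul_inv_cancel_right]
    obtain ⟨s, hs, y, hy, e2⟩ := (mem0 hF T).1 ((mem_normalizer_iff.1 hn r).1 (mem_sup_left hr))
    rw [← e2] at e1 ⊢
    rcases X.R_sq hF hs with h1 | h1
    · exact Or.inr (mul_mem (t_le hF T h1) hy)
    · rcases hB y hy with h2 | h2
      · exact Or.inl (mul_mem hs (zpowers_le.2 X.t_R h2))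
      · rw [sq_mul hF T hs hy, h1, h2, X.t_sq] at e1
        exact absurd e1.symm (X.t_ne hF)
  rcases key _ X.I_R X.I_sq with h1 | h1 <;> rcases key _ X.J_R X.J_sq with h2 | h2
  · exact norm_of hF h1 h2
  · exact absurd (commute_of_conj (X.Y_comm (le_Y hF T h2) h1).symm) (X.not_comm_IJ hF)
  · exact absurd (commute_of_conj (X.Y_comm (le_Y hF T h1) h2)) (X.not_comm_IJ hF)
  · have c : ∀ r, g * r * g⁻¹ ∈ R' → Commute (g⁻¹ * X.ρ * g⁻¹⁻¹) r := fun r h => commute_of_conj (g := g) (by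
      rw [show g * (g⁻¹ * X.ρ * g⁻¹⁻¹) * g⁻¹ = X.ρ by group]; exact T.rho _ (le_Y hF T h))
    obtain ⟨h, -, a, e⟩ := exists_zz hF (X.mem_Y.2 ⟨c _ h1, c _ h2⟩) (by rw [conj_pow, X.ρ_pow hF]; simp)
    exact (not_conj hF hS (a := a) (isConj_iff.2 ⟨g * h⁻¹, by rw [← e]; group⟩)).elim

/-- the elements which act trivially on `R'` and on `R R' / R'` -/
def Gam (R R' : Subgroup G) : Subgroup G where
  carrier := {x | (∀ y ∈ R', Commute x y) ∧ ∀ s ∈ R ⊔ R', ⁅x, s⁆ ∈ R'}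
  one_mem' := ⟨fun y _ => Commute.one_left y, fun s _ => by simp⟩
  mul_mem' := fun {x y} hx hy => ⟨fun s hs => (hx.1 s hs).mul_left (hy.1 s hs), fun s hs => by
    rw [comm_mul_left, (hx.1 _ (hy.2 s hs)).eq, mul_inv_cancel_right]
    exact mul_mem (hy.2 s hs) (hx.2 s hs)⟩
  inv_mem' := fun {x} hx => ⟨fun s hs => (hx.1 s hs).inv_left, fun s hs => by
    rw [show ⁅x⁻¹, s⁆ = x⁻¹ * (⁅x, s⁆⁻¹ * x) by simp only [commutatorElement_def]; group,
      ← (hx.1 _ (inv_mem (hx.2 s hs))).eq, inv_mul_cancel_left]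
    exact inv_mem (hx.2 s hs)⟩

section A

variable (hA : ∀ y ∈ R', y * y = 1)
include hA

theorem central {y s : G} (hy : y ∈ R') (hs : s ∈ X.R ⊔ R') : Commute y s := by
  obtain ⟨r, hr, x, hx, rfl⟩ := (mem0 hF T).1 hs
  refine (X.Y_comm (le_Y hF T hy) hr).mul_right ?_
  have h := hA _ (mul_mem hy hx)
  rw [mul_eq_one_iff_eq_inv, _root_.mul_inv_rev, inv_eq_of_mul_eq_one_right (hA x hx),
    inv_eq_of_mul_eq_one_right (hA y hy)] at h
  exact h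

theorem norm_R' {n y : G} (hn : n ∈ normalizer ((X.R ⊔ R' : Subgroup G) : Set G)) (hy : y ∈ R') :
    n * y * n⁻¹ ∈ R' := by
  have c : ∀ r ∈ X.R, Commute (n * y * n⁻¹) r := fun r hr => by
    have := commute_conj n (central hF T hA hy ((mem_normalizer_iff.1 (inv_mem hn) r).1 (mem_sup_left hr)))
    rwa [show n * (n⁻¹ * r * n⁻¹⁻¹) * n⁻¹ = r by group] at this
  obtain ⟨r, hr, x, hx, e⟩ := (mem0 hF T).1 ((mem_normalizer_iff.1 hn y).1 (mem_sup_right hy))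
  have h1 : r * x ∈ X.Y := e ▸ X.mem_Y.2 ⟨c _ X.I_R, c _ X.J_R⟩
  exact e ▸ mul_mem (t_le hF T (RY hF hr ((mul_mem_cancel_right (le_Y hF T hx)).1 h1))) hx

theorem norm_Gam : normalizer ((X.R ⊔ R' : Subgroup G) : Set G) ≤ normalizer (Gam X.R R' : Set G) := fun n hn =>
  mem_normalizer_fintype fun x hx => ⟨fun y hy => by
    have := commute_conj n (hx.1 _ (norm_R' hF T hA (inv_mem hn) hy))
    rwa [show n * (n⁻¹ * y * n⁻¹⁻¹) * n⁻¹ = y by group] at this, fun s hs => by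
    have := norm_R' hF T hA hn (hx.2 _ ((mem_normalizer_iff.1 (inv_mem hn) s).1 hs))
    rwa [comm_conj, show n * (n⁻¹ * s * n⁻¹⁻¹) * n⁻¹ = s by group] at this⟩

theorem mem_Gam {x : G} (h0 : ∀ y ∈ R', Commute x y) (h1 : ⁅x, X.I⁆ ∈ R') (h2 : ⁅x, X.J⁆ ∈ R') : x ∈ Gam X.R R' := by
  let K : Subgroup G :=
    { carrier := {s | s ∈ X.R ⊔ R' ∧ ⁅x, s⁆ ∈ R'}
      one_mem' := ⟨one_mem _, by simp⟩
      mul_mem' := fun {s s'} hs hs' => ⟨mul_mem hs.1 hs'.1, by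
        rw [comm_mul_right]; exact mul_mem hs.2 (conj_R' hF T (le0 hF T hs.1) hs'.2)⟩
      inv_mem' := fun {s} hs => ⟨inv_mem hs.1, by
        rw [show ⁅x, s⁻¹⁆ = s⁻¹ * ⁅x, s⁆⁻¹ * s⁻¹⁻¹ by simp only [commutatorElement_def]; group]
        exact conj_R' hF T (inv_mem (le0 hF T hs.1)) (inv_mem hs.2)⟩ }
  have : X.R ⊔ R' ≤ K := sup_le ((closure_le _).2 (by
    rintro _ (rfl | rfl)
    exacts [⟨mem_sup_left X.I_R, h1⟩, ⟨mem_sup_left X.J_R, h2⟩])) fun y hy =>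
      ⟨mem_sup_right hy, by rw [commutatorElement_eq_one_iff_commute.2 (h0 y hy)]; exact one_mem _⟩
  exact ⟨h0, fun s hs => (this hs).2⟩

theorem Gam_three {x : G} (hx : x ∈ Gam X.R R') (h3 : x ^ 3 = 1) : x = 1 := by
  have c : ∀ s ∈ X.R ⊔ R', Commute x s := fun s hs => by
    have h1 : Commute (x * x) s := commutatorElement_eq_one_iff_commute.1 (by
      rw [comm_mul_left, (hx.1 _ (hx.2 s hs)).eq, mul_inv_cancel_right, hA _ (hx.2 s hs)])
    have h2 := h1.mul_left h1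
    rwa [show x * x * (x * x) = x ^ 3 * x by rw [pow_three]; group, h3, one_mul] at h2
  obtain ⟨h, hh, a, e⟩ := exists_zz hF (X.mem_Y.2 ⟨c _ (mem_sup_left X.I_R), c _ (mem_sup_left X.J_R)⟩) h3
  by_cases ha : a = 0
  · rw [ha, X.zz_zero] at e
    simpa using e
  have h1 : R' ≤ zpowers X.t := fun y hy => by
    have h2 : h * y * h⁻¹ ∈ X.Y := mul_mem (mul_mem hh (le_Y hF T hy)) (inv_mem hh)
    have h4 := X.invol_CX hF ((X.mem_C_iff ha).2 (e ▸ commute_conj h (hx.1 y hy).symm)) (X.mem_X.1 (X.Y_le_X h2))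
      (by rw [conj_mul, hA y hy]; simp)
    have := conj_t hF (inv_mem (X.Y_le_X hh)) (X.mem_zpowers_t.2 h4)
    rwa [show h⁻¹ * (h * y * h⁻¹) * h⁻¹⁻¹ = y by group] at this
  have h2 := card_le_of_le h1
  rw [T.card, Nat.card_zpowers, X.orderOf_t hF] at h2
  omega

theorem ρ_norm : X.ρ ∈ normalizer ((X.R ⊔ R' : Subgroup G) : Set G) :=
  mem_normalizer_fintype fun _ hx => norm0 hF T (X.ρ_mem hF)
    (fun y hy => by rwa [(T.rho y (le_Y hF T hy)).eq, mul_inv_cancel_right]) hx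

theorem Gam_le (hS : X.SC) (h3 : X.T3) : Gam X.R R' ≤ normalizer (X.R : Set G) := by
  have : Fact (Nat.Prime 3) := ⟨by norm_num⟩
  have cb : Commute X.ρ b := T.rho b (b_Y hF T)
  have hm : ∀ e, e ∈ zpowers X.ρ ⊔ zpowers b → ∃ p ∈ zpowers X.ρ, ∃ q ∈ zpowers b, p * q = e := fun e he =>
    (mem_sup_of_le_normalizer (zpowers_le.2 (mem_normalizer_fintype fun q hq => by
      obtain ⟨k, rfl⟩ := mem_zpowers_iff.1 hq
      rw [(cb.zpow_right k).eq, mul_inv_cancel_right]; exact hq))).1 he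
  have cc : ∀ p ∈ zpowers X.ρ ⊔ zpowers b, ∀ q ∈ zpowers X.ρ ⊔ zpowers b, Commute p q := fun p hp q hq => by
    obtain ⟨_, ⟨i, rfl⟩, _, ⟨j, rfl⟩, rfl⟩ := hm p hp
    obtain ⟨_, ⟨k, rfl⟩, _, ⟨l, rfl⟩, rfl⟩ := hm q hq
    exact (((Commute.refl _).zpow_zpow i k).mul_right (cb.zpow_zpow i l)).mul_left
      ((cb.symm.zpow_zpow j k).mul_right ((Commute.refl _).zpow_zpow j l))
  have p3 : ∀ e ∈ zpowers X.ρ ⊔ zpowers b, e ^ 3 = 1 := fun e he => by
    obtain ⟨_, ⟨i, rfl⟩, _, ⟨j, rfl⟩, rfl⟩ := hm e he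
    have f : ∀ (x : G) (i : ℤ), x ^ 3 = 1 → (x ^ i) ^ 3 = 1 := fun x i h => by
      rw [← zpow_natCast, ← zpow_mul, mul_comm, zpow_mul, zpow_natCast, h, one_zpow]
    rw [(cb.zpow_zpow i j).mul_pow, f _ i (X.ρ_pow hF), f _ j (b_pow hF T), mul_one]
  have : IsMulCommutative (zpowers X.ρ ⊔ zpowers b : Subgroup G) := ⟨⟨fun p q => Subtype.ext (cc _ p.2 _ q.2).eq⟩⟩
  obtain ⟨k, hk, a, ha, eb⟩ := T.conj
  have ebb : b * b = k * X.zz (a + a) * k⁻¹ := by rw [eb, conj_mul, X.zz_add]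
  have nc : ∀ x : G, X.ρ ≠ k * X.zz 0 * k⁻¹ ∧ X.ρ ≠ b ∧ X.ρ ≠ b * b := fun _ =>
    ⟨fun e => not_conj hF hS (isConj_iff.2 ⟨k, e.symm⟩), fun e => not_conj hF hS (isConj_iff.2 ⟨k, (e.trans eb).symm⟩),
      fun e => not_conj hF hS (isConj_iff.2 ⟨k, (e.trans ebb).symm⟩)⟩
  obtain ⟨n1, n2, n3⟩ := nc 1
  rw [X.zz_zero, mul_one, mul_inv_cancel] at n1
  have nb : b ≠ 1 := fun e => X.zz_ne_one ha (by simpa [e] using eb.symm)
  refine le_of_forall_centralizer_le (A := zpowers X.ρ ⊔ zpowers b) (fun hc => ?_)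
    ((sup_le (zpowers_le.2 (ρ_norm hF T hA)) (zpowers_le.2 (mem_normalizer_fintype fun _ hx =>
      norm0 hF T (centralizer_le_normalizer _ (b_Y hF T)) (fun y hy => (mem_normalizer_iff.1 T.nor y).1 hy) hx))).trans
      (norm_Gam hF T hA)) ?_ fun e he ne x hx => ?_
  · obtain ⟨⟨e, he⟩, hg⟩ := hc.exists_generator
    have hg' : ∀ x ∈ zpowers X.ρ ⊔ zpowers b, x = 1 ∨ x = e ∨ x = e * e := fun x hx => by
      obtain ⟨i, hi⟩ := hg ⟨x, hx⟩
      exact mem_zpowers_three (p3 e he) ⟨i, by simpa using congrArg Subtype.val hi⟩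
    have e3 : e * e * (e * e) = e := by rw [show e * e * (e * e) = e ^ 3 * e by rw [pow_three]; group, p3 e he, one_mul]
    rcases (hg' _ (mem_sup_left (mem_zpowers _))).resolve_left n1 with e1 | e1 <;>
      rcases (hg' _ (mem_sup_right (mem_zpowers _))).resolve_left nb with e2 | e2
    · exact n2 (e1.trans e2.symm)
    · exact n3 (by rw [e1, e2, e3])
    · exact n3 (by rw [e1, e2])
    · exact n2 (e1.trans e2.symm)
  · obtain ⟨n, hn⟩ := IsPGroup.iff_card.1 (show IsPGroup 3 (zpowers X.ρ ⊔ zpowers b : Subgroup G) from fun x =>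
      ⟨1, Subtype.ext (by simpa using p3 _ x.2)⟩)
    rw [hn]
    refine Nat.Coprime.pow_left n ((Nat.Prime.coprime_iff_not_dvd (by norm_num)).2 fun hd => ?_)
    obtain ⟨x, hx⟩ := exists_prime_orderOf_dvd_card' 3 hd
    have h1 : x ^ 3 = 1 := hx ▸ pow_orderOf_eq_one x
    rw [show x = 1 from Subtype.ext (Gam_three hF T hA x.2 (congrArg Subtype.val h1)), orderOf_one] at hx
    norm_num at hx
  · obtain ⟨hx, hc⟩ := hx
    replace hc : Commute x e := mem_centralizer_singleton_iff.1 hc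
    have sq : ∀ y : G, y ^ 3 = 1 → Commute x (y * y) → Commute x y := fun y h c => by
      have := c.mul_right c
      rwa [show y * y * (y * y) = y ^ 3 * y by rw [pow_three]; group, h, one_mul] at this
    have A1 : Commute x X.ρ → x ∈ normalizer (X.R : Set G) := fun c => norm_of_comm hF fun r hr => by
      have h1 := hx.2 r (mem_sup_left hr)
      have h2 : ⁅X.ρ, r⁆ ∈ X.R := mul_mem ((mem_normalizer_iff.1 (X.ρ_mem hF) r).1 hr) (inv_mem hr)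
      rwa [comm_conj, c.eq, mul_inv_cancel_right, show x * r * x⁻¹ = ⁅x, r⁆ * r by rw [commutatorElement_def]; group,
        comm_mul_right, commutatorElement_eq_one_iff_commute.2 (T.rho _ (le_Y hF T h1)), one_mul,
        (X.Y_comm (le_Y hF T h1) h2).eq, mul_inv_cancel_right]
    have A2 : Commute x b → x ∈ normalizer (X.R : Set G) := fun c => mem_normalizer_fintype fun r hr => by
      have c1 := X.Y_comm (b_Y hF T) hr
      have h1 := T.fpf _ (hx.2 r (mem_sup_left hr)) (by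
        rw [commutatorElement_eq_one_iff_commute.2 (show Commute b ⁅x, r⁆ from
          ((c.symm.mul_right c1).mul_right c.symm.inv_right).mul_right c1.inv_right)]; exact one_mem _)
      rw [show x * r * x⁻¹ = ⁅x, r⁆ * r by rw [commutatorElement_def]; group]
      exact mul_mem (zpowers_le.2 X.t_R h1) hr
    have A3 : ∀ a' d, a' ≠ 0 → d ≠ 0 → Commute (X.ll (uu d)) k → Commute x (X.ll (uu d) * (k * X.zz a' * k⁻¹)) →
        x ∈ normalizer (X.R : Set G) := fun a' d ha' hd c1 c => by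
      have kX := X.Y_le_X hk
      have h1 := h3 a' d ha' hd (k⁻¹ * x * k⁻¹⁻¹) (mul_mem (mul_mem (inv_mem kX)
        (X.mem_X.2 (hx.1 _ (t_le hF T (mem_zpowers _))))) (inv_mem (inv_mem kX))) (commute_of_conj (g := k) (by
          rw [show k * (k⁻¹ * x * k⁻¹⁻¹) * k⁻¹ = x by group, (X.zz_ll a' _).eq, ← conj_mul, ← c1.eq,
            mul_inv_cancel_right]; exact c)) fun hd => by
          rw [show orderOf (k⁻¹ * x * k⁻¹⁻¹) = orderOf x from (MulAut.conj k⁻¹).orderOf_eq x] at hd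
          have h0 := (orderOf_pos x).ne'
          have h2 := orderOf_pow_orderOf_div h0 hd
          rw [Gam_three hF T hA (pow_mem hx _) (orderOf_dvd_iff_pow_eq_one.1 h2.dvd), orderOf_one] at h2
          norm_num at h2
      have h2 := conj_t hF kX h1
      rw [show k * (k⁻¹ * x * k⁻¹⁻¹) * k⁻¹ = x by group] at h2
      exact le_normalizer (zpowers_le.2 X.t_R h2)
    have aa : a + a ≠ 0 := by rw [← two_mul]; exact mul_ne_zero hF.two_ne ha
    have oo : (1 + 1 : F) ≠ 0 := by rw [one_add_one_eq_two]; exact hF.two_ne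
    have ck : Commute X.ρ k := T.rho k hk
    have err : X.ρ * X.ρ = X.ll (uu (1 + 1)) := by rw [← uu_mul, map_mul, Loc.ρ]
    obtain ⟨p, hp, q, hq, rfl⟩ := hm e he
    rcases mem_zpowers_three (X.ρ_pow hF) hp with rfl | rfl | rfl <;>
      rcases mem_zpowers_three (b_pow hF T) hq with e2 | e2 | e2 <;> rw [e2] at hc ne
    · simp at ne
    · exact A2 (by simpa using hc)
    · exact A2 (sq b (b_pow hF T) (by simpa using hc))
    · exact A1 (by simpa using hc)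
    · exact A3 a 1 ha one_ne_zero ck (eb ▸ hc)
    · exact A3 _ 1 aa one_ne_zero ck (ebb ▸ hc)
    · exact A1 (sq _ (X.ρ_pow hF) (by simpa using hc))
    · exact A3 a _ ha oo (err ▸ ck.mul_left ck) (eb ▸ err ▸ hc)
    · exact A3 _ _ aa oo (err ▸ ck.mul_left ck) (ebb ▸ err ▸ hc)

theorem cosets {s : G} (hs : s ∈ X.R ⊔ R') :
    s ∈ R' ∨ s * X.I⁻¹ ∈ R' ∨ s * X.J⁻¹ ∈ R' ∨ s * (X.I * X.J)⁻¹ ∈ R' := by
  obtain ⟨r, hr, y, hy, rfl⟩ := (mem0 hF T).1 hs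
  rw [← (X.Y_comm (le_Y hF T hy) hr).eq]
  obtain ⟨e, he, h⟩ := (X.mem_R hF).1 hr
  have h1 := mul_mem hy (t_le hF T (X.mem_zpowers_t.2 he))
  rcases h with rfl | rfl | rfl | rfl
  · exact Or.inl h1
  · exact Or.inr (Or.inl (by simpa [mul_assoc] using h1))
  · exact Or.inr (Or.inr (Or.inl (by simpa [mul_assoc] using h1)))
  · exact Or.inr (Or.inr (Or.inr (by simpa [mul_assoc] using h1)))

/-- the elementary abelian case -/
theorem caseA (hS : X.SC) (h3 : X.T3) {g : G} (hn : g ∈ normalizer ((X.R ⊔ R' : Subgroup G) : Set G)) :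
    g ∈ normalizer (X.R : Set G) := by
  set σ := g * X.ρ * g⁻¹ with hσ
  have nσ : σ ∈ normalizer ((X.R ⊔ R' : Subgroup G) : Set G) := mul_mem (mul_mem hn (ρ_norm hF T hA)) (inv_mem hn)
  have c0 : ∀ y ∈ R', Commute σ y := fun y hy => by
    have := commute_conj g (T.rho _ (le_Y hF T (norm_R' hF T hA (inv_mem hn) hy)))
    rwa [show g * (g⁻¹ * y * g⁻¹⁻¹) * g⁻¹ = y by group] at this
  have fp : ∀ s ∈ X.R, s * s = X.t → σ * s * σ⁻¹ * s⁻¹ ∉ R' := fun s hs e h => by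
    obtain ⟨r, hr, y, hy, e1⟩ := (mem0 hF T).1 ((mem_normalizer_iff.1 (inv_mem hn) s).1 (mem_sup_left hs))
    have h1 := norm_R' hF T hA (inv_mem hn) h
    rw [← commutatorElement_def, comm_conj, ← e1, show g⁻¹ * σ * g⁻¹⁻¹ = X.ρ by rw [hσ]; group, comm_mul_right,
      commutatorElement_eq_one_iff_commute.2 (T.rho _ (le_Y hF T hy)), mul_one, mul_inv_cancel, mul_one] at h1
    have h2 := X.ρ_fpf hF hr (RY hF (mul_mem ((mem_normalizer_iff.1 (X.ρ_mem hF) r).1 hr) (inv_mem hr)) (le_Y hF T h1))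
    have h4 := norm_R' hF T hA hn (e1 ▸ mul_mem (t_le hF T h2) hy : g⁻¹ * s * g⁻¹⁻¹ ∈ R')
    rw [show g * (g⁻¹ * s * g⁻¹⁻¹) * g⁻¹ = s by group] at h4
    exact X.t_ne hF (e ▸ hA s h4)
  have n1 : ∀ s, s * s = X.t → σ * s * σ⁻¹ ∉ R' := fun s e h => by
    have := hA _ h
    rw [conj_mul, e] at this
    exact X.t_ne hF (by simpa using this)
  have tR := t_le hF T (mem_zpowers X.t)
  have mu : ∀ {x y x' y' : G}, x' ∈ X.R → x * x'⁻¹ ∈ R' → y * y'⁻¹ ∈ R' → x * y * (x' * y')⁻¹ ∈ R' :=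
    fun {x y x' y'} h h1 h2 => by
      rw [show x * y * (x' * y')⁻¹ = x * x'⁻¹ * (x' * (y * y'⁻¹) * x'⁻¹) by group]
      exact mul_mem h1 (conj_R' hF T (R_le hF T h) h2)
  have tr : ∀ {x x' x'' : G}, x * x'⁻¹ ∈ R' → x' = X.t * x'' ∨ x'' = X.t * x' → x * x''⁻¹ ∈ R' :=
    fun {x x' x''} h e => by
      rcases e with rfl | rfl
      · simpa [mul_assoc] using mul_mem h tR
      · simpa [mul_assoc] using mul_mem h (inv_mem tR)
  have fin : ∀ p ∈ normalizer (X.R : Set G), (∀ y ∈ R', Commute p y) → σ * X.I * σ⁻¹ * (p * X.I * p⁻¹)⁻¹ ∈ R' →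
      σ * X.J * σ⁻¹ * (p * X.J * p⁻¹)⁻¹ ∈ R' → σ ∈ normalizer (X.R : Set G) := fun p hp cp h1 h2 => by
    have f : ∀ s, σ * s * σ⁻¹ * (p * s * p⁻¹)⁻¹ ∈ R' → ⁅p⁻¹ * σ, s⁆ ∈ R' := fun s h => by
      rwa [show ⁅p⁻¹ * σ, s⁆ = p⁻¹ * (σ * s * σ⁻¹ * (p * s * p⁻¹)⁻¹ * p) by rw [commutatorElement_def]; group,
        ← (cp _ h).eq, inv_mul_cancel_left]
    exact (mul_mem_cancel_left (inv_mem hp)).1 (Gam_le hF T hA hS h3 (mem_Gam hF T hA
      (fun y hy => (cp y hy).inv_left.mul_left (c0 y hy)) (f _ h1) (f _ h2)))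
  have cρ : ∀ y ∈ R', Commute X.ρ y := fun y hy => T.rho y (le_Y hF T hy)
  have hI := ((cosets hF T hA ((mem_normalizer_iff.1 nσ _).1 (mem_sup_left X.I_R))).resolve_left
    (n1 _ X.I_sq)).resolve_left (fp _ X.I_R X.I_sq)
  have hJ := (cosets hF T hA ((mem_normalizer_iff.1 nσ _).1 (mem_sup_left X.J_R))).resolve_left (n1 _ X.J_sq)
  have hIJ := fp _ (mul_mem X.I_R X.J_R) (X.IJ_sq hF)
  have JI := X.J_I hF
  have hσR : σ ∈ normalizer (X.R : Set G) := by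
    rcases hI with hI | hI <;> rcases hJ with hJ | hJ | hJ
    · exact absurd (tr (by rw [← conj_mul]; exact mu X.J_R hI hJ) (Or.inl JI)) hIJ
    · exact absurd hJ (fp _ X.J_R X.J_sq)
    · exact fin _ (X.ρ_mem hF) cρ (X.ρ_I ▸ hI) (by rw [X.ρ_J hF]; exact tr hJ (Or.inr JI))
    · refine fin (X.ρ * X.ρ) (mul_mem (X.ρ_mem hF) (X.ρ_mem hF)) (fun y hy => (cρ y hy).mul_left (cρ y hy)) ?_ ?_
      · rw [show X.ρ * X.ρ * X.I * (X.ρ * X.ρ)⁻¹ = X.ρ * (X.ρ * X.I * X.ρ⁻¹) * X.ρ⁻¹ by group, X.ρ_I, X.ρ_J hF]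
        exact tr hI (Or.inr JI)
      · rwa [show X.ρ * X.ρ * X.J * (X.ρ * X.ρ)⁻¹ = X.ρ * (X.ρ * X.J * X.ρ⁻¹) * X.ρ⁻¹ by group, X.ρ_J hF, ← conj_mul,
          X.ρ_J hF, X.ρ_I, JI, mul_assoc X.t, mul_assoc X.I, X.J_sq, (X.R_comm_t hF X.I_R).eq, ← mul_assoc X.t, X.t_sq,
          one_mul]
    · exact absurd hJ (fp _ X.J_R X.J_sq)
    · have h1 := mu (mul_mem X.I_R X.J_R) hI hJ
      rw [conj_mul, X.IJ_sq hF] at h1
      exact absurd ((mul_mem_cancel_right (inv_mem tR)).1 h1) (n1 _ (X.IJ_sq hF))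
  refine norm_of_comm hF fun r hr => ?_
  obtain ⟨s, hs, y, hy, e⟩ := (mem0 hF T).1 ((mem_normalizer_iff.1 hn r).1 (mem_sup_left hr))
  rw [comm_conj, ← e, comm_mul_right, commutatorElement_eq_one_iff_commute.2 (c0 y hy), mul_one, mul_inv_cancel, mul_one]
  exact mul_mem ((mem_normalizer_iff.1 hσR s).1 hs) (inv_mem hs)

end A

end CL.Hay.SylA

namespace CL.Hay

universe u v

/-- (HAY-1A) -/
theorem sylThm : SylThm.{u, v} := fun G _ _ F _ _ X hF hS h3 S R' b T => by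
  have : Fact (Nat.Prime 2) := ⟨Nat.prime_two⟩
  refine isSylowIn_of_normalizer hF (T.syl.le.trans (X.norm_R_le_X hF)) T.syl.isPGroup fun U hU h1 h2 h4 =>
    (T.syl.eq_of_le hU h1 fun g hg => ?_).le
  have h5 := SylA.step1 hF T (h2 hg) (h4 hg)
  by_cases hA : ∀ y ∈ R', y * y = 1
  · exact SylA.caseA hF T hA hS h3 h5
  · push Not at hA
    obtain ⟨y, hy, h⟩ := hA
    exact SylA.caseB hF T hS (fun x hx => SylA.dich hF T hy h hx) (h2 hg) h5

end CL.Hay
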