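/-
Project HAY, job 2A (helper14): in the open case `C(R) = L ^ w` centralises `L`.
-/
import Cfsg.Agent.Hay.Defs2
import Cfsg.Agent.S0058
import Cfsg.Agent.Odd.FT
import Cfsg.Agent.Inv.ZStar1
import Cfsg.Agent.Grp.Primitive

set_option autoImplicit false
set_option linter.unusedSectionVars false

open Subgroup Matrix CL.Grp
open scoped MatrixGroups commutatorElement

namespace CL.Hay

universe u v

/-- `SL₂(F)` is generated by the upper unitriangular matrices and `ii`. -/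
theorem closure_uu_ii {F : Type*} [Field F] {K : Subgroup SL(2, F)} (h1 : ∀ d, uu d ∈ K) (h2 : ii F ∈ K) : K = ⊤ := by
  have key : ∀ g : SL(2, F), g.1 1 0 ≠ 0 → g ∈ K := fun g hg => by
    have hd := g.det_coe
    rw [det_fin_two] at hd
    have e : g * ii F = uu ((g.1 0 0 - 1) / g.1 1 0) * ii F * uu (-g.1 1 0) * (-1 * ii F) *
        uu ((g.1 1 1 - 1) / g.1 1 0) * ii F := by
      congr 1
      ext i j
      fin_cases i <;> fin_cases j <;> simp [uu_val, ii_val, Matrix.mul_apply, Fin.sum_univ_two] <;> field_simp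
      · ring
      · linear_combination -hd
      · ring
    rw [mul_right_cancel e, ← ii_sq]
    exact mul_mem (mul_mem (mul_mem (mul_mem (h1 _) h2) (h1 _)) (mul_mem (mul_mem h2 h2) h2)) (h1 _)
  refine eq_top_iff.2 fun g _ => ?_
  by_cases hg : g.1 1 0 = 0
  · refine (mul_mem_cancel_right h2).1 (key _ ?_)
    have hd := g.det_coe
    rw [det_fin_two, hg] at hd
    simp only [val_mul, ii_val, Matrix.mul_apply, Fin.sum_univ_two]
    simpa using fun e : g.1 1 1 = 0 => by simp [e] at hd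
  · exact key g hg

namespace Loc

variable {G : Type u} [Group G] [Finite G] {F : Type v} [Field F] [Fintype F] (X : Loc G F) (hF : Fq F)
include hF

theorem opA_LY {y : G} (h1 : y ∈ X.L) (h2 : y ∈ X.Y) : y ∈ zpowers X.t := by
  obtain ⟨g, rfl⟩ := X.mem_L.1 h1
  obtain ⟨a, e | e⟩ := X.mem_YC hF h2 (X.ll_C g)
  · rw [(X.zl_inj (a := 0) (b := a) (g := g) (h := 1) (by rw [X.zz_zero, one_mul, map_one, mul_one, e])).2, map_one]
    exact one_mem _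
  · rw [(X.zl_inj (a := 0) (b := a) (g := g) (h := -1) (by rw [X.zz_zero, one_mul]; exact e)).2]
    exact mem_zpowers _

theorem opA_not_cyclic : ¬ IsCyclic X.Z := fun h => by
  have h1 : Nat.card X.Z ∣ 3 := by
    rw [← IsCyclic.exponent_eq_card]
    exact Monoid.exponent_dvd_of_forall_pow_eq_one fun ⟨z, hz⟩ => Subtype.ext (by
      obtain ⟨a, rfl⟩ := X.mem_Z.1 hz; exact X.zz_pow hF a)
  have h2 := Nat.le_of_dvd (by decide) h1
  have h3 := hF.card_ge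
  rw [X.card_Z, Nat.card_eq_fintype_card] at h2
  omega

omit hF in
theorem opA_notQ {w : G} {a d : F} (ha : a ≠ 0) (e : w * X.zz a * w⁻¹ = X.ll (uu d)) : X.ll (uu d) ∉ X.Q := fun h => by
  obtain ⟨b, v, e1⟩ := X.mem_Q.1 h
  rw [(X.coord_inj ((X.ll_eq _).symm.trans (e1.trans (X.zq_eq b v)))).2.2, map_one, conj_eq_one_iff] at e
  exact X.zz_ne_one ha e

theorem opA_odd {w : G} (wt : Commute w X.t) (h1 : ∀ a, ∃ d, w * X.zz a * w⁻¹ = X.ll (uu d))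
    (h2 : ∀ y, w * y * w⁻¹ ∈ X.L → y ∈ X.Y) : Cfsg.oddCore X.X₀ = ⊥ := by
  by_contra hO
  obtain ⟨M, hM, hle⟩ := exists_isMinNormal_le _ hO
  have ho : Odd (Nat.card M) := Odd.of_dvd_nat CL.Inv.odd_card_oddCore (card_dvd_of_le hle)
  obtain ⟨p, hp, hP, -⟩ := hM.exists_isPGroup (CL.Odd.feit_thompson ho)
  have : Fact p.Prime := ⟨hp⟩
  have : Fact (Nat.Prime 3) := ⟨by norm_num⟩
  obtain ⟨N, hN⟩ : ∃ N, N = M.map X.X₀.subtype := ⟨_, rfl⟩
  have n1 : IsPGroup p N := hN ▸ hP.map _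
  have n2 : N ≠ ⊥ := by rw [hN, Ne, map_eq_bot_iff_of_injective _ (subtype_injective _)]; exact hM.ne_bot
  have n3 : N ≤ X.X₀ := hN ▸ map_subtype_le _
  have n4 : ∀ g ∈ X.X₀, ∀ x ∈ N, g * x * g⁻¹ ∈ N := by
    rintro g hg _ hx
    rw [hN] at hx ⊢
    obtain ⟨x, hx, rfl⟩ := hx
    exact ⟨_, hM.normal.conj_mem x hx ⟨g, hg⟩, rfl⟩
  have n5 : Odd (Nat.card N) := by rwa [hN, card_map_of_injective (subtype_injective _)]
  have n6 : X.Z ≤ normalizer (N : Set G) := fun z hz => mem_normalizer_fintype (n4 z (X.Z_le_X hz))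
  by_cases h3 : p = 3
  · subst h3
    have h4 : N ⊓ X.C ≤ X.Q := X.le_Q hF n1.to_inf_left inf_le_right fun g x hx =>
      ⟨n4 _ (X.L_le_X (X.ll_mem g)) x hx.1, X.C.mul_mem (X.C.mul_mem (X.ll_C g) hx.2) (X.C.inv_mem (X.ll_C g))⟩
    obtain ⟨⟨x, x1, x2⟩, hx⟩ := (ne_bot_iff_exists_ne_one).1 (inf_centralizer_ne_bot_of_isPGroup (X.isPGroup_Z hF) n6
      ((n1.card_eq_or_dvd).resolve_left fun e => n2 (card_eq_one.1 e)))
    have x3 : x ∈ X.C := mem_centralizer_singleton_iff.2 (x2 _ (X.zz_mem 1)).symm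
    obtain ⟨a, g, e⟩ := X.mem_CX hF x3 (X.mem_X.1 (n3 x1))
    obtain ⟨b, v, e1⟩ := X.mem_Q.1 (h4 ⟨x1, x3⟩)
    rw [(X.coord_inj ((X.zl_eq a g).symm.trans (e.symm.trans (e1.trans (X.zq_eq b v))))).2.2, map_one, mul_one] at e
    obtain ⟨d, e2⟩ := h1 a
    exact X.opA_notQ (fun e0 => hx (Subtype.ext (by rw [e0, X.zz_zero] at e; exact e))) e2
      (h4 ⟨e2 ▸ n4 w (X.mem_X.2 wt) _ (e ▸ x1), X.ll_C _⟩)
  · have : IsMulCommutative X.Z := ⟨⟨fun a b => Subtype.ext (by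
      obtain ⟨c, hc⟩ := X.mem_Z.1 b.2
      rw [coe_mul, coe_mul, hc]
      exact (X.C_comm (X.Z_le_C a.2) c).eq)⟩⟩
    have h4 : N ≤ X.C := by
      rw [← Cfsg.Agent.S0058.result X.Z N (X.opA_not_cyclic hF) n6
        (IsPGroup.coprime_card_of_ne 3 p (Ne.symm h3) _ _ (X.isPGroup_Z hF) n1)]
      refine iSup₂_le fun z hz => inf_le_right.trans ?_
      obtain ⟨a, rfl⟩ := X.mem_Z.1 hz.1
      exact (X.C_eq fun e => hz.2 (by rw [e, X.zz_zero])).le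
    have h5 : N ≤ X.L := fun x hx => by
      obtain ⟨a, g, rfl⟩ := X.mem_CX hF (h4 hx) (X.mem_X.1 (n3 hx))
      obtain ⟨k, hk⟩ := n1 ⟨_, hx⟩
      have e : (X.zz a * X.ll g) ^ p ^ k = 1 := congrArg Subtype.val hk
      obtain ⟨b, hb⟩ := X.mem_Z.1 (pow_mem (X.zz_mem a) (p ^ k))
      rw [(X.zz_ll a g).mul_pow, hb, ← map_pow] at e
      rw [(X.zl_inj (b := 0) (h := 1) (e.trans (by rw [X.zz_zero, map_one, mul_one]))).1, X.zz_zero] at hb
      rw [(pow_eq_one_iff_of_coprime (((Nat.coprime_primes hp Nat.prime_three).2 h3).pow_left k)).1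
        ⟨hb, X.zz_pow hF a⟩, one_mul]
      exact X.ll_mem g
    refine n2 (eq_bot_iff.2 fun x hx => ?_)
    rcases X.mem_zpowers_t.1 (X.opA_LY hF (h5 hx) (h2 x (h5 (n4 w (X.mem_X.2 wt) x hx)))) with e | e
    · exact e
    · exact absurd hx (e ▸ CL.Inv.not_mem_of_odd_card n5 (X.orderOf_t hF))

theorem opA_ops (hO : X.OP) (hY : X.YF) (top : X.X₀ ⊔ Cfsg.oddCore G ≠ ⊤) : ∃ w, X.Ops w := by
  obtain ⟨⟨w, wt, h1, h2⟩, h3⟩ := hO
  have inj : ∀ {x y : G}, w * x * w⁻¹ = w * y * w⁻¹ → x = y := fun e => mul_left_cancel (mul_right_cancel e)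
  have h1' : ∀ d, ∃ a, w * X.zz a * w⁻¹ = X.ll (uu d) := fun d => by
    choose f hf using h1
    obtain ⟨a, rfl⟩ := Finite.surjective_of_injective (f := f)
      (fun a b e => X.zz_inj (inj (by rw [hf, hf, e]))) d
    exact ⟨a, hf a⟩
  have h2' : ∀ a, ∃ d, w * X.ll (uu d) * w⁻¹ = X.zz a := fun a => by
    choose f hf using h2
    obtain ⟨d, rfl⟩ := Finite.surjective_of_injective (f := f)
      (fun a b e => uu_inj (X.ll_inj (inj (by rw [hf, hf, e])))) a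
    exact ⟨d, hf d⟩
  have wH : w * w ∈ X.H := by
    obtain ⟨d, e⟩ := h1 1
    obtain ⟨a, e'⟩ := h2 d
    exact X.mem_H_of hF (a := 1) (b := a) (by rw [← e', ← e]; group) one_ne_zero
  obtain ⟨L', hL'⟩ : ∃ L' : Subgroup G, L' = X.L.map (MulAut.conj w).toMonoidHom := ⟨_, rfl⟩
  have l1 : ∀ {y}, y ∈ L' ↔ ∃ g, y = w * X.ll g * w⁻¹ := fun {y} => by
    rw [hL']
    exact ⟨by rintro ⟨_, ⟨g, rfl⟩, rfl⟩; exact ⟨g, rfl⟩, by rintro ⟨g, rfl⟩; exact ⟨_, ⟨g, rfl⟩, rfl⟩⟩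
  have l2 : ∀ {y}, y ∈ L' ↔ w * y * w⁻¹ ∈ X.L := fun {y} => by
    rw [l1, X.mem_L]
    refine ⟨fun ⟨g, e⟩ => ?_, fun ⟨g, e⟩ => ?_⟩
    · obtain ⟨g', e'⟩ := X.HX_conj_L hF wH (wt.mul_left wt) g
      exact ⟨g', by rw [← e', e]; group⟩
    · obtain ⟨g', e'⟩ := X.HX_conj_L hF (inv_mem wH) (wt.mul_left wt).inv_left g
      exact ⟨g', by rw [← e', e]; group⟩
  have eY : X.Y = L' := by
    obtain ⟨a, ea⟩ := h1' 1
    have a0 : a ≠ 0 := by
      rintro rfl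
      rw [X.zz_zero, mul_one, mul_inv_cancel, ← map_one X.ll, ← uu_zero] at ea
      exact zero_ne_one (uu_inj (X.ll_inj ea))
    have key : ∀ y ∈ X.Y, ∃ b g, y = w * (X.zz b * X.ll g) * w⁻¹ := fun y hy => by
      obtain ⟨b, g, e⟩ := X.mem_CX hF (x := w⁻¹ * y * w) ((X.mem_C_iff a0).2 (inj (by
        have := (hY.rho y hy).eq
        rw [ρ, ← ea] at this
        calc _ = y * (w * X.zz a * w⁻¹) := by group
          _ = _ := by rw [← this]; group))) ((wt.inv_left.mul_left (X.mem_X.1 (X.Y_le_X hy))).mul_left wt)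
      exact ⟨b, g, by rw [← e]; group⟩
    refine eq_of_le_of_card_ge (hY.perf.trans (sup_le (commutator_le.2 fun y hy y' hy' => ?_)
      (zpowers_le.2 (l1.2 ⟨-1, (wt.mul_inv_cancel).symm⟩)))) ?_
    · obtain ⟨b, g, rfl⟩ := key y hy
      obtain ⟨b', g', rfl⟩ := key y' hy'
      refine l1.2 ⟨⁅g, g'⁆, ?_⟩
      have e : ∀ (c : F) (x : G), Commute (X.zz c) x → ∀ k, X.zz c * X.ll k * x * (X.zz c * X.ll k)⁻¹ =
          X.ll k * x * (X.ll k)⁻¹ := fun c x hx k => by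
        rw [(X.zz_ll c k).eq, _root_.mul_inv_rev, mul_assoc (X.ll k), ← mul_assoc, mul_assoc (X.ll k),
          hx.mul_inv_cancel]
      rw [map_commutatorElement, ← conjugate_commutatorElement, commutatorElement_def,
        e b _ ((X.zz_comm b b').mul_right (X.zz_ll b g')), mul_assoc (X.ll g * _), mul_assoc (X.ll g),
        ← mul_assoc (X.zz b' * X.ll g'), e b' _ (X.zz_ll b' g).inv_right, commutatorElement_def]
      group
    · rw [hL', card_map_of_injective (MulAut.conj w).injective, hY.card, ← hF.card_SL, Nat.card_congr X.eL.toEquiv]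
  have comm : ∀ l ∈ X.L, ∀ y ∈ X.Y, Commute l y := by
    rintro _ ⟨g, rfl⟩ y hy
    have e : (centralizer {y}).comap X.ll = ⊤ := closure_uu_ii (fun d => by
      obtain ⟨a, e⟩ := h1' d
      obtain ⟨k, rfl⟩ := l1.1 (eY ▸ hy)
      rw [mem_comap, mem_centralizer_singleton_iff, ← e, conj_mul, conj_mul, (X.zz_ll a k).eq])
      (mem_centralizer_singleton_iff.2 (X.Y_comm hy X.I_R).eq.symm)
    exact mem_centralizer_singleton_iff.1 (mem_comap.1 (e ▸ mem_top g))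
  have nor : ∀ n ∈ X.H, Commute n X.t → n ∈ X.L ⊔ X.Y := fun n hn ht => by
    obtain ⟨b, e⟩ := X.H_zz hn 1
    obtain ⟨d, e1⟩ := h2' 1
    obtain ⟨d', e2⟩ := h2' b
    have ne : ∀ {c d}, w * X.ll (uu d) * w⁻¹ = X.zz c → c ≠ 0 → d ≠ 0 := fun {c d} e hc => by
      rintro rfl
      rw [uu_zero, map_one, mul_one, mul_inv_cancel] at e
      exact X.zz_ne_one hc e.symm
    obtain ⟨l, hl, e3⟩ := hF.exists_sq_mul (ne e1 one_ne_zero) (ne e2 (X.conj_ne_zero e one_ne_zero))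
    have y1 : w * X.ll (dd l hl) * w⁻¹ ∈ X.Y := eY ▸ l1.2 ⟨_, rfl⟩
    have y2 : w * X.ll (dd l hl) * w⁻¹ * X.zz 1 * (w * X.ll (dd l hl) * w⁻¹)⁻¹ = w * X.ll (uu (l * l * d)) * w⁻¹ := by
      rw [← e1, ← dd_uu l hl, map_mul, map_mul, map_inv]; group
    generalize w * X.ll (dd l hl) * w⁻¹ = y at y1 y2
    rcases e3 with e3 | e3
    · rw [← e3, e2, ← e] at y2
      obtain ⟨c, g, e4⟩ := X.mem_CX hF (x := y⁻¹ * n) ((X.mem_C_iff one_ne_zero).2 (by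
        rw [commute_iff_eq, ← mul_inv_eq_iff_eq_mul]
        calc _ = y⁻¹ * (n * X.zz 1 * n⁻¹) * y := by group
          _ = _ := by rw [← y2]; group)) ((X.mem_X.1 (X.Y_le_X y1)).inv_left.mul_left ht)
      rw [inv_mul_eq_iff_eq_mul.1 e4]
      exact mul_mem (mem_sup_right y1) (mul_mem (mem_sup_right (X.Z_le_Y (X.zz_mem c))) (mem_sup_left (X.ll_mem g)))
    · rw [← neg_eq_iff_eq_neg.2 e3, ← uu_inv, map_inv, ← conj_inv, e2, ← e] at y2
      refine absurd ?_ (h3 (n⁻¹ * y) 1 one_ne_zero)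
      calc _ = n⁻¹ * (y * X.zz 1 * y⁻¹) * n := by group
        _ = _ := by rw [y2, X.zz_neg]; group
  obtain ⟨l, hl, l', hl', e⟩ := (mem_sup_of_le_normalizer (le_normalizer_of_le_centralizer fun l hl y hy =>
    (comm l hl y hy).eq.symm)).1 (nor _ wH (wt.mul_left wt))
  have m1 : ∀ y, y ∈ X.Y ↔ w * y * w⁻¹ ∈ X.L := fun y => by rw [eY, l2]
  have a1 : w * l * w⁻¹ ∈ X.Y := by obtain ⟨g, rfl⟩ := hl; exact eY ▸ l1.2 ⟨g, rfl⟩
  have a2 := (m1 _).1 hl'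
  have a3 : l⁻¹ * (w * l' * w⁻¹) = l' * (w * l * w⁻¹)⁻¹ := by
    rw [inv_mul_eq_iff_eq_mul, ← mul_assoc, eq_mul_inv_iff_mul_eq, (comm _ a2 _ a1).eq, conj_mul, e]; group
  have a4 := X.opA_LY hF (a3 ▸ mul_mem (inv_mem hl) a2) (mul_mem hl' (inv_mem a1))
  refine ⟨w * l⁻¹, wt.mul_left (X.mem_X.1 (X.L_le_X hl)).inv_left, ?_, fun y => ⟨fun hy => ?_, fun hy => ?_⟩, comm,
    fun n hn ht => ?_, X.opA_odd hF wt h1 fun y => (m1 y).2, top⟩
  · have e1 : w * l⁻¹ * (w * l⁻¹) = l'⁻¹ * (l' * (w * l * w⁻¹)⁻¹) * l' := by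
      calc _ = (w * l * w⁻¹)⁻¹ * (w * w) * l⁻¹ := by group
        _ = _ := by rw [← e, (comm l hl l' hl').eq]; group
    rw [e1]
    rcases X.mem_zpowers_t.1 a4 with e2 | e2 <;> rw [e2]
    · simp
    · rw [mul_assoc, ← (X.mem_X.1 (X.Y_le_X hl')).eq, inv_mul_cancel_left]; exact mem_zpowers _
  · rwa [_root_.mul_inv_rev, mul_assoc w, ← mul_assoc, mul_assoc w, (comm _ (inv_mem hl) y hy).mul_inv_cancel, ← m1]
  · rw [_root_.mul_inv_rev, mul_assoc w, ← mul_assoc, mul_assoc w, ← m1] at hy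
    rw [show y = l * (l⁻¹ * y * l⁻¹⁻¹) * l⁻¹ by group, (comm l hl _ hy).mul_inv_cancel]
    exact hy
  · obtain ⟨y, hy, e1⟩ := X.frattini_Y hF hn
    exact (mul_mem_cancel_left (mem_sup_right hy)).1 (nor _ e1 ((X.mem_X.1 (X.Y_le_X hy)).mul_left ht))

end Loc

theorem opA_of (h1 : YThm.{u, v}) (h2 : Iso1.{u, v}) (h3 : OddQ.{u, v}) : OpA.{u, v} := fun G _ _ F _ _ X hF hO => by
  have out : X.Out := fun s hs _ hc => by
    by_contra hC
    obtain ⟨g, rfl⟩ := isConj_iff.1 hc.symm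
    exact hO.2 _ 1 one_ne_zero (X.invert hs hC (by rw [conj_mul, X.t_sq]; simp) 1)
  have noQ : ¬ ∃ a, a ≠ 0 ∧ ∀ g, g * X.zz a * g⁻¹ ∈ X.Q := fun ⟨a, ha, h⟩ => by
    obtain ⟨⟨w, -, e, -⟩, -⟩ := hO
    obtain ⟨d, e⟩ := e a
    exact X.opA_notQ ha e (e ▸ h w)
  exact X.opA_ops hF hO ((h1 G F X hF).resolve_left fun h => noQ (h3 G F X hF (Or.inl (h2 G F X hF h out))))
    fun e => noQ (h3 G F X hF (Or.inr e))

end CL.Hay
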